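/-
The stabiliser of an octad in `M24`.
-/
import Cfsg.Agent.H56.SubTools
import Cfsg.Agent.H97.M24Six
import Cfsg.Agent.S0381

set_option autoImplicit false
set_option maxRecDepth 100000
open Cfsg MulAction
open scoped Pointwise

namespace Cfsg.Agent.H56

open H14 H55

theorem ot_fx : cSet.chkFix (5279 : ℕ)
    0x945b6340b474ee0a91e812d213b143740a6ba28b7ce4cb2aad0c5243886044e06951d17b6e129169556c713003b19ee2c5309b50c586b70524a390629d6d12ae46722ec792091b68250407a35eb896159da4c412e9399c2504608ccd02bef56d1234296e0da4c01c82ad2d06c917498aa781d33ae24185826ceb489ace4256a2820f0de4c110e39c96d7d517896c3a28d0025c4130e1821e975e4d9c683a9ecb214cc02822b22097365535ca08a96f1526309187599a88baa994ec0a0eef140ac0a8e4b510f69a72bc16a886a51392720c0cb9a338516e4cac428db53bd0a0082cbdab49ca307b9ac5a928398a418820 = true := by decide +kernel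

theorem ot_low : 15 ≤ (orbit (stabilizer M24 (bits 5279)) (fam tr0)).ncard :=
  cSet.le_orbit' cFam (ca := (5279 : ℕ)) (a := (bits 5279)) (⟨by norm_num, rfl⟩) ot_fx (c := ([5279, 1009728, 15762208] : List ℕ)) (relL_fam (by decide +kernel))
  (unpack 256 [0x10d120f84b208100502d20b227504]) 15 (by decide +kernel)

theorem ott_fx : (cProd cSet cFam).chkFix ((5279 : ℕ), ([5279, 1009728, 15762208] : List ℕ))
    0xbd9345c64d29a0a9b2a83b9e0188242d6d481a6e445a758137149ea205837a6a88c9a62ce0470af63ae8100d4c8466b4d0af756e740a4d658ca08c04bda8594e0e42cca685e9146a361c042a6c883566bcdc78a9f40caa400d825c9b3796b4322c44aa1115dcc08ce081a33a5cb693d04a89ab525c1180ecbd68999a2e2c244682c852de309d82b26979c1abab8c0909e51c50c0a887a5aa592e1149a607090f636e30a8e4934d1ad2e85a5e428a6e55a0c00ce1835d1abef431501b324b52660110e37a2f532e332b60c71d3424ac050462abcb49c9a64c5c2802c852eec19027bdab49ca307b9ac5a928398a418820 = true := by decide +kernel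

theorem ott_low : 14 ≤ (orbit (stabilizer M24 ((bits 5279), (fam tr0))) (fam [5279, 8077824, 8694112])).ncard :=
  (cProd cSet cFam).le_orbit' cFam (ca := ((5279 : ℕ), ([5279, 1009728, 15762208] : List ℕ))) (a := ((bits 5279), (fam tr0))) (⟨⟨by norm_num, rfl⟩, relL_fam (by decide +kernel)⟩) ott_fx (c := ([5279, 8077824, 8694112] : List ℕ)) (relL_fam (by decide +kernel))
  (unpack 256 [0x9242730d520a5404030206131001]) 14 (by decide +kernel)

theorem ot_trans {o : Finset GolayPt} (ho : o ∈ octads) {T : Finset (Finset GolayPt)} (hT : T ∈ trios)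
    (h : o ∈ T) : ∃ g : M24, g • (bits 5279, fam tr0) = (o, T) :=
  trans_flag (B := fun o => {T | T ∈ trios ∧ o ∈ T})
    (fun g _ _ h => ⟨smul_mem_trios g h.1, Finset.smul_mem_smul_finset h.2⟩) (Set.toFinite _)
    ⟨tr0_mem, tr0_rel.mem.2 ⟨_, by decide, rfl⟩⟩ (ncard_trios_mem oct0_mem ▸ ot_low)
    (oct_trans o ho) ⟨hT, h⟩

theorem ott_trans {o : Finset GolayPt} (ho : o ∈ octads) {T U : Finset (Finset GolayPt)}
    (hT : T ∈ trios) (h : o ∈ T) (hU : U ∈ trios) (h' : o ∈ U) (hne : T ≠ U) :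
    ∃ g : M24, g • ((bits 5279, fam tr0), fam [5279, 8077824, 8694112]) = ((o, T), U) := by
  refine trans_flag (B := fun a : Finset GolayPt × Finset (Finset GolayPt) =>
    {T | T ∈ trios ∧ a.1 ∈ T} \ {a.2}) (fun g _ _ h => ⟨⟨smul_mem_trios g h.1.1,
      Finset.smul_mem_smul_finset h.1.2⟩, fun e => h.2 (smul_left_cancel g e)⟩) (Set.toFinite _)
    ⟨⟨H97.fam_mem_trios (by decide +kernel), (relL_fam (by decide +kernel)).mem.2
      ⟨_, by decide, rfl⟩⟩, by decide +kernel⟩ ?_ (ot_trans ho hT h) ⟨⟨hU, h'⟩, hne.symm⟩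
  refine le_trans (Set.ncard_diff_singleton_of_mem (s := {T | T ∈ trios ∧ bits 5279 ∈ T})
    ⟨tr0_mem, tr0_rel.mem.2 ⟨_, by decide, rfl⟩⟩).le ?_
  rw [ncard_trios_mem oct0_mem]
  exact ott_low

/-- the stabiliser of an octad -/
abbrev octH (o : Finset GolayPt) : Subgroup (Equiv.Perm GolayPt) :=
  M24 ⊓ stabilizer (Equiv.Perm GolayPt) o

/-- the pointwise stabiliser of an octad -/
abbrev octK (o : Finset GolayPt) : Subgroup (Equiv.Perm GolayPt) :=
  M24 ⊓ fixingSubgroup (Equiv.Perm GolayPt) (o : Set GolayPt)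

variable {o : Finset GolayPt}

theorem mem_octK {g : Equiv.Perm GolayPt} : g ∈ octK o ↔ g ∈ M24 ∧ ∀ p ∈ o, g p = p :=
  and_congr_right fun _ => mem_fixingSubgroup_iff _

theorem octK_le : octK o ≤ octH o := fun g hg => ⟨hg.1, smul_eq_of_forall_mem (g := ⟨g, hg.1⟩)
  fun a ha => show g a ∈ o by rwa [(mem_octK.1 hg).2 a ha]⟩

theorem card_octH (ho : o ∈ octads) : Nat.card (octH o) = 322560 := by
  rw [← card_stab_octad ho, ← card_incl_range]
  congr 2
  ext g
  exact ⟨fun h => mem_pst.2 ⟨h.1, h.2⟩, fun h => let ⟨h1, h2⟩ := mem_pst.1 h; ⟨h1, h2⟩⟩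

/-- the action on the octad -/
def octRes (o : Finset GolayPt) : octH o →* Equiv.Perm o :=
  H97.resHom (octH o).subtype o fun h _ hp => H97.apply_mem_of_smul_eq h.2.2 hp

theorem mem_ker_octRes {g : octH o} : octRes o g = 1 ↔ g.1 ∈ octK o :=
  (H97.resHom_eq_one_iff _ _ _ g).trans ⟨fun h => mem_octK.2 ⟨g.2.1, h⟩, fun h => (mem_octK.1 h).2⟩

theorem range_octRes (ho : o ∈ octads) : (octRes o).range = alternatingGroup o := by
  have h1 : (octRes o).ker = (octK o).subgroupOf (octH o) := Subgroup.ext fun _ => mem_ker_octRes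
  have h2 := (octRes o).ker.index_mul_card
  rw [Subgroup.index_ker, card_octH ho, h1,
    Nat.card_congr (Subgroup.subgroupOfEquivOfLe octK_le).toEquiv, (S0381.result o ho).1] at h2
  have h3 := (octRes o).range.index_mul_card
  rw [Nat.card_perm, Nat.card_eq_fintype_card (α := o), Fintype.card_coe, octad_card ho,
    show Nat.card (octRes o).range = 20160 by omega, show Nat.factorial 8 = 40320 by decide] at h3
  exact Equiv.Perm.eq_alternatingGroup_of_index_eq_two (by omega)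

theorem octK_trans (ho : o ∈ octads) {y z : GolayPt} (hy : y ∉ o) (hz : z ∉ o) :
    ∃ e ∈ octK o, e y = z := by
  obtain ⟨T, O, -, h1, -⟩ := exists_sylow_oct
  obtain ⟨g, hg, rfl⟩ := m24_octad_transitive h1.mem ho
  obtain ⟨e, -, h2, h3⟩ := (h1.conj (H := ⊤) ⟨g, hg⟩ fun _ _ _ => trivial).out y hy z hz
  exact ⟨e, mem_octK.2 ⟨e.2, h2⟩, h3⟩

theorem octK_inf (ho : o ∈ octads) {p : GolayPt} (hp : p ∉ o) :
    octK o ⊓ stabilizer (Equiv.Perm GolayPt) p = ⊥ := by
  have h1 := card_eq_orbit_mul (octK o) p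
  have h2 : (oᶜ : Finset GolayPt).card ≤ {a | ∃ g ∈ octK o, g • p = a}.ncard := by
    rw [← Set.ncard_coe_finset]
    exact Set.ncard_le_ncard (fun z hz => octK_trans ho hp (Finset.mem_compl.1 hz)) (Set.toFinite _)
  rw [Finset.card_compl, octad_card ho, card_golayPt] at h2
  rw [(S0381.result o ho).1] at h1
  refine Subgroup.eq_bot_of_card_le _ (not_lt.1 fun h => ?_)
  nlinarith

theorem exists_octK_mul (ho : o ∈ octads) {p : GolayPt} (hp : p ∉ o) {h : Equiv.Perm GolayPt}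
    (hh : h ∈ octH o) : ∃ e ∈ octK o, e * h ∈ octH o ⊓ stabilizer (Equiv.Perm GolayPt) p := by
  obtain ⟨e, he, h1⟩ := octK_trans ho (y := h p)
    (fun hc => hp ((smul_mem_iff_of_smul_eq (g := ⟨h, hh.1⟩) hh.2).1 hc)) hp
  exact ⟨e, he, Subgroup.mul_mem _ (octK_le he) hh, h1⟩

/-- the pointwise stabiliser of an octad fixes the trios through it -/
theorem octK_fix_trio (ho : o ∈ octads) {e : Equiv.Perm GolayPt} (he : e ∈ octK o)
    {T : Finset (Finset GolayPt)} (hT : T ∈ trios) (h : o ∈ T) : e • T = T := by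
  let B : SubMulAction (octK o) (Finset (Finset GolayPt)) :=
    ⟨{T | T ∈ trios ∧ o ∈ T}, fun k T h => ⟨H97.smul_mem_trios k.2.1 h.1, by
      have := Finset.smul_mem_smul_finset (a := k.1) h.2
      rwa [(octK_le k.2).2] at this⟩⟩
  obtain ⟨⟨U, hU⟩, h1⟩ := (IsPGroup.of_card (p := 2) (n := 4)
    (S0381.result o ho).1).nonempty_fixed_point_of_prime_not_dvd_card B (by
      rw [show Nat.card B = 15 from (Nat.card_coe_set_eq _).trans (ncard_trios_mem ho)]; decide)
  obtain ⟨a, ha⟩ := ot_trans ho hT h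
  obtain ⟨b, hb⟩ := ot_trans ho hU.1 hU.2
  have h2 : (b * a⁻¹) • (o, T) = (o, U) := by rw [← ha, mul_smul, inv_smul_smul, hb]
  generalize b * a⁻¹ = c at h2
  have h3 : c.1 • o = o := congrArg Prod.fst h2
  have h4 : c.1 • T = U := congrArg Prod.snd h2
  have h5 : c.1 * e * c.1⁻¹ ∈ octK o := mem_octK.2 ⟨M24.mul_mem (M24.mul_mem c.2 he.1)
    (M24.inv_mem c.2), fun p hp => by
      rw [Equiv.Perm.mul_apply, Equiv.Perm.mul_apply, (mem_octK.1 he).2 _
        (H97.apply_mem_of_smul_eq (inv_smul_eq_iff.2 h3.symm) hp)]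
      simp⟩
  have h6 : (c.1 * e * c.1⁻¹) • U = U := congrArg Subtype.val (h1 ⟨_, h5⟩)
  rwa [← h4, mul_smul, mul_smul, inv_smul_smul, smul_left_cancel_iff] at h6

end Cfsg.Agent.H56
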