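/-
The stabiliser `M12` of the dodecad `bits 340831` in `M24`: order, three stabiliser chains, transitivity.
-/
import Cfsg.Agent.H55.Dodecad
import Cfsg.Agent.H56.Stab

set_option autoImplicit false
open Cfsg MulAction
open scoped Pointwise

namespace Cfsg.Agent.H56

open H14 H55

def m12G : List ℕ := [nat_lit 0xbdab4791c351d00895a158a7283126, nat_lit 0x9da27b82862d5a37b9905117248448, nat_lit 0x7c54e9816829c92b5523b8a81619b0]
def m12AL0 : Lev := ⟨nat_lit 0, nat_lit 0x5335f, (.node (nat_lit 8) (.node (nat_lit 3) (.node (nat_lit 1) (.leaf (nat_lit 0xbdab49ca307b9ac5a928398a418820)) (.node (nat_lit 2) (.leaf (nat_lit 0x558f1b8a8c7d4232acd0991d243409)) (.leaf (nat_lit 0xbdab4548f02ac2674d098b1e4181a2)))) (.node (nat_lit 4) (.leaf (nat_lit 0x538a779a219ae44b55b0bb28900903)) (.node (nat_lit 6) (.leaf (nat_lit 0x9da272caa972a08a2da2786e030d84)) (.leaf (nat_lit 0xbdab4291639c5223bc2d701528190c)))))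 (.node (nat_lit 13) (.node (nat_lit 9) (.leaf (nat_lit 0x9c6ab78ed0a5d26715a0508e823241)) (.node (nat_lit 12) (.leaf (nat_lit 0x7d9cbb9a829d51051c032ca246a581)) (.leaf (nat_lit 0xbdab4791c351d00895a158a7283126)))) (.node (nat_lit 16) (.leaf (nat_lit 0x7556a29282bbc12b45a698cec40609)) (.node (nat_lit 18) (.leaf (nat_lit 0x538a79a560ade038d248b09e6091ac)) (.leaf (nat_lit 0x9da27b82862d5a37b9905117248448))))))⟩
def m12AC0 : LevCert := ⟨m12AL0,
    [(nat_lit 12, nat_lit 0), (nat_lit 18, nat_lit 1), (nat_lit 2, nat_lit 0), (nat_lit 9, nat_lit 1), (nat_lit 3, nat_lit 2), (nat_lit 4, nat_lit 0), (nat_lit 6, nat_lit 0), (nat_lit 1, nat_lit 1), (nat_lit 16, nat_lit 0), (nat_lit 8, nat_lit 2), (nat_lit 13, nat_lit 2)],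
    [[nat_lit 0, nat_lit 4, nat_lit 4, nat_lit 2], [nat_lit 2, nat_lit 6, nat_lit 2, nat_lit 2, nat_lit 2, nat_lit 6]],
    [nat_lit 0x7c6ca985623d524a5cd02a1c36c980, nat_lit 0x7da71a12f2aacc971501530f010da0]⟩
def m12AL1 : Lev := ⟨nat_lit 1, nat_lit 0x5335e, (.node (nat_lit 8) (.node (nat_lit 3) (.node (nat_lit 2) (.leaf (nat_lit 0xbdab49ca307b9ac5a928398a418820)) (.leaf (nat_lit 0x3ae379b2922d8c353d02742ad48480))) (.node (nat_lit 4) (.leaf (nat_lit 0x2ae74bb4ec8aa08b544478dd20a4c0)) (.node (nat_lit 6) (.leaf (nat_lit 0xb454f588e39d490a158971ae16c900)) (.leaf (nat_lit 0xadec5a35c354d108bd923856231120))))) (.node (nat_lit 13) (.node (nat_lit 9) (.leaf (nat_lit 0x7da71a12f2aacc971501530f010da0)) (.node (nat_lit 12) (.leaf (nat_lit 0xada978c1e49b98859c2d2a552188c0)) (.leaf (nat_lit 0x9da2fbcab0a2d21729a63a0a410d80)))) (.node (nat_lit 16) (.leaf (nat_lit 0x55e8e28aadb442c9ae497c0e321900)) (.node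 (nat_lit 18) (.leaf (nat_lit 0x3c66b50de1b5106aba0cb90a293520)) (.leaf (nat_lit 0x7c6ca985623d524a5cd02a1c36c980))))))⟩
def m12AC1 : LevCert := ⟨m12AL1,
    [(nat_lit 18, nat_lit 0), (nat_lit 8, nat_lit 1), (nat_lit 2, nat_lit 0), (nat_lit 16, nat_lit 1), (nat_lit 6, nat_lit 0), (nat_lit 9, nat_lit 1), (nat_lit 3, nat_lit 1), (nat_lit 4, nat_lit 1), (nat_lit 13, nat_lit 1), (nat_lit 12, nat_lit 1)],
    [[nat_lit 2, nat_lit 2, nat_lit 0, nat_lit 2], [nat_lit 2, nat_lit 2, nat_lit 2, nat_lit 2, nat_lit 4, nat_lit 4, nat_lit 4, nat_lit 2, nat_lit 4, nat_lit 2]],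
    [nat_lit 0x2be2b38e66b5da9a3888ac94283020, nat_lit 0x51e8f2c2e29b9885d8c98b6a391020]⟩
def m12AL2 : Lev := ⟨nat_lit 2, nat_lit 0x5335c, (.node (nat_lit 9) (.node (nat_lit 4) (.node (nat_lit 3) (.leaf (nat_lit 0xbdab49ca307b9ac5a928398a418820)) (.leaf (nat_lit 0xaceeb8c8ad3a9867b869a42c412020))) (.node (nat_lit 6) (.leaf (nat_lit 0x2be2b38e66b5da9a3888ac94283020)) (.node (nat_lit 8) (.leaf (nat_lit 0xa154bbc2ac8d90d9ba46788e322420)) (.leaf (nat_lit 0xbc68f74949a94885d8623b66683020))))) (.node (nat_lit 13) (.node (nat_lit 12) (.leaf (nat_lit 0x55a74ac0f2795a45dc4888dcc32420)) (.leaf (nat_lit 0x73ceb89aa3b29a2a15889c2e991020))) (.node (nat_lit 16) (.leaf (nat_lit 0x2cd76b8dc48a848a3e0cab4f232420)) (.node (nat_lit 18) (.leaf (nat_lit 0x51e8f2c2e29b9885d8c98b6a391020)) (.leaf (nat_lit 0xb45f3a89442b90959da6bb29280c20))))))⟩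
def m12AC2 : LevCert := ⟨m12AL2,
    [(nat_lit 4, nat_lit 0), (nat_lit 16, nat_lit 1), (nat_lit 9, nat_lit 0), (nat_lit 3, nat_lit 0), (nat_lit 18, nat_lit 1), (nat_lit 12, nat_lit 0), (nat_lit 8, nat_lit 1), (nat_lit 6, nat_lit 0), (nat_lit 13, nat_lit 1)],
    [[nat_lit 2, nat_lit 0, nat_lit 2, nat_lit 2], [nat_lit 2, nat_lit 2, nat_lit 4, nat_lit 4, nat_lit 2]],
    [nat_lit 0x994f1ba1c4b29237d190a997268820, nat_lit 0xa3aeb54a643d90da96037a62660820]⟩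
def m12AL3 : Lev := ⟨nat_lit 3, nat_lit 0x53358, (.node (nat_lit 9) (.node (nat_lit 6) (.node (nat_lit 4) (.leaf (nat_lit 0xbdab49ca307b9ac5a928398a418820)) (.leaf (nat_lit 0xa56f6510b28ada874d867a4e380820))) (.node (nat_lit 8) (.leaf (nat_lit 0x752f68c2683ac8cabe4928d4668820)) (.leaf (nat_lit 0xa3aeb54a643d90da96037a62660820)))) (.node (nat_lit 13) (.node (nat_lit 12) (.leaf (nat_lit 0xbaeae9c1522d18db4464399e848820)) (.leaf (nat_lit 0x994f1ba1c4b29237d190a997268820))) (.node (nat_lit 16) (.leaf (nat_lit 0x5da952c9467b868bc48c3c26968820)) (.node (nat_lit 18) (.leaf (nat_lit 0x51de5a1963acd908d912ba5c468820)) (.leaf (nat_lit 0x545f3a0ec67160c3ada4ba6b240820))))))⟩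
def m12AC3 : LevCert := ⟨m12AL3,
    [(nat_lit 12, nat_lit 0), (nat_lit 8, nat_lit 1), (nat_lit 9, nat_lit 0), (nat_lit 18, nat_lit 0), (nat_lit 13, nat_lit 1), (nat_lit 6, nat_lit 1), (nat_lit 4, nat_lit 0), (nat_lit 16, nat_lit 0)],
    [[nat_lit 0, nat_lit 2, nat_lit 0, nat_lit 0, nat_lit 0, nat_lit 2, nat_lit 0, nat_lit 0, nat_lit 0], [nat_lit 2, nat_lit 4]],
    [nat_lit 0x2ccea5b1c9b448d7d506a42f218820, nat_lit 0x8aa6fa22f2a96093ac8db31c618820]⟩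
def m12AL4 : Lev := ⟨nat_lit 4, nat_lit 0x53350, (.node (nat_lit 12) (.node (nat_lit 8) (.node (nat_lit 6) (.leaf (nat_lit 0xbdab49ca307b9ac5a928398a418820)) (.leaf (nat_lit 0x89df3ac2eda150655992591c918820))) (.node (nat_lit 9) (.leaf (nat_lit 0x75576518ac3dd28a3e449b63018820)) (.leaf (nat_lit 0x8aa6fa22f2a96093ac8db31c618820)))) (.node (nat_lit 16) (.node (nat_lit 13) (.leaf (nat_lit 0xbae957b6289ba44b1cd0524ac18820)) (.leaf (nat_lit 0x2ccea5b1c9b448d7d506a42f218820))) (.node (nat_lit 18) (.leaf (nat_lit 0x752cb3a4a455cd0acdac7ca2818820)) (.leaf (nat_lit 0x2bd47b11c65c5929d209aa2ed18820)))))⟩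
def m12AC4 : LevCert := ⟨m12AL4,
    [(nat_lit 13, nat_lit 0), (nat_lit 9, nat_lit 1), (nat_lit 12, nat_lit 0), (nat_lit 8, nat_lit 1), (nat_lit 16, nat_lit 0), (nat_lit 18, nat_lit 0), (nat_lit 6, nat_lit 1)],
    [],
    []⟩
def m12A : List LevCert := [m12AC0, m12AC1, m12AC2, m12AC3, m12AC4]
def m12AL : List Lev := [m12AL0, m12AL1, m12AL2, m12AL3, m12AL4]
def m12BL0 : Lev := ⟨nat_lit 0, nat_lit 0x5335f, (.node (nat_lit 8) (.node (nat_lit 3) (.node (nat_lit 1) (.leaf (nat_lit 0xbdab49ca307b9ac5a928398a418820)) (.node (nat_lit 2) (.leaf (nat_lit 0x558f1b8a8c7d4232acd0991d243409)) (.leaf (nat_lit 0xbdab4548f02ac2674d098b1e4181a2)))) (.node (nat_lit 4) (.leaf (nat_lit 0x538a779a219ae44b55b0bb28900903)) (.node (nat_lit 6) (.leaf (nat_lit 0x9da272caa972a08a2da2786e030d84)) (.leaf (nat_lit 0xbdab4291639c5223bc2d701528190c))))) (.node (nat_lit 13) (.node (nat_lit 9) (.leaf (nat_lit 0x9c6ab78ed0a5d26715a0508e823241))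 (.node (nat_lit 12) (.leaf (nat_lit 0x7d9cbb9a829d51051c032ca246a581)) (.leaf (nat_lit 0xbdab4791c351d00895a158a7283126)))) (.node (nat_lit 16) (.leaf (nat_lit 0x7556a29282bbc12b45a698cec40609)) (.node (nat_lit 18) (.leaf (nat_lit 0x538a79a560ade038d248b09e6091ac)) (.leaf (nat_lit 0x9da27b82862d5a37b9905117248448))))))⟩
def m12BC0 : LevCert := ⟨m12BL0,
    [(nat_lit 12, nat_lit 0), (nat_lit 18, nat_lit 1), (nat_lit 2, nat_lit 0), (nat_lit 9, nat_lit 1), (nat_lit 3, nat_lit 2), (nat_lit 4, nat_lit 0), (nat_lit 6, nat_lit 0), (nat_lit 1, nat_lit 1), (nat_lit 16, nat_lit 0), (nat_lit 8, nat_lit 2), (nat_lit 13, nat_lit 2)],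
    [[nat_lit 2, nat_lit 4, nat_lit 2, nat_lit 0, nat_lit 0, nat_lit 4, nat_lit 4], [nat_lit 4, nat_lit 4, nat_lit 6, nat_lit 6, nat_lit 2, nat_lit 6, nat_lit 6]],
    [nat_lit 0x3b9f55068c9de4d89602b0d6432500, nat_lit 0x9da87520ac73c72bc426a89696c080]⟩
def m12BL1 : Lev := ⟨nat_lit 1, nat_lit 0x5335e, (.node (nat_lit 8) (.node (nat_lit 3) (.node (nat_lit 2) (.leaf (nat_lit 0xbdab49ca307b9ac5a928398a418820)) (.leaf (nat_lit 0xabdd4890f254d032ad90b36e9104c0))) (.node (nat_lit 4) (.leaf (nat_lit 0x2ddee5a6323a868b54469c28c0b480)) (.node (nat_lit 6) (.leaf (nat_lit 0x558f5899727b9a899482a42e11b120)) (.leaf (nat_lit 0x8be965c2e39a844a9ccd704ac44920))))) (.node (nat_lit 13) (.node (nat_lit 9) (.leaf (nat_lit 0xb4d4e59a838d4883de41788a96b200)) (.node (nat_lit 12) (.leaf (nat_lit 0x9da87520ac73c72bc426a89696c080)) (.leaf (nat_lit 0x53ab62896dbccc13d1037a63093080)))) (.node (nat_lit 16) (.leaf (nat_lit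 0xb5e6f2a2ad51c32a2d8971a241c040)) (.node (nat_lit 18) (.leaf (nat_lit 0x7cef5a12c12a8465c5ac748f04a060)) (.leaf (nat_lit 0x3b9f55068c9de4d89602b0d6432500))))))⟩
def m12BC1 : LevCert := ⟨m12BL1,
    [(nat_lit 18, nat_lit 0), (nat_lit 9, nat_lit 1), (nat_lit 13, nat_lit 0), (nat_lit 12, nat_lit 1), (nat_lit 2, nat_lit 0), (nat_lit 4, nat_lit 1), (nat_lit 3, nat_lit 1), (nat_lit 16, nat_lit 0), (nat_lit 8, nat_lit 0), (nat_lit 6, nat_lit 1)],
    [[nat_lit 0, nat_lit 2, nat_lit 2, nat_lit 0, nat_lit 0, nat_lit 0, nat_lit 0], [nat_lit 4, nat_lit 2, nat_lit 2, nat_lit 2]],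
    [nat_lit 0x2b8eb8929055da99bc62ab2c834820, nat_lit 0x7d62abc1c85d8c4a146c9b4e914820]⟩
def m12BL2 : Lev := ⟨nat_lit 2, nat_lit 0x5335c, (.node (nat_lit 9) (.node (nat_lit 4) (.node (nat_lit 3) (.leaf (nat_lit 0xbdab49ca307b9ac5a928398a418820)) (.leaf (nat_lit 0x7d62abc1c85d8c4a146c9b4e914820))) (.node (nat_lit 6) (.leaf (nat_lit 0xb5eb3a2170795a38a8d23a5c261020)) (.node (nat_lit 8) (.leaf (nat_lit 0x3de932995273d2cb448858aa36c020)) (.leaf (nat_lit 0x2b8eb8929055da99bc62ab2c834820))))) (.node (nat_lit 13) (.node (nat_lit 12) (.leaf (nat_lit 0x3da74725482bcc3bac52892ac6c020)) (.leaf (nat_lit 0x7d56ab40b28dd229b983a34e622020))) (.node (nat_lit 16) (.leaf (nat_lit 0x751513c9e8b5c439d5ac2a56481820)) (.node (nat_lit 18) (.leaf (nat_lit 0x51e8f2c2e29b9885d8c98b6a391020)) (.leaf (nat_lit 0x714f158a70559a6a3d84a8ef24a020))))))⟩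
def m12BC2 : LevCert := ⟨m12BL2,
    [(nat_lit 8, nat_lit 0), (nat_lit 3, nat_lit 1), (nat_lit 4, nat_lit 0), (nat_lit 16, nat_lit 1), (nat_lit 9, nat_lit 0), (nat_lit 18, nat_lit 0), (nat_lit 12, nat_lit 1), (nat_lit 6, nat_lit 0), (nat_lit 13, nat_lit 1)],
    [[nat_lit 0, nat_lit 2, nat_lit 2, nat_lit 0], [nat_lit 2, nat_lit 2, nat_lit 2, nat_lit 2, nat_lit 4, nat_lit 4, nat_lit 4, nat_lit 2, nat_lit 4]],
    [nat_lit 0x89caf71ac9acdb252c90b8e8860820, nat_lit 0x9bceab92885c4692b9b2a9ad060820]⟩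
def m12BL3 : Lev := ⟨nat_lit 5, nat_lit 0xfacca0, (.node (nat_lit 17) (.node (nat_lit 11) (.node (nat_lit 7) (.leaf (nat_lit 0xbdab49ca307b9ac5a928398a418820)) (.node (nat_lit 10) (.leaf (nat_lit 0x756eb8a1f055984a4da628ce990820)) (.leaf (nat_lit 0xa56cb899ed3dc64716089b15248820)))) (.node (nat_lit 14) (.leaf (nat_lit 0x9bceab92885c4692b9b2a9ad060820)) (.node (nat_lit 15) (.leaf (nat_lit 0x3a9f37216ca946d8dcc9b4a8480820)) (.leaf (nat_lit 0xb5e9598ce42b9a65a9098b1f090820))))) (.node (nat_lit 21) (.node (nat_lit 19) (.leaf (nat_lit 0x752cb3a4a455cd0acdac7ca2818820)) (.node (nat_lit 20) (.leaf (nat_lit 0xbd9d52b1449d20859cd288ded48820)) (.leaf (nat_lit 0x3c5e5732e8a4da352e04b4aa930820)))) (.node (nat_lit 22) (.leaf (nat_lit 0x89caf71ac9acdb252c90b8e8860820)) (.node (nat_lit 23) (.leaf (nat_lit 0x9962ab42a959e487b9a3a32e430820)) (.leaf (nat_lit 0x2be2abca8db1cc99d50470d6c80820))))))⟩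
def m12BC3 : LevCert := ⟨m12BL3,
    [(nat_lit 21, nat_lit 0), (nat_lit 11, nat_lit 1), (nat_lit 15, nat_lit 0), (nat_lit 7, nat_lit 1), (nat_lit 10, nat_lit 0), (nat_lit 20, nat_lit 0), (nat_lit 22, nat_lit 1), (nat_lit 17, nat_lit 1), (nat_lit 23, nat_lit 0), (nat_lit 14, nat_lit 1), (nat_lit 19, nat_lit 1)],
    [[nat_lit 2, nat_lit 0, nat_lit 2, nat_lit 0], [nat_lit 2, nat_lit 2, nat_lit 4, nat_lit 4]],
    [nat_lit 0x5daae7b0e39d132ba9a8890a680820, nat_lit 0xb2e8e991437d4cdb9e508b0a940820]⟩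
def m12BL4 : Lev := ⟨nat_lit 3, nat_lit 0x10108, (.node (nat_lit 8) (.leaf (nat_lit 0xbdab49ca307b9ac5a928398a418820)) (.node (nat_lit 16) (.leaf (nat_lit 0xb5dd4799509d4895c5833c8ad40820)) (.leaf (nat_lit 0x5daae7b0e39d132ba9a8890a680820))))⟩
def m12BC4 : LevCert := ⟨m12BL4,
    [(nat_lit 16, nat_lit 0), (nat_lit 8, nat_lit 1)],
    [[nat_lit 2, nat_lit 2, nat_lit 2, nat_lit 2, nat_lit 2, nat_lit 0, nat_lit 2]],
    [nat_lit 0xbae957b6289ba44b1cd0524ac18820]⟩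
def m12BL5 : Lev := ⟨nat_lit 4, nat_lit 0x1010, (.node (nat_lit 12) (.leaf (nat_lit 0xbdab49ca307b9ac5a928398a418820)) (.leaf (nat_lit 0xbae957b6289ba44b1cd0524ac18820)))⟩
def m12BC5 : LevCert := ⟨m12BL5,
    [(nat_lit 12, nat_lit 0)],
    [],
    []⟩
def m12B : List LevCert := [m12BC0, m12BC1, m12BC2, m12BC3, m12BC4, m12BC5]
def m12BL : List Lev := [m12BL0, m12BL1, m12BL2, m12BL3, m12BL4, m12BL5]
def m12CL0 : Lev := ⟨nat_lit 0, nat_lit 0x5335f, (.node (nat_lit 8) (.node (nat_lit 3) (.node (nat_lit 1) (.leaf (nat_lit 0xbdab49ca307b9ac5a928398a418820)) (.node (nat_lit 2) (.leaf (nat_lit 0x558f1b8a8c7d4232acd0991d243409)) (.leaf (nat_lit 0xbdab4548f02ac2674d098b1e4181a2)))) (.node (nat_lit 4) (.leaf (nat_lit 0x538a779a219ae44b55b0bb28900903)) (.node (nat_lit 6) (.leaf (nat_lit 0x9da272caa972a08a2da2786e030d84)) (.leaf (nat_lit 0xbdab4291639c5223bc2d701528190c))))) (.node (nat_lit 13) (.node (nat_lit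 9) (.leaf (nat_lit 0x9c6ab78ed0a5d26715a0508e823241)) (.node (nat_lit 12) (.leaf (nat_lit 0x7d9cbb9a829d51051c032ca246a581)) (.leaf (nat_lit 0xbdab4791c351d00895a158a7283126)))) (.node (nat_lit 16) (.leaf (nat_lit 0x7556a29282bbc12b45a698cec40609)) (.node (nat_lit 18) (.leaf (nat_lit 0x538a79a560ade038d248b09e6091ac)) (.leaf (nat_lit 0x9da27b82862d5a37b9905117248448))))))⟩
def m12CC0 : LevCert := ⟨m12CL0,
    [(nat_lit 12, nat_lit 0), (nat_lit 18, nat_lit 1), (nat_lit 2, nat_lit 0), (nat_lit 9, nat_lit 1), (nat_lit 3, nat_lit 2), (nat_lit 4, nat_lit 0), (nat_lit 6, nat_lit 0), (nat_lit 1, nat_lit 1), (nat_lit 16, nat_lit 0), (nat_lit 8, nat_lit 2), (nat_lit 13, nat_lit 2)],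
    [[nat_lit 0, nat_lit 0, nat_lit 4, nat_lit 0], [nat_lit 4, nat_lit 2, nat_lit 4, nat_lit 6, nat_lit 2, nat_lit 4, nat_lit 6]],
    [nat_lit 0x29e6b7b626adc7075081b31424c900, nat_lit 0x9c4aabc2a673c6c3ac32a22c4489a0]⟩
def m12CL1 : Lev := ⟨nat_lit 5, nat_lit 0xfacca0, (.node (nat_lit 17) (.node (nat_lit 11) (.node (nat_lit 7) (.leaf (nat_lit 0xbdab49ca307b9ac5a928398a418820)) (.node (nat_lit 10) (.leaf (nat_lit 0xaaeea706d08cdb279c892b2821a0c0)) (.leaf (nat_lit 0x9c56ea42a653c4cb1509b84ed90c80)))) (.node (nat_lit 14) (.leaf (nat_lit 0xa1eb79a6307a88c2ba41b196d10d00)) (.node (nat_lit 15) (.leaf (nat_lit 0x559eea8e2c99526bac483c29223420)) (.leaf (nat_lit 0xb52e770ea82cd267a88d8b1620c240))))) (.node (nat_lit 21) (.node (nat_lit 19) (.leaf (nat_lit 0xbd6cb998a87b92ca1db054a2408860)) (.node (nat_lit 20) (.leaf (nat_lit 0x7c55429a6cbd530b390d584e224860)) (.leaf (nat_lit 0x5da6579226ad05055da83b1c392420))))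 (.node (nat_lit 22) (.leaf (nat_lit 0x9c4aabc2a673c6c3ac32a22c4489a0)) (.node (nat_lit 23) (.leaf (nat_lit 0x99627ba2d273c2c550665c2a468920)) (.leaf (nat_lit 0x29e6b7b626adc7075081b31424c900))))))⟩
def m12CC1 : LevCert := ⟨m12CL1,
    [(nat_lit 23, nat_lit 0), (nat_lit 21, nat_lit 1), (nat_lit 14, nat_lit 0), (nat_lit 19, nat_lit 1), (nat_lit 15, nat_lit 0), (nat_lit 17, nat_lit 1), (nat_lit 11, nat_lit 0), (nat_lit 22, nat_lit 1), (nat_lit 20, nat_lit 0), (nat_lit 10, nat_lit 1), (nat_lit 7, nat_lit 0)],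
    [[nat_lit 0, nat_lit 0, nat_lit 0, nat_lit 2, nat_lit 0], [nat_lit 4, nat_lit 4, nat_lit 4, nat_lit 2, nat_lit 2, nat_lit 4]],
    [nat_lit 0x3de9650aa15ce467b9a48b0a344120, nat_lit 0x8d8eaa31d2adc905cd2d798a810460]⟩
def m12CL2 : Lev := ⟨nat_lit 7, nat_lit 0xfacc80, (.node (nat_lit 17) (.node (nat_lit 11) (.node (nat_lit 10) (.leaf (nat_lit 0xbdab49ca307b9ac5a928398a418820)) (.leaf (nat_lit 0x5d5d7526287d8cca1c64984b0909a0))) (.node (nat_lit 14) (.leaf (nat_lit 0xaba76a0de25aa063c50dbc8a123120)) (.node (nat_lit 15) (.leaf (nat_lit 0xade2eb1a62a1c617a9b25b0a482500)) (.leaf (nat_lit 0x759f3542ec3c5125d124a98ad08c40))))) (.node (nat_lit 21) (.node (nat_lit 19) (.leaf (nat_lit 0x7c556984e35d186adc88740a26c920)) (.node (nat_lit 20) (.leaf (nat_lit 0xb468a399c1bd48d7cc505b0a84c860)) (.leaf (nat_lit 0xac6e7986cd5ba067a848a30a41a640)))) (.node (nat_lit 22) (.leaf (nat_lit 0x8d8eaa31d2adc905cd2d798a810460))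 (.node (nat_lit 23) (.leaf (nat_lit 0x89ed7742897a84c5ce43a98a8205a0)) (.leaf (nat_lit 0x3de9650aa15ce467b9a48b0a344120))))))⟩
def m12CC2 : LevCert := ⟨m12CL2,
    [(nat_lit 23, nat_lit 0), (nat_lit 21, nat_lit 1), (nat_lit 22, nat_lit 0), (nat_lit 14, nat_lit 1), (nat_lit 17, nat_lit 0), (nat_lit 15, nat_lit 1), (nat_lit 20, nat_lit 0), (nat_lit 10, nat_lit 0), (nat_lit 11, nat_lit 0), (nat_lit 19, nat_lit 1)],
    [[nat_lit 2, nat_lit 0, nat_lit 0, nat_lit 2, nat_lit 0, nat_lit 0], [nat_lit 2, nat_lit 4, nat_lit 4, nat_lit 2, nat_lit 4, nat_lit 2, nat_lit 2]],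
    [nat_lit 0x9d5ea74a8cb5c895c603398a1121a0, nat_lit 0x73e6ba22a4559b08dd86388a190d20]⟩
def m12CL3 : Lev := ⟨nat_lit 10, nat_lit 0xfacc00, (.node (nat_lit 19) (.node (nat_lit 14) (.node (nat_lit 11) (.leaf (nat_lit 0xbdab49ca307b9ac5a928398a418820)) (.leaf (nat_lit 0x9d6eb88acda3c2953a0638ca492180))) (.node (nat_lit 15) (.leaf (nat_lit 0x7dd7588a89729a19d8833c8ac32200)) (.node (nat_lit 17) (.leaf (nat_lit 0x73e6ba22a4559b08dd86388a190d20)) (.leaf (nat_lit 0x73ed1bc949acc305d182398ad40c80))))) (.node (nat_lit 21) (.node (nat_lit 20) (.leaf (nat_lit 0xbd9cb50de18d48ca4d263a0ad90a00)) (.leaf (nat_lit 0x9d5ea74a8cb5c895c603398a1121a0))) (.node (nat_lit 22) (.leaf (nat_lit 0xa4d57b21707b82c8d492388a9199a0)) (.node (nat_lit 23) (.leaf (nat_lit 0xb2a9159a61bbda4aba0238ca944980)) (.leaf (nat_lit 0x53a33a8d6cb5da9a3c323a0b011880))))))⟩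
def m12CC3 : LevCert := ⟨m12CL3,
    [(nat_lit 20, nat_lit 0), (nat_lit 15, nat_lit 1), (nat_lit 17, nat_lit 0), (nat_lit 19, nat_lit 1), (nat_lit 21, nat_lit 0), (nat_lit 22, nat_lit 1), (nat_lit 11, nat_lit 1), (nat_lit 23, nat_lit 0), (nat_lit 14, nat_lit 1)],
    [[nat_lit 0, nat_lit 2, nat_lit 0, nat_lit 0, nat_lit 2, nat_lit 0, nat_lit 0, nat_lit 2, nat_lit 2, nat_lit 0], [nat_lit 2, nat_lit 4, nat_lit 2, nat_lit 2, nat_lit 4, nat_lit 4]],
    [nat_lit 0x9da2fbcab0a2d21729a63a0a410d80, nat_lit 0x8adf3a22edaba04b2932398ac10c20]⟩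
def m12CL4 : Lev := ⟨nat_lit 2, nat_lit 12, (.node (nat_lit 3) (.leaf (nat_lit 0xbdab49ca307b9ac5a928398a418820)) (.leaf (nat_lit 0x9da2fbcab0a2d21729a63a0a410d80)))⟩
def m12CC4 : LevCert := ⟨m12CL4,
    [(nat_lit 3, nat_lit 0)],
    [[nat_lit 0, nat_lit 0, nat_lit 2, nat_lit 2, nat_lit 0, nat_lit 2, nat_lit 0, nat_lit 0]],
    [nat_lit 0xaba9779a698ae04b29b23a0a118980]⟩
def m12CL5 : Lev := ⟨nat_lit 1, nat_lit 0x1012, (.node (nat_lit 4) (.leaf (nat_lit 0xbdab49ca307b9ac5a928398a418820)) (.node (nat_lit 12) (.leaf (nat_lit 0xaba9779a698ae04b29b23a0a118980)) (.leaf (nat_lit 0xa2ef58a1ed9d92172a063c8ac18880))))⟩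
def m12CC5 : LevCert := ⟨m12CL5,
    [(nat_lit 4, nat_lit 0), (nat_lit 12, nat_lit 0)],
    [],
    []⟩
def m12C : List LevCert := [m12CC0, m12CC1, m12CC2, m12CC3, m12CC4, m12CC5]
def m12CL : List Lev := [m12CL0, m12CL1, m12CL2, m12CL3, m12CL4, m12CL5]

/-- the standard dodecad -/
abbrev d0 : Finset GolayPt := bits 340831

theorem orbit_d0 : orbit M24 d0 = dodecads := by
  ext d
  exact ⟨fun ⟨g, hg⟩ => hg ▸ m24_smul_mem_dodecads g dod0_mem, fun h => dod_trans d h⟩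

theorem card_stab_d0 : Nat.card (stabilizer M24 d0) = 95040 := by
  have h := card_eq_orbit_mul_stab (G := M24) d0
  rw [orbit_d0, dodecads_ncard, card_M24] at h
  omega

theorem card_stab_dodecad {d : Finset GolayPt} (hd : d ∈ dodecads) :
    Nat.card (stabilizer M24 d) = 95040 := by
  obtain ⟨g, rfl⟩ := dod_trans d hd
  rw [card_stab_smul, card_stab_d0]

theorem rel_d0 : cSet.rel (340831 : ℕ) d0 := ⟨by norm_num, rfl⟩

theorem m12G_ok : chkGens cSet (340831 : ℕ) m12G = true := by decide +kernel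

theorem m12A_chain : GE.IsChain m12AL (pst d0) :=
  isChain_pst cSet rel_d0 (cert := m12A) m12G_ok (by decide +kernel)
    (by rw [card_stab_d0]; decide +kernel)

theorem m12B_chain : GE.IsChain m12BL (pst d0) :=
  isChain_pst cSet rel_d0 (cert := m12B) m12G_ok (by decide +kernel)
    (by rw [card_stab_d0]; decide +kernel)

theorem m12C_chain : GE.IsChain m12CL (pst d0) :=
  isChain_pst cSet rel_d0 (cert := m12C) m12G_ok (by decide +kernel)
    (by rw [card_stab_d0]; decide +kernel)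

theorem smul_mem_of_stab {d : Finset GolayPt} {g : M24} (h : g • d = d) {a : GolayPt} :
    (g : Equiv.Perm GolayPt) a ∈ d ↔ a ∈ d := by
  conv_lhs => rw [← h]
  exact m24_smul_mem_smul g

/-- transitivity on tuples for conjugates of a stabiliser -/
theorem exists_smul_tuple {Ω : Type} [MulAction M24 Ω] {a₀ a : Ω} {Ls : List Lev}
    (hC : GE.PreChain Ls (pst a₀)) (B : Ω → Set GolayPt)
    (hB : ∀ (g : M24) a y, y ∈ B a → g • y ∈ B (g • a)) (m : ℕ)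
    (hm : ∀ y ∈ B a₀, tb m (idx y) = true) (t : ℕ) (hf : fullOK Ls t m = true) {g₀ : M24}
    (h₀ : g₀ • a₀ = a) (x y : Fin t → GolayPt) (hx : Function.Injective x)
    (hy : Function.Injective y) (hxS : ∀ i, x i ∈ B a₀) (hyS : ∀ i, y i ∈ B a) :
    ∃ g : M24, g • a₀ = a ∧ ∀ i, g • x i = y i := by
  obtain ⟨g, hg, e⟩ := hC.exists_forall_apply_eq (B a₀) (fun g hg y hy => by
      obtain ⟨h1, h2⟩ := mem_pst.1 hg
      have := hB ⟨g, h1⟩ a₀ y hy
      rwa [h2] at this) m hm t hf x (fun i => g₀⁻¹ • y i) hx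
    ((MulAction.injective _).comp hy) hxS (fun i => by
      have := hB g₀⁻¹ a _ (hyS i)
      rwa [← h₀, inv_smul_smul] at this)
  obtain ⟨h1, h2⟩ := mem_pst.1 hg
  refine ⟨g₀ * ⟨g, h1⟩, by rw [mul_smul, h2, h₀], fun i => ?_⟩
  rw [mul_smul, show (⟨g, h1⟩ : M24) • x i = g₀⁻¹ • y i from e i, smul_inv_smul]

/-- `M24` is transitive on dodecads with `t ≤ 5` distinct points in them -/
theorem dod_tuple_in {d : Finset GolayPt} (hd : d ∈ dodecads) {t : ℕ} (ht : t ≤ 5)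
    (x y : Fin t → GolayPt) (hx : Function.Injective x) (hy : Function.Injective y)
    (hxS : ∀ i, x i ∈ d0) (hyS : ∀ i, y i ∈ d) : ∃ g : M24, g • d0 = d ∧ ∀ i, g • x i = y i := by
  obtain ⟨g₀, h₀⟩ := dod_trans d hd
  exact exists_smul_tuple m12A_chain.preChain (fun s => (s : Set GolayPt))
    (fun g a y hy => (m24_smul_mem_smul g).2 hy) 340831
    (fun y hy => by rw [tb_eq]; exact mem_bits.1 hy) t
    ((by decide +kernel : ∀ t ≤ 5, fullOK m12AL t 340831 = true) t ht) h₀ x y hx hy hxS hyS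

/-- `M24` is transitive on a dodecad, a point in it and `t ≤ 3` distinct points outside -/
theorem dod_tuple_out {d : Finset GolayPt} (hd : d ∈ dodecads) {p : GolayPt} (hp : p ∈ d) {t : ℕ}
    (ht : t ≤ 3) (x y : Fin t → GolayPt) (hx : Function.Injective x) (hy : Function.Injective y)
    (hxS : ∀ i, x i ∉ d0) (hyS : ∀ i, y i ∉ d) :
    ∃ g : M24, g • (d0, pt 0) = (d, p) ∧ ∀ i, g • x i = y i := by
  obtain ⟨g₀, h₀⟩ := dod_flag_in hd hp
  exact exists_smul_tuple (isChain_tail m12C_chain).preChain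
    (fun s : Finset GolayPt × GolayPt => {y | y ∉ s.1})
    (fun g a y hy h => hy ((m24_smul_mem_smul g).1 h)) 16436384
    (by decide +kernel : ∀ y, y ∉ d0 → tb 16436384 (idx y) = true) t
    ((by decide +kernel : ∀ t ≤ 3, fullOK m12CL.tail t 16436384 = true) t ht) h₀ x y hx hy hxS hyS

theorem m11_chain : GE.IsChain m12AL.tail (pst (d0, pt 0)) := isChain_tail m12A_chain

theorem card_m11 : Nat.card (stabilizer M24 (d0, pt 0)) = 7920 := by
  rw [card_stab_of_chain m11_chain]; decide +kernel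

theorem l2_11_chain : GE.IsChain m12CL.tail.tail (pst ((d0, pt 0), pt 5)) :=
  isChain_tail (isChain_tail m12C_chain)

theorem card_l2_11 : Nat.card (stabilizer M24 ((d0, pt 0), pt 5)) = 660 := by
  rw [card_stab_of_chain l2_11_chain]; decide +kernel

theorem a5_chain : GE.IsChain m12CL.tail.tail.tail (pst (((d0, pt 0), pt 5), pt 7)) :=
  isChain_tail l2_11_chain

theorem card_a5 : Nat.card (stabilizer M24 (((d0, pt 0), pt 5), pt 7)) = 60 := by
  rw [card_stab_of_chain a5_chain]; decide +kernel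

theorem m9_chain : GE.IsChain m12BL.tail.tail.tail (pst (((d0, pt 0), pt 1), pt 2)) :=
  isChain_tail (isChain_tail (isChain_tail m12B_chain))

theorem card_m9 : Nat.card (stabilizer M24 (((d0, pt 0), pt 1), pt 2)) = 72 := by
  rw [card_stab_of_chain m9_chain]; decide +kernel

end Cfsg.Agent.H56
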