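/-
The subgroup of Fi22 generated by `b, …, i` is the orthogonal group `Ω(7, 3)`.
-/
import Cfsg.Agent.H56.ReflChart2
import Cfsg.Agent.H96.T22
import Cfsg.Agent.S0292

set_option autoImplicit false
set_option maxRecDepth 100000
set_option exponentiation.threshold 400000

namespace Cfsg.Agent.H56.Fi22O7

open Subgroup Cfsg.Agent.H14 Cfsg.Agent.H96 Cfsg.Agent.H56.RC

def R : ℕ := nat_lit 0x7e000000000000000000000000000000000000000037bff000000000000000000000000000000000000033e7dff000000000000000000000000000000000f2ff7bf80000000000000000000000000000bef7bdff000000000000000000000000d6f5ef7fff800000000000000000006ddfdffff0000000000000007effffd800000000001ffffee00000000fffff0000007fffc0000ffff0003fff801fff807fffe03ffff07fff87fc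
def IX : ℕ := nat_lit 0x54654554454354254149d49c49a49949849749549449349249149048f48e48d48c3f53f43f13f03ef3ee3ed3ea3e93e83e73e63e43e33e23e13e03df3de3dd3dc35735635535435134f34e34d34c34b34a34934834634534434334134033f33e33d33c33b2c72c52c42c32c22c12bf2be2bd2bc2ba2b92b82b72b52b42b32b22b02af2ae2ad2ac2ab2aa2a92a824724624424224123f23e23d23c23a23823723623523323223123022e22d22c22b22a22922822722622522422322222122021f1ce1cd1cb1ca1c81c71c61c41c31c21c11c01bf1be1bc1bb1ba1b91b81b71b61b51b41b31b21b11b01af1ae1ad1ac16e16d16c16b16a16916716616516416316216116015f15e15d15c15b15a15915815715615415312412312212112011f11e11d11c11b11a11911811711611511411311211110f10e10d0eb0ea0e90e80e70e60e50e40e30e20e10e00df0de0dd0dc0db0da0d90d80be0bd0bc0bb0ba0b90b80b70b60b50b40b30b20b10b00af0ae09b09a09909809709609509409309209109008f08e08d08c07d07c07b07a07907807707607507407307207107006f06406306206106005f05e05d05c05b05a05905805704e04d04c04b04a04904804704604504404304204104003f03e03d03503403303203103002f02e02d02c02b02a02902802702602502401e01d01c01b01a01901801701601501401301201101000f00a009008007006005004003002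
def gs : List (Pt × ℕ × ℕ) := [(([], 2), 0, nat_lit 0x54aa350ab562af5aacd6e89459fd7abb5c9e4ee7540a451a934b9952aa95595ca65f4ca9c96494fa753643209bcce55349b51e3518a0c522b10a1cd6850c85c9a7d3d8448a733882c7a331c7ecc63b307d3e65b2e78bc2232c7bbb61b2893baa132373c1a3ee581c0203026f37236d97dc5e2cd687bd9a4d367bca2712663ba1cc975c298ee883b9a08e471b8184e260bfd7efe5db69f8b86bbe16ad47a3d566d079ac19aef57329d8c874b198ac461b85bea76ea8d7abc6da7d72d84e2d9aab468a6562ce57b2d5aac55aa952a86023d1a905f28942a05d21d3ab74da6964984ba592a9449a48f8a4531e94a7b45a2912884f2190a8441a0902803f9f8d89146238d66a3b9d8ea74399c8e270379b8da7d3c9e0ba5c2d998ca6431988c2602f978d268339689e4e26930aa5429948a2502c960ae562590882401f9188a44219289248238f87a34158cc6431180d86a3c1d0e47037178b85a2c1d88c32220d0844024150a04c250f8783a1c0d89c52130504816110c0582810078381a0c0a85c0607040180a04048040400),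
  (([], 3), 2, nat_lit 0x54eaf58a6d56a95caed0ab559af51a8b44a7cf6b7389bcfe8f48a4d4aa350a1d5a4d27a54fa9d22954a6734ca5c7a493099cca633497c465b2c86cee7528a0506133591cf20d0b8fcda07168dbee33188bc71e51489bda5cee87c3a56eb9042a4ae883c85cd048eb91ff0080bf9b4fc8d35df2f86a449a0f479c559af077c4194ec86321d308634158b026fb0dc2e071b7980bc6dbf572d87d2d9aaf75a349a2f558b39e2af65bb55aea5639dcac4712a182dd522997adc502e9b29d5bb5936d34d2c99e986625d92c755aa952c2482f922bf4628942bb4427970865aacd08b0572592a9449a494aa73d9f4f2a345a29129f3a270f09941a0902803f9f91c6b479a51a853b9d8ea873419ce270379b8da5d3e1a8f47339198ca592c15cac602f978d85c2d968c86331184aa4a249208e50279389a4c25950a652288e872381b90882401f8f87a3c1d9188a44218984a2f198c862301a0b8562c168a85228138d86a140f8784220118883a190d83838180b8582a240803c2213090681a0a0283012080301c1603020080001),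
  (([], 4), 4, nat_lit 0x57a9f5cadd2eb348abd5a83439f54a7950aed3a734cad4da935898cce572faa4a2ab4092d4e47519dc869b1f9352a3b34a346a8f17a244e2115a2c661942854de7f089ec3675059c4266b1c8dcca54fa983e258f1973be232d76bde45297549e3d2483bae410474409c7006ebf9fafc7dc61ad16873d9a2cf69bca28cc893ba1eec8342dd30373b21cac480b89c2e0602fdfedc6daf5b2d86bbe57cd479acdead07a3399af065b2992e663aad54e454b094edf6f355b4a25dae942b852ad946b4692c962b057ab92c9563315869260a996ea45aaf1728a4fa39128d42a693283412b5589449aa1229047a79387845a813a763d1cd36714c25d02723f9f8fa7c3521cd08c3ba20c863432010870311b8c26c2e1ecb07933998a8753a1bcda522f9449c6b2d968b2692b9588c6529980bc43279749a4c259287848239548a442810868401f8b47a491d8e854281b8d86a411988c4430178b87c1c158e45238138602c24190c426120f8781c2c0606832260b8942a08108800e10078740a1b058280214088181a040100c1200),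
  (([], 5), 27, nat_lit 0x546a54dac55a955ba356a853fa2d76bd3aa7d3ab94ca5d669348a3d5ea72996d565d40aa4b27b3c9dd4273389bcda6b3499cca37308a506873e8acaa891393c46212483c8a43208247a050198bf601187e3fe572f9444a4d2587bb1e4f185ba5dce791c19cb1f7247639198b3fa35176d365bcd57bbd9eaf46743618f065c25930e66b1e14c6843160b0371b89c2e06fbe57cdc6dbedf4b75cad5f0d469b4964d0583cdd6ae77ab5daac753a1ccab61b0982a651b757abc5da79ae9c6c26dacb44cb4530cf4bb3194c86225528a847b014a8c5fa2d42a043ae90cb85b21166b157a5954a9401fd227b53a391aa4511dcea744fa750a9a41a090293491b4fa7c481e8f278451951288321c8e270379b8fc6c359a8d25933954ec732a14cc2602f978ba4f2d968d04a24958cc633111488502e108824c1f160ae391c118a4511a9389a321892c583c1d8e89047128d88634199007e20178b85a3d158a852280c0986e241188842300f8783a1c0d84c32270485810140d048220e078401a040380c2e15058140c0c050080200),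
  (([], 6), 61, nat_lit 0x53abb5ca656ab358abd02ab549eceea350a7d7a715ba5cd69348a3caa8b44a1c9e83569248ea73ca94823f4d9bc76951c8ccca631697c4a1f0e95d1a170aa149a113f9f48a0b3a9cc0e6d347f46a66f97c4c1eef077cb9eced96cb21aea94ca1d1257639a43048f40a03007fc6db8d87db5a31178ac459ed169351991489b2a210764431970964c19cae471b89c2e06fb79bafd5d2f170fc5b3e96ef259bcde8b17ab395ef174bb9ceeb572b58ac461b0982c05fa9544da4fb6d3ad96ab5d389a69ac9a0b066b1d8c974b2a952a853a457ca446af512885da7972b5432d13298562ad048149a494c903e2394679459d942a043a6ce68441a55286f371f8fa8f359e9186833228ea7442988e270401fcbc6c3d970d2782b9dcaa64319c8a2602f9b4ba6a2692cb2583391cca4629948c25027938b63f2d0e892482b1506c44218cc8240260f87a3c1d9284c381b9144834210846230178b85a1b158602e28138e42835098886411080783a0c16068142a148202a251181c401f030381a1c0586412160903c0a04018080200),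
  (([], 7), 90, nat_lit 0x5429b52abd2aad46add667f42a2572755e9cd3abb4c9b56a6933985625353945524b40aacbe7b219dd469f388f52e6b49a44622f479f4422714864aa8b4393c26832491c1a79208fcde3b1c7e3ea333298c59e32c96bd5dd2e7a3cdd72b85c2a4d0883c8a0b0481c0a03007fb6db31b6bc69f2f869b42250f873362ad268c459ece86ba9d2e873b99cae471b89c2e06fb79babb7f2e5faba7db59aab47bbc1def676bb1e4b3592c560c863b198ac461b0982c05faf942a06e361b49f4f2d96ad46632d94c94d26530ac55aa952a853a991ca451a297abc5c2dd10874dabd5cad4220d2a9449a48fa9047a94f48c3ba88ec9d4e1d10a974b1c4e0803f9f9226c3da34d27845a24ca86319c904813017cda7c2e9a8f25833998ea5439948c26f37140d64e2d968946824158aa6422988865e21170804c1e96472571b918a6352893c644d180b0962a148e89225238d8882319904403f0f8b8383e0c8f076161389870241a04842311783c3a2d0d86856180b8a02a140988822100f0381a0c058281208038180a04018080200),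
  (([], 8), 13, nat_lit 0x536a151a9d52ab45a24feb35aadceab95da7ce2bd3da3d0a6f32a5ca6b15798d2a8324ab4fa993c9054a734ea4cc24f1e8c522873697cba372c8d42e8d179ac9a4b4091c8a433b8fcd22d0396cadf33394475fb147e44a23107f439f6fa953e2130883c1a0b048e3fdc8de8143e2b1386c32330a6e3d9eadb79b69b2f06c3b9daec6bb59aae873b99cb0161b7dc2c171401baf77a3c9e2ef75ba9d2bc5db4974d067b3972b85bb2992b65ab198aa971b09c0c05faf97ad469b459acc65b218ea04fa7962b04ea715a9b4a24d88a853a994aa451a8942b459ac95eae562210e984320500ab551f9229047a391a8c45a29129a4ca5ce474381bd2c9536a48fa7c3d9e8f2673b9d8ea8431214c08341178fe6c3596cd2573c198ca53291ccc271281b8ba4d35168924834158aa453218ca25f20900b84c258e4b258238d8a844218c89e4e1f8f87a3c1409894381b9186a34109086230178743c2c110a82c3b138e84a24118ac66200f8b45c0f0d8682418040a412140986422100e0381a060181c2a17050300805058080200),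
  (([], 9), 46, nat_lit 0x55ab157a9546a15dae57a8b44a156eb559a45028d3b9e4ea934fa3d36ab5497d4e574e94ca24f4ba652a672a9148641349ccca6330a1c562913a0ce27f3e9ec36190b854de6d358cc1a0b1c8dc6a3f188bc5a5d2d963dde4f1783be4d259248dd6ea74c7a3b007339603047fbf9fafc7dbe9f2f889351a6d268c46210f8733598cb84c220ec863c0e04c571b09c0e16fb79badc6db69b2d86bb59aaf67abd1e6b459ac9dced762bd5ce873ab1c8aa5438982c05faf97abc5dae972b85bad96ad067b393499653252ec64ab1124c353a994aa451a8942a04fa793a9c4dac5608456a09567f3f2a5229047a391a8c45a29128843a190a9838a58dc6d4a24cfa7c3d9e8f2783b9d8ea7439985065f2f205006c359a8d2682b198ca6431944e450381bcba5c26168b2582399caa542210cc460279387e5b2592870372b9186a53291086230268f87a281d8e84a49240908a221988082400f0b85a2c15858523c0a8507236090d02232078bc1a1c0d82c32080b8a84e260388c42060f8143a0c0d0281218098401c04018080200)]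
abbrev E : Enc (Fin 351) 351 9 512 := finEnc _ _ _ rfl (by decide)
theorem h1 : ixOK 3510 12 4096 IX 351 9 R = true := by decide +kernel
theorem h2 : allL gs (netOK K22 12 4096 IX 351 9 512 9) = true := by decide +kernel
theorem h3 : H52.Fi.genOK K22 (gs.map Prod.fst) [2, 1, 4, 6, 0, 7, 5, 2, 3, 1, 6, 2, 4, 3, 1, 6, 0, 7, 4, 2, 5, 1, 0] R = true := by decide +kernel
def VT : ℕ := nat_lit 0x411a596a6908106894456a150a910694a16654458698168106655416245a22569422845115826940521288116152196905a5482965054186064982589909666a45a8415566449596aa54a554526255566924451096422959412041625106582929125998824a959591224688622404558259204219a101845554254952868a494a589528258648564a1045062198a8464466946519914495490509082255118606265506426905942242a86a94861192128569494144625644122982145949a5460995860a18152419841581065111a94944a0425404a4a9445a9a156825a88620404150490a11a912416a044640455a6a65904a945519214491455266120508612151a15261469114a6490904492194519249101449826681498105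054495450612646950459949612424246455465a4a618941a8548110556415a599aa519965542a9a6125a599648906a904599a055898454a5041161a464660502a26291850099055061915114829421142420944648524684810228126925118540865849492486501a595542095a645146824a4945909618245214266646562101852a422405904a21a84089482564618111209581056920845919a428295a15595251554488a529521a425468411510a502894624649a826995a146910114504144150a4a042444a914214a4861a1a544244aa946a560510599501529a9916506994910a086905aa642290992581610664012664948206885515144159a55a466255650a65655a1656649054604109054585a64891056954a4650945056a4089556115684125268485082a58919844a55419684460842492a1014588508a94a4019552a6a811845261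
def B : BT := (.node (nat_lit 0x1611) (.node (nat_lit 0x964) (.node (nat_lit 0x545) (.node (nat_lit 644) (.node (nat_lit 521) (.node (nat_lit 357) (.node (nat_lit 293) (.node (nat_lit 277) (.leaf (nat_lit 221)) (.leaf (nat_lit 287))) (.node (nat_lit 325) (.leaf (nat_lit 20)) (.node (nat_lit 341) (.leaf (nat_lit 8)) (.leaf (nat_lit 312))))) (.node (nat_lit 405) (.node (nat_lit 389) (.leaf (nat_lit 255)) (.leaf (nat_lit 114))) (.node (nat_lit 421) (.leaf (nat_lit 4)) (.node (nat_lit 516) (.leaf (nat_lit 128)) (.leaf (nat_lit 347)))))) (.node (nat_lit 580) (.node (nat_lit 537) (.node (nat_lit 532) (.leaf (nat_lit 126)) (.leaf (nat_lit 72))) (.node (nat_lit 548) (.leaf (nat_lit 284)) (.node (nat_lit 553) (.leaf (nat_lit 254)) (.leaf (nat_lit 54))))) (.node (nat_lit 601) (.node (nat_lit 585) (.leaf (nat_lit 68)) (.node (nat_lit 596) (.leaf (nat_lit 10)) (.leaf (nat_lit 90)))) (.node (nat_lit 612) (.leaf (nat_lit 315)) (.node (nat_lit 617) (.leaf (nat_lit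 53)) (.leaf (nat_lit 256))))))) (.node (nat_lit 0x455) (.node (nat_lit 681) (.node (nat_lit 660) (.node (nat_lit 649) (.leaf (nat_lit 219)) (.leaf (nat_lit 86))) (.node (nat_lit 665) (.leaf (nat_lit 87)) (.node (nat_lit 676) (.leaf (nat_lit 39)) (.leaf (nat_lit 343))))) (.node (nat_lit 0x419) (.node (nat_lit 0x411) (.leaf (nat_lit 166)) (.node (nat_lit 0x415) (.leaf (nat_lit 350)) (.leaf (nat_lit 29)))) (.node (nat_lit 0x424) (.leaf (nat_lit 297)) (.node (nat_lit 0x451) (.leaf (nat_lit 33)) (.leaf (nat_lit 79)))))) (.node (nat_lit 0x499) (.node (nat_lit 0x464) (.node (nat_lit 0x459) (.leaf (nat_lit 214)) (.leaf (nat_lit 160))) (.node (nat_lit 0x491) (.leaf (nat_lit 140)) (.node (nat_lit 0x495) (.leaf (nat_lit 208)) (.leaf (nat_lit 264))))) (.node (nat_lit 0x511) (.node (nat_lit 0x4a4) (.leaf (nat_lit 49)) (.node (nat_lit 0x505) (.leaf (nat_lit 228)) (.leaf (nat_lit 188)))) (.node (nat_lit 0x514) (.leaf (nat_lit 330)) (.node (nat_lit 0x529) (.leaf (nat_lit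 124)) (.leaf (nat_lit 199)))))))) (.node (nat_lit 0x821) (.node (nat_lit 0x625) (.node (nat_lit 0x591) (.node (nat_lit 0x554) (.node (nat_lit 0x551) (.leaf (nat_lit 32)) (.leaf (nat_lit 210))) (.node (nat_lit 0x569) (.leaf (nat_lit 178)) (.node (nat_lit 0x585) (.leaf (nat_lit 102)) (.leaf (nat_lit 325))))) (.node (nat_lit 0x604) (.node (nat_lit 0x594) (.leaf (nat_lit 100)) (.node (nat_lit 0x5a9) (.leaf (nat_lit 242)) (.leaf (nat_lit 226)))) (.node (nat_lit 0x609) (.leaf (nat_lit 34)) (.node (nat_lit 0x611) (.leaf (nat_lit 240)) (.leaf (nat_lit 1)))))) (.node (nat_lit 0x684) (.node (nat_lit 0x649) (.node (nat_lit 0x644) (.leaf (nat_lit 246)) (.leaf (nat_lit 268))) (.node (nat_lit 0x651) (.leaf (nat_lit 84)) (.node (nat_lit 0x665) (.leaf (nat_lit 266)) (.leaf (nat_lit 336))))) (.node (nat_lit 0x6a5) (.node (nat_lit 0x689) (.leaf (nat_lit 138)) (.node (nat_lit 0x691) (.leaf (nat_lit 346)) (.leaf (nat_lit 200)))) (.node (nat_lit 0x810) (.leaf (nat_lit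 66)) (.node (nat_lit 0x814) (.leaf (nat_lit 299)) (.leaf (nat_lit 205))))))) (.node (nat_lit 0x8a5) (.node (nat_lit 0x861) (.node (nat_lit 0x829) (.node (nat_lit 0x825) (.leaf (nat_lit 101)) (.leaf (nat_lit 141))) (.node (nat_lit 0x850) (.leaf (nat_lit 144)) (.node (nat_lit 0x854) (.leaf (nat_lit 18)) (.leaf (nat_lit 203))))) (.node (nat_lit 0x890) (.node (nat_lit 0x865) (.leaf (nat_lit 204)) (.node (nat_lit 0x869) (.leaf (nat_lit 132)) (.leaf (nat_lit 91)))) (.node (nat_lit 0x894) (.leaf (nat_lit 162)) (.node (nat_lit 0x8a1) (.leaf (nat_lit 108)) (.leaf (nat_lit 331)))))) (.node (nat_lit 0x921) (.node (nat_lit 0x905) (.node (nat_lit 0x8a9) (.leaf (nat_lit 301)) (.leaf (nat_lit 6))) (.node (nat_lit 0x910) (.leaf (nat_lit 217)) (.node (nat_lit 0x919) (.leaf (nat_lit 58)) (.leaf (nat_lit 179))))) (.node (nat_lit 0x950) (.node (nat_lit 0x924) (.leaf (nat_lit 196)) (.node (nat_lit 0x945) (.leaf (nat_lit 130)) (.leaf (nat_lit 95)))) (.node (nat_lit 0x959)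 (.leaf (nat_lit 229)) (.node (nat_lit 0x961) (.leaf (nat_lit 310)) (.leaf (nat_lit 120))))))))) (.node (nat_lit 0x1190) (.node (nat_lit 0x1045) (.node (nat_lit 0xa44) (.node (nat_lit 0x9a4) (.node (nat_lit 0x990) (.node (nat_lit 0x985) (.leaf (nat_lit 302)) (.leaf (nat_lit 201))) (.node (nat_lit 0x999) (.leaf (nat_lit 148)) (.node (nat_lit 0x9a1) (.leaf (nat_lit 117)) (.leaf (nat_lit 19))))) (.node (nat_lit 0xa10) (.node (nat_lit 0xa04) (.leaf (nat_lit 135)) (.node (nat_lit 0xa09) (.leaf (nat_lit 230)) (.leaf (nat_lit 275)))) (.node (nat_lit 0xa15) (.leaf (nat_lit 272)) (.node (nat_lit 0xa21) (.leaf (nat_lit 249)) (.leaf (nat_lit 110)))))) (.node (nat_lit 0xa84) (.node (nat_lit 0xa50) (.node (nat_lit 0xa49) (.leaf (nat_lit 295)) (.leaf (nat_lit 122))) (.node (nat_lit 0xa55) (.leaf (nat_lit 156)) (.node (nat_lit 0xa61) (.leaf (nat_lit 14)) (.leaf (nat_lit 176))))) (.node (nat_lit 0xa95) (.node (nat_lit 0xa89) (.leaf (nat_lit 9)) (.node (nat_lit 0xa90)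 (.leaf (nat_lit 151)) (.leaf (nat_lit 113)))) (.node (nat_lit 0xaa1) (.leaf (nat_lit 292)) (.node (nat_lit 0x1041) (.leaf (nat_lit 253)) (.leaf (nat_lit 78))))))) (.node (nat_lit 0x10a4) (.node (nat_lit 0x1061) (.node (nat_lit 0x1051) (.node (nat_lit 0x1049) (.leaf (nat_lit 155)) (.leaf (nat_lit 220))) (.node (nat_lit 0x1055) (.leaf (nat_lit 247)) (.node (nat_lit 0x1059) (.leaf (nat_lit 172)) (.leaf (nat_lit 64))))) (.node (nat_lit 0x1084) (.node (nat_lit 0x1065) (.leaf (nat_lit 319)) (.node (nat_lit 0x1069) (.leaf (nat_lit 13)) (.leaf (nat_lit 342)))) (.node (nat_lit 0x1090) (.leaf (nat_lit 143)) (.node (nat_lit 0x1094) (.leaf (nat_lit 262)) (.leaf (nat_lit 26)))))) (.node (nat_lit 0x1144) (.node (nat_lit 0x1115) (.node (nat_lit 0x1105) (.leaf (nat_lit 76)) (.leaf (nat_lit 77))) (.node (nat_lit 0x1125) (.leaf (nat_lit 345)) (.node (nat_lit 0x1141) (.leaf (nat_lit 187)) (.leaf (nat_lit 271))))) (.node (nat_lit 0x1161) (.node (nat_lit 0x1151) (.leaf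 (nat_lit 303)) (.node (nat_lit 0x1154) (.leaf (nat_lit 88)) (.leaf (nat_lit 207)))) (.node (nat_lit 0x1164) (.leaf (nat_lit 339)) (.node (nat_lit 0x1189) (.leaf (nat_lit 121)) (.leaf (nat_lit 85)))))))) (.node (nat_lit 0x1449) (.node (nat_lit 0x1261) (.node (nat_lit 0x1214) (.node (nat_lit 0x11a9) (.node (nat_lit 0x1199) (.leaf (nat_lit 215)) (.leaf (nat_lit 168))) (.node (nat_lit 0x1204) (.leaf (nat_lit 232)) (.node (nat_lit 0x1209) (.leaf (nat_lit 173)) (.leaf (nat_lit 104))))) (.node (nat_lit 0x1229) (.node (nat_lit 0x1219) (.leaf (nat_lit 118)) (.node (nat_lit 0x1224) (.leaf (nat_lit 324)) (.leaf (nat_lit 290)))) (.node (nat_lit 0x1241) (.leaf (nat_lit 244)) (.node (nat_lit 0x1251) (.leaf (nat_lit 263)) (.leaf (nat_lit 231)))))) (.node (nat_lit 0x1411) (.node (nat_lit 0x1290) (.node (nat_lit 0x1285) (.leaf (nat_lit 0)) (.leaf (nat_lit 341))) (.node (nat_lit 0x1295) (.leaf (nat_lit 5)) (.node (nat_lit 0x12a5) (.leaf (nat_lit 92)) (.leaf (nat_lit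 211))))) (.node (nat_lit 0x1424) (.node (nat_lit 0x1415) (.leaf (nat_lit 183)) (.node (nat_lit 0x1419) (.leaf (nat_lit 25)) (.leaf (nat_lit 257)))) (.node (nat_lit 0x1441) (.leaf (nat_lit 142)) (.node (nat_lit 0x1445) (.leaf (nat_lit 44)) (.leaf (nat_lit 145))))))) (.node (nat_lit 0x1541) (.node (nat_lit 0x14a5) (.node (nat_lit 0x1454) (.node (nat_lit 0x1450) (.leaf (nat_lit 192)) (.leaf (nat_lit 186))) (.node (nat_lit 0x1484) (.leaf (nat_lit 45)) (.node (nat_lit 0x14a1) (.leaf (nat_lit 327)) (.leaf (nat_lit 279))))) (.node (nat_lit 0x1511) (.node (nat_lit 0x14a9) (.leaf (nat_lit 308)) (.node (nat_lit 0x1505) (.leaf (nat_lit 3)) (.leaf (nat_lit 335)))) (.node (nat_lit 0x1514) (.leaf (nat_lit 260)) (.node (nat_lit 0x1529) (.leaf (nat_lit 307)) (.leaf (nat_lit 62)))))) (.node (nat_lit 0x1589) (.node (nat_lit 0x1550) (.node (nat_lit 0x1544) (.leaf (nat_lit 147)) (.leaf (nat_lit 94))) (.node (nat_lit 0x1559) (.leaf (nat_lit 281)) (.node (nat_lit 0x1565)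 (.leaf (nat_lit 305)) (.leaf (nat_lit 40))))) (.node (nat_lit 0x15a4) (.node (nat_lit 0x1595) (.leaf (nat_lit 158)) (.node (nat_lit 0x15a1) (.leaf (nat_lit 96)) (.leaf (nat_lit 21)))) (.node (nat_lit 0x1604) (.leaf (nat_lit 42)) (.node (nat_lit 0x1609) (.leaf (nat_lit 103)) (.leaf (nat_lit 329)))))))))) (.node (nat_lit 0x2265) (.node (nat_lit 0x1a59) (.node (nat_lit 0x1895) (.node (nat_lit 0x1810) (.node (nat_lit 0x1664) (.node (nat_lit 0x1641) (.node (nat_lit 0x1625) (.leaf (nat_lit 22)) (.leaf (nat_lit 298))) (.node (nat_lit 0x1650) (.leaf (nat_lit 111)) (.node (nat_lit 0x1655) (.leaf (nat_lit 60)) (.leaf (nat_lit 38))))) (.node (nat_lit 0x1694) (.node (nat_lit 0x1669) (.leaf (nat_lit 36)) (.node (nat_lit 0x1685) (.leaf (nat_lit 43)) (.leaf (nat_lit 97)))) (.node (nat_lit 0x1699) (.leaf (nat_lit 332)) (.node (nat_lit 0x16a1) (.leaf (nat_lit 125)) (.leaf (nat_lit 313)))))) (.node (nat_lit 0x1841) (.node (nat_lit 0x1821) (.node (nat_lit 0x1814) (.leaf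 (nat_lit 234)) (.leaf (nat_lit 65))) (.node (nat_lit 0x1825) (.leaf (nat_lit 11)) (.node (nat_lit 0x1829) (.leaf (nat_lit 286)) (.leaf (nat_lit 296))))) (.node (nat_lit 0x1864) (.node (nat_lit 0x1845) (.leaf (nat_lit 51)) (.node (nat_lit 0x1849) (.leaf (nat_lit 282)) (.leaf (nat_lit 185)))) (.node (nat_lit 0x1884) (.leaf (nat_lit 274)) (.node (nat_lit 0x1891) (.leaf (nat_lit 115)) (.leaf (nat_lit 16))))))) (.node (nat_lit 0x1989) (.node (nat_lit 0x1921) (.node (nat_lit 0x1905) (.node (nat_lit 0x1899) (.leaf (nat_lit 276)) (.leaf (nat_lit 316))) (.node (nat_lit 0x1910) (.leaf (nat_lit 171)) (.node (nat_lit 0x1919) (.leaf (nat_lit 245)) (.leaf (nat_lit 153))))) (.node (nat_lit 0x1944) (.node (nat_lit 0x1924) (.leaf (nat_lit 250)) (.node (nat_lit 0x1941) (.leaf (nat_lit 194)) (.leaf (nat_lit 300)))) (.node (nat_lit 0x1955) (.leaf (nat_lit 233)) (.node (nat_lit 0x1969) (.leaf (nat_lit 167)) (.leaf (nat_lit 177)))))) (.node (nat_lit 0x1a09) (.node (nat_lit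 0x1994) (.node (nat_lit 0x1991) (.leaf (nat_lit 41)) (.leaf (nat_lit 311))) (.node (nat_lit 0x19a5) (.leaf (nat_lit 182)) (.node (nat_lit 0x1a04) (.leaf (nat_lit 267)) (.leaf (nat_lit 337))))) (.node (nat_lit 0x1a21) (.node (nat_lit 0x1a10) (.leaf (nat_lit 123)) (.node (nat_lit 0x1a15) (.leaf (nat_lit 89)) (.leaf (nat_lit 202)))) (.node (nat_lit 0x1a41) (.leaf (nat_lit 289)) (.node (nat_lit 0x1a54) (.leaf (nat_lit 323)) (.leaf (nat_lit 322)))))))) (.node (nat_lit 0x2125) (.node (nat_lit 0x2081) (.node (nat_lit 0x1aa9) (.node (nat_lit 0x1a85) (.node (nat_lit 0x1a65) (.leaf (nat_lit 170)) (.leaf (nat_lit 59))) (.node (nat_lit 0x1a91) (.leaf (nat_lit 174)) (.node (nat_lit 0x1aa4) (.leaf (nat_lit 218)) (.leaf (nat_lit 161))))) (.node (nat_lit 0x2050) (.node (nat_lit 0x2040) (.leaf (nat_lit 309)) (.node (nat_lit 0x2044) (.leaf (nat_lit 137)) (.leaf (nat_lit 105)))) (.node (nat_lit 0x2054) (.leaf (nat_lit 152)) (.node (nat_lit 0x2064) (.leaf (nat_lit 237))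 (.leaf (nat_lit 318)))))) (.node (nat_lit 0x2099) (.node (nat_lit 0x2089) (.node (nat_lit 0x2085) (.leaf (nat_lit 47)) (.leaf (nat_lit 243))) (.node (nat_lit 0x2091) (.leaf (nat_lit 261)) (.node (nat_lit 0x2095) (.leaf (nat_lit 119)) (.leaf (nat_lit 107))))) (.node (nat_lit 0x20a9) (.node (nat_lit 0x20a1) (.leaf (nat_lit 191)) (.node (nat_lit 0x20a5) (.leaf (nat_lit 238)) (.leaf (nat_lit 321)))) (.node (nat_lit 0x2105) (.leaf (nat_lit 17)) (.node (nat_lit 0x2115) (.leaf (nat_lit 235)) (.leaf (nat_lit 157))))))) (.node (nat_lit 0x21a4) (.node (nat_lit 0x2169) (.node (nat_lit 0x2149) (.node (nat_lit 0x2140) (.leaf (nat_lit 131)) (.leaf (nat_lit 149))) (.node (nat_lit 0x2150) (.leaf (nat_lit 139)) (.node (nat_lit 0x2159) (.leaf (nat_lit 133)) (.leaf (nat_lit 273))))) (.node (nat_lit 0x2191) (.node (nat_lit 0x2181) (.leaf (nat_lit 31)) (.node (nat_lit 0x2184) (.leaf (nat_lit 259)) (.leaf (nat_lit 251)))) (.node (nat_lit 0x2194) (.leaf (nat_lit 146)) (.node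 (nat_lit 0x21a1) (.leaf (nat_lit 129)) (.leaf (nat_lit 70)))))) (.node (nat_lit 0x2224) (.node (nat_lit 0x2209) (.node (nat_lit 0x2204) (.leaf (nat_lit 154)) (.leaf (nat_lit 222))) (.node (nat_lit 0x2214) (.leaf (nat_lit 293)) (.node (nat_lit 0x2219) (.leaf (nat_lit 7)) (.leaf (nat_lit 270))))) (.node (nat_lit 0x2245) (.node (nat_lit 0x2229) (.leaf (nat_lit 288)) (.node (nat_lit 0x2240) (.leaf (nat_lit 93)) (.leaf (nat_lit 112)))) (.node (nat_lit 0x2250) (.leaf (nat_lit 334)) (.node (nat_lit 0x2255) (.leaf (nat_lit 175)) (.leaf (nat_lit 23))))))))) (.node (nat_lit 0x26a4) (.node (nat_lit 0x2540) (.node (nat_lit 0x2465) (.node (nat_lit 0x2415) (.node (nat_lit 0x2291) (.node (nat_lit 0x2281) (.leaf (nat_lit 258)) (.leaf (nat_lit 136))) (.node (nat_lit 0x22a1) (.leaf (nat_lit 150)) (.node (nat_lit 0x2411) (.leaf (nat_lit 269)) (.leaf (nat_lit 197))))) (.node (nat_lit 0x2440) (.node (nat_lit 0x2419) (.leaf (nat_lit 35)) (.node (nat_lit 0x2424) (.leaf (nat_lit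 236)) (.leaf (nat_lit 180)))) (.node (nat_lit 0x2444) (.leaf (nat_lit 193)) (.node (nat_lit 0x2461) (.leaf (nat_lit 74)) (.leaf (nat_lit 106)))))) (.node (nat_lit 0x2490) (.node (nat_lit 0x2481) (.node (nat_lit 0x2469) (.leaf (nat_lit 116)) (.leaf (nat_lit 184))) (.node (nat_lit 0x2485) (.leaf (nat_lit 285)) (.node (nat_lit 0x2489) (.leaf (nat_lit 209)) (.leaf (nat_lit 30))))) (.node (nat_lit 0x2511) (.node (nat_lit 0x2494) (.leaf (nat_lit 198)) (.node (nat_lit 0x2505) (.leaf (nat_lit 48)) (.leaf (nat_lit 320)))) (.node (nat_lit 0x2514) (.leaf (nat_lit 134)) (.node (nat_lit 0x2529) (.leaf (nat_lit 195)) (.leaf (nat_lit 277))))))) (.node (nat_lit 0x2609) (.node (nat_lit 0x2581) (.node (nat_lit 0x2555) (.node (nat_lit 0x2549) (.leaf (nat_lit 63)) (.leaf (nat_lit 280))) (.node (nat_lit 0x2561) (.leaf (nat_lit 127)) (.node (nat_lit 0x2564) (.leaf (nat_lit 239)) (.leaf (nat_lit 291))))) (.node (nat_lit 0x2599) (.node (nat_lit 0x2584) (.leaf (nat_lit 52))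 (.node (nat_lit 0x2590) (.leaf (nat_lit 181)) (.leaf (nat_lit 212)))) (.node (nat_lit 0x25a5) (.leaf (nat_lit 294)) (.node (nat_lit 0x2604) (.leaf (nat_lit 164)) (.leaf (nat_lit 189)))))) (.node (nat_lit 0x2654) (.node (nat_lit 0x2625) (.node (nat_lit 0x2611) (.leaf (nat_lit 317)) (.leaf (nat_lit 15))) (.node (nat_lit 0x2640) (.leaf (nat_lit 306)) (.node (nat_lit 0x2645) (.leaf (nat_lit 50)) (.leaf (nat_lit 265))))) (.node (nat_lit 0x2681) (.node (nat_lit 0x2659) (.leaf (nat_lit 340)) (.node (nat_lit 0x2661) (.leaf (nat_lit 163)) (.leaf (nat_lit 206)))) (.node (nat_lit 0x2690) (.leaf (nat_lit 159)) (.node (nat_lit 0x2695) (.leaf (nat_lit 99)) (.leaf (nat_lit 241)))))))) (.node (nat_lit 0x2949) (.node (nat_lit 0x2859) (.node (nat_lit 0x2825) (.node (nat_lit 0x2810) (.node (nat_lit 0x26a9) (.leaf (nat_lit 314)) (.leaf (nat_lit 169))) (.node (nat_lit 0x2814) (.leaf (nat_lit 75)) (.node (nat_lit 0x2821) (.leaf (nat_lit 190)) (.leaf (nat_lit 57))))) (.node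 (nat_lit 0x2844) (.node (nat_lit 0x2829) (.leaf (nat_lit 224)) (.node (nat_lit 0x2840) (.leaf (nat_lit 98)) (.leaf (nat_lit 283)))) (.node (nat_lit 0x2851) (.leaf (nat_lit 12)) (.node (nat_lit 0x2855) (.leaf (nat_lit 81)) (.leaf (nat_lit 225)))))) (.node (nat_lit 0x2905) (.node (nat_lit 0x2885) (.node (nat_lit 0x2881) (.leaf (nat_lit 37)) (.leaf (nat_lit 326))) (.node (nat_lit 0x2889) (.leaf (nat_lit 46)) (.node (nat_lit 0x28a4) (.leaf (nat_lit 333)) (.leaf (nat_lit 278))))) (.node (nat_lit 0x2921) (.node (nat_lit 0x2910) (.leaf (nat_lit 56)) (.node (nat_lit 0x2919) (.leaf (nat_lit 80)) (.leaf (nat_lit 27)))) (.node (nat_lit 0x2924) (.leaf (nat_lit 71)) (.node (nat_lit 0x2940) (.leaf (nat_lit 304)) (.leaf (nat_lit 328))))))) (.node (nat_lit 0x2a15) (.node (nat_lit 0x2984) (.node (nat_lit 0x2954) (.node (nat_lit 0x2951) (.leaf (nat_lit 248)) (.leaf (nat_lit 69))) (.node (nat_lit 0x2965) (.leaf (nat_lit 28)) (.node (nat_lit 0x2981) (.leaf (nat_lit 349))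 (.leaf (nat_lit 338))))) (.node (nat_lit 0x2a04) (.node (nat_lit 0x2995) (.leaf (nat_lit 165)) (.node (nat_lit 0x29a9) (.leaf (nat_lit 82)) (.leaf (nat_lit 213)))) (.node (nat_lit 0x2a09) (.leaf (nat_lit 216)) (.node (nat_lit 0x2a10) (.leaf (nat_lit 83)) (.leaf (nat_lit 109)))))) (.node (nat_lit 0x2a64) (.node (nat_lit 0x2a40) (.node (nat_lit 0x2a21) (.leaf (nat_lit 344)) (.leaf (nat_lit 223))) (.node (nat_lit 0x2a45) (.leaf (nat_lit 24)) (.node (nat_lit 0x2a51) (.leaf (nat_lit 73)) (.leaf (nat_lit 227))))) (.node (nat_lit 0x2a94) (.node (nat_lit 0x2a69) (.leaf (nat_lit 61)) (.node (nat_lit 0x2a81) (.leaf (nat_lit 348)) (.leaf (nat_lit 2)))) (.node (nat_lit 0x2a99) (.leaf (nat_lit 252)) (.node (nat_lit 0x2aa5) (.leaf (nat_lit 55)) (.leaf (nat_lit 67)))))))))))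
theorem h4 : ptsOK F3 7 351 VT B true = true := by decide +kernel
theorem h5 : fullOK F3 7 351 VT B (uOdd F3 3) 2 1 = true := by decide +kernel
theorem h6 : allL gs (vecOK F3 7 351 9 512 VT (uOdd F3 3) 1) = true := by decide +kernel

theorem card_pomega : Nat.card (POmega (ZMod 3) (quadFormOdd 3 (ZMod 3))) = 4585351680 := by
  have := S0292.result (F := ZMod 3) (q := 3) rfl (by decide) 3 le_rfl
  norm_num [Finset.prod_range_succ] at this
  omega

theorem closure_eq : closure (T22.st R) = H58.Fi22P.K := by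
  rw [H52.Fi.closure_st T22 h3, H58.Fi22P.K, H58.clL]
  congr 1
  ext x
  simp [gs, T22.val_letter, T22_el, eq_comm]

theorem K_equiv : Nonempty (H58.Fi22P.K ≃* POmega (ZMod 3) (quadFormOdd 3 (ZMod 3))) := by
  have := H58.Fi22P.finite
  obtain ⟨c, hc, ⟨ε⟩⟩ := chart_odd T22 E (m := 3) h1 h2 h3 h4 h5 h6
  rw [← closure_eq]
  exact (equiv_pomega (H28.qOdd_nondeg 3 (by decide)) (by decide) hc ε (by
    rw [closure_eq, H58.Fi22P.index_K.2, H28.coe_qOdd, card_pomega])).2.2

end Cfsg.Agent.H56.Fi22O7
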