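/-
The transpositions of a group of type Fi23 that commute with two non-commuting ones.
-/
import Cfsg.Agent.H56.Fi22O7
import Cfsg.Agent.H56.FiThree
import Cfsg.Agent.H96.Ident23

set_option autoImplicit false
set_option maxRecDepth 100000
set_option exponentiation.threshold 400000

namespace Cfsg.Agent.H56.Fi23O7

open Subgroup Cfsg.Agent.H14 Cfsg.Agent.H95 Cfsg.Agent.H96 Cfsg.Agent.H56.RC Cfsg.Agent.H52.Fi

def R : ℕ := nat_lit 0x2000000000000000000000000000000000000000000000000000000000000000000000000000000000000000000000000000000000000000000000000000000000000000000000000000000000000000000000000000000000000000000000000000000000000000000000000000000000000000000000000000000000000000000000000000000000000000000000000000000000000000000000000000000000000000000000000000000000000000000000000000000000000000000000000000000000000000000000000000000000000000000000000000000000000000000000000000000000000000000000000000000000000000000000000000000000000000000000000000000000000000000010000000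00000000000000000000000000000000000000000000000000000000000000000000000000000000000000000000000000000000000000000000000000000000000000000000000000000000000000000000000000000000000000000000000000000000000000000000000000000000000000000000000000000000000000000000000000000000000000000000000000000000000000000000000000000000000000000000000000000000000000000000000000000000000000000000000000000000000000000000000000000000000000000000000000000000000000000000000000000000000000000000000000000000000000000000000000000000000000000000000000000000000000000000000000000000000000000000000000000000000000000000000000000000000000000000000000000000000000000000001fc00000000000000000000000000000000000000000000000000000000000000000000000000000000000000000000000000000000000000000000000000000000000000000000000000000000000000000000000000000000000000000000000000000000000000000000000000000000000000000000000000000000000000000000000000000000000000000000000000000000000000000000000000000000000000000000000000000000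00000000000000000000000000000000000000000000000000000000000000000000000000000000000000000000000000000000000000000000000000000000000000000000000000000000000000000000000000000000000000000000000000000000000000000000000000000000000000000000000000000000000000000000000000000000000000000000000000000000000000000000000000000000000000000000000000000000000000000000000001f8000000000000000000000000000000000000000000000000000000000000000000000000000000000000000000000000000000000000000000000000000000000000000000000000000000000000000000000000000000000000000000000000000000000000000000000000000000000000000000000000000000000000000000000000000000000000000000000000000000000000000000000000000000000000000000000000000000000000000000000000000000000000000000000000000000000000000000000000000000000000000000000000000000000000000000000000000000000000000000000000000000000000000000000000000000000000000000000000812c0000000000000000000000000000000002181000000000000000000000000000000000000000000000000000000000000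0000000000000000000000000000000000000000001e07803e0000000000000000000000000000000000000000000000000000000000000000000000000000000000000000000000000000000000000000000000000000000000000000000000000000000000000000000000000000000000000000000000000000000000000000000000000000000000000000000000000000000000000000000000000000000000000000000000000000000000000000000000000000000000000000000000000000000000000000000000000000000000000000000000000000000000000000000000000000000000000000000000000000000000000000000000000000000060098600e070f000000000000000000000000000000000010200000000000000000000000000000000000000000000000000000000000000000000000000000000001be07000780000000000000000000000000000000000000000000000000000000000000000000000000000000000000000000000000000000000000000000000000000000000000000000000000000000000000000000000000000000000000000000080000000004000000000000000000000000000000000000000000000000000000000000000000000000000000000000000000000000000000000000000000000000000000000000000000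0000000000000000000000000000000000000000066609331c0e1cf00000000000000000000000000000080000000000000000000000000000000000000000000000000000000000000000fe030000380000000000000000000000000000000000000000000000000000000000000000000000000000000000000000000000000000000000000000000000000000000000000000000002000000000000000000000000000000000000000000000000000000000000000000000000000000000000000000000000000000000000000000000000000000000000000000000000000ae730a66670e778000000000000000000000000000000000000000000000000000000000000000000000001f0080000040000000000000000000000000000000000000000000000000000000000000000000000000000000000000000000000000000000000000000000000000000000000000000000000000000000000000000000000000000000000000000000000000000000000000000000000088b73995666e77e000000000000000000000000000000000000000000000000000000000f800000000000000000000000000000000000000000000000000000000000000000000000000000000000000000000000000000000000000000000000000000000000000000000000000000000000000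000000000000000000004895ced566fbfc00000000000000000000000000000000000000000000000038000000000000000000000000000000000000000000000000000000000000000000000000000000000000000000000000000000000000000000000000000000000000000000000000000000a5bbbaefff800000000000000000000000000000000000000000018000000000000000000000000000000000000000000000000000000000000000000000000000000000000000000000000000000000000000000000000000000000000002bbfefffc00000000000000000000000000000000000000600000000000000000000000000000000000000000000000000000000000000000000000000000000000000000000000000000000000000000000000ffffff0000000000000000000000000000000000000000000000000000000000000000000000000000000000000000000000000000000000000000000000000001ffff8000000000000000000000000000000000000000000000000000000000000000000000000000ffc00000000000000000000000100000000000003c007f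
def IX : ℕ := nat_lit 0x14fd65b2412c825704aa094c128824f0499b0e361b6c34d865b0c36175ba6b7316e4adc75b8cb4f569c2d375a60ae515c9ab925722ae295c4ab88570eadf55be2b7b56f4ade521b2435485690a1213a4224842905d20b2415481c90352062407480c9015202237846e28891111a2214440887d10f221d442c885510a2206440a88111019f0f3dcc7058e0a9c1238227038e069c0738087004e001bfd37f86fe0dfb9bf637de6fb8df69be837ce6f98df19be237c26f80db39a6334c46984d301a5f34bc6974d2a9a5434826900d1f98052b6e56d4ad995b22b6256b8ad695ac2b5256a0ad195a12b3c5674acd15992b2c5654ac915912b20562cac515892b0c5614ac215822b025600abf945c28b65168a2c9458289e50d886b90d3219e433486610ca2192432086290c42186430085f90bc217442e085b10b5216442c485710ad215642a885490a6214a429085110a12140427c84f109d1f6e3ed87da8fb41f6633986718cdf19b8336866c0cd719ac334c6690cd1199e33386660cca199033186628cc2198232fc65f0cbd197832ec65c8cb8196e32d865a8cb4196632c85f68bec17d6263c4c6898a1310261c4c28984130626044c0097f12fa25f04bd897912ee25d84ba897312e425c44b8096f12dc25b44b6096b12d425a44b40967117022dc34c86970d2a1a5034986910d201a3c347068d0d181a2c34506890d0e1a1834286840d061a0834086800cfe19f833e867c0cf619e82ef05dd07fe0ff81fe83fc07f60fe81fc83f807ee0fd81fa83f407e60fc81f883f007de0fb81f683ec07d60fa81f483e803f007dc0fb01f503e807cc0f901f103e007bc0f701ed03d807ac0f501e903d0079c05b80b6016a02d005980b2016202c005780ae0098005400a0013002400180028004000600080008000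
def gs : List (Pt × ℕ × ℕ) := [(([], 4), 346, nat_lit 0x57ab755aed6aa758abd5ab954accf2a350a7d3a832c97cba5148a3d1a47249050a9b1e9fcfa7b528d4ea6f389ccda6b3499cca6330a5d2a314c8040e05497ec99f544a2bde43438fd01e91c8dcede32d783be1f0e86c4a23108ac52270c85c2a130883c1a0ad7954a6032b693564efc7dc959af8913d9eb1d79bca33178b31dcae371385c0e873b99dae4763add4e96fb79badc6dac1b2d8822b1fcd469bfd50d053b39f2cc65b2992c87728178bb5cae16eb65faf97ac5622e986c260b011cb4462c962da442b912d6422a952d167a994a8151a8942c63e2552892489d91e9839a593c9d49a71366c4cad4d2b333a295aaf31994c8ab41a0948802f9f8fa9f2d1c4e05736a68a8744b944f47927134ee902512d1a68459150c854391086603f904ba5c1e9eca03a3c0e0aa751a8e4e459189bcdc2e351ac5a2c23918cc62308a0bc4013898b63c11960a4561b8d8a621100709e1b1793092480b8a852421f8f828241d88868330f8482032180343218158582a2504878221d04038340c05828260f038180805018080200),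
  (([], 5), 345, nat_lit 0x57abb5caa54eb352abd5a7d5bad5627750a7d3a9b4295d2a6d279bd1a8b44935323f409fd567b3ca8c667338a3d262f3487cca1d0d82432172ca5bfe5328a450e4afc7dc8a4320a0bd63b1c8dc6a75189ac5a2b1489c4a231099cc6612e96c29c6e26d385c12f6b37a02d795345fb2491b41f2cf673da3ccb79bc9e2f0743b992ec75ba9d2ef73b99cae484c220d055ac0966b95c41d5eb68040d56d456ab1fcfa7c3dd4aa47a329dac55fb1990a261b0934c063a5d7abc5dae9b8db48361be8d6ea2d22b06ca1da6d26aa190a8453a999acc3fb113c983da84fc784db04eaa05f1c92a94379b962b735a39688c591991288572a952a831185028051a74f45b4f9f4b09c2b1b1325339a58e24f49a489876479a8d26833a28ca6431a0d04422f9787e3e3e0f47679269dc964a3a148a23238138ae6d2a9509248239188a442198080412e970b4252c8c45e2e168b06a341994074301c8e06e36158a852281389878130e06c32180b8783a231106842200f8582a14120381a0c078482210058281207040180a03020080200),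
  (([], 6), 344, nat_lit 0x57abb5cadd6aa558a8d5aab3d9e566af3a99cc65f2ba0caa81489fd1a49239147e9749a3c72a9539dd4273389bcda2109a7c1e9d30a6c0e5b00a6529fd1e8ec9a4b45a250df0f7a14a24f3e8dc6a33188bc5a2b1476c49d13587c39cadf723766908993660b0497355a72c7fca5e8fc7dbe9f32190331eafd79bc9e2f077bba26ec62b0589115f2fe1b0b71af16ebb862d214b26db6a0cae6bad604aa80b49a2a667b399af665b2992c863a7dd6e94e279d4997339d2ce27024d249570a3dacde59b7114b0483615a8e46b5152a853b4100a451a89427c63308f2c33ba6980744baf570705d2e4daaf5b2b1568c372c5126c35a18d46941a0902a52f174b8a03d9653a784d9d8ea98399c8a09437a2d228843a15086826930ca4b251249060209fcfc7d29968f43f2b958aa542d948a27127938ce663218cc461238bc5c2d160acbe402c0ec6a3c1f09c72381b8d87a34198c862302311488432106430171d08c3c241305442200f8943a1c0d8685429140304412078501410098381a16058441009038180a040100c0200),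
  (([], 7), 343, nat_lit 0x57abb5cadd6ab351abd42ab54a9ceeb156a7cca814c954a25d35984864b44a1d0a3d4d9fcfa371aa94ea271186c32910a8453a0d4781d26052c7fd2e314a8bc9a8b247d3e68d207ad063af39ecf2332993c59d6ea9cb9e7110713866f366f4d1b9336ccc5b0d697cb602d295bf9e0fc6848e44f866bda3ef48e3c9e2fd77b19dac38ac5180e8892f5caba5cc3e1cb66fc2d650958abe0f0556411aad454c01a2fb67a95eea365b2992c8503b98a9d7626d82e94c2f9ccbc4a391c6915bb816a9345b75b6886d2b90ad755a0da6a853a999c7f661f8fac74f9e9889c61268f2bf4b9d0e2bb5a249709038238de6759a28c8b0439895a8455208be8052289427c3da7932782c9d8b0963994d2a8f469b8a06c279a89c4646198888931a18c26040978ba5c2d968ee752b8ecaa3a391486a6d359a49a32258c49230151a08a652190882401f8f87a3c2b15072231b888a2340f1309448178705a1b0d11c5228138984a241c0d84212088cc1e2e160ac320e068582a14098803e080e8602e07058281210060180a04018040400),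
  (([], 8), 348, nat_lit 0x576bd5cadd56b358abd5ab5549f54aa350a7d02654ca5d2a633793c964344a1d0a834e8ed4e7b1c9dcea7315a443a1b3499d36931783c1a0b0195caa5328a3c9a8cf891c8a8af68fc7a7f3c8dbce33189845a711489bb1d6e587cda6ae17042a130897cba5ada6cb6258d37fbf9facf7dbe9f32466481eaf48d3c994f0643b9db1288ba9d2c561b0a20bb71b8a190b5bad9badc6dc12070256abd5cd4802a5a2d07e29146f765bc592ef50b19d0c473b9982c04f27136bc7225172b86fb79208f59ac962896b355ae8543aa9a48253a98fece66a898e7d4fafd3abe5ea69327a3c1dd2aba3824922b55a1a8d66845a29606455a19586141aa1025e529f9405c3da60f2974b154ea5929158e293279b8da4b46a38908c231988e882198908602fa00ba7c1f0f0e8581c9c8ec361d9cc6650378c05e4c360b092693299c522a3190882401f96c4a5a29888ae20109503c34288c8364e26860324a159108a160a8507a24090e86e38080d43a0e188685a2e060a04e260988c101f078700e17058241411068140c04018080200),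
  (([], 9), 350, nat_lit 0x57ab95daad6ab358abd5ab73ea9d4aa3509fcd29b4ca5d2a934899d1a45209250a8340a7d52393c9dcea2b3887cda6b4ea3c2a130897cba5b2c95caa532893bf1f3437bd1643448fc7a3b3d79c6a33188bc5a72ec75c4a23109bb8dc50c85cca63306eb71b70481c09a9007fbf9fb26673364af891bd9eaf48db29e2f077bb98b1489b0d84e873b9978e48743572b86fb7a0f0682acd64b16bb59ab0155349a2a567bedf4cc65bc990c963b19da9e753a5389b5faf97ae54aae9c2e0492456ab46d365b08c45a290cac55b4d06a853a01a0a451a8544a04fb10f4c1601e0ee984ba59767149add6c6e36a391ab057ab8ca67332b4c4845498102a63f9f4fc7c3da74b29a4c95cac74399c9285037a411e4d26124d2474421d124422a1484822f978b85d2d968f23b3b1d46e38298d0a27019138d86b168b8d42b340a8c6641418482401f0fc7a242c08c42542a87c6a520e93c381a0c9289617241182c431309c263c1d04472101b03c6631068c05e0c160a414091282044200f01c36180305428120702c0a04018080200),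
  (([], 10), 342, nat_lit 0x57abb5cadd6ab358a855aab54a9d4a75579a4fe9b4ca5ca64f3698d1a412291d0a831da74fa7b3c8cd46291287522174f84cca8f0597c0a2f2c95bfa94fda4bee4af7a1d11ed458fbd2811c793c676f096bb9d93974ce1cce471cddc0de9ac2a66db83b6261046acba030068caa50ce933e9f2cc92485971e6546e351863c5989156130226bf5ec45771087ae16d0d5a431bab1843695d066baae06d469aa1fed0523f19af87abcd44a177b193ced4dbad32ea74259ce9572ae922e247b851adf59a29b8b043b655a846b2a904d240a994acf51b2590a04fb153a77619d58298392f97894499b5726b5b9a56a8c332c9126357a18c2ac302a54e803f9f8fa7c3d9e8f2564e151347428a5ce27037931244a481211c6822a2cca43441090a832f978ba5c2d968b2581c1e06c76298cce650279385c6e161b0566a238a4ce283218882401f8f87a3c1d8e840570f9546a1d290c862300c1342e4b248588c44138984a241188820391b878681c0d868182f168a82a14098482221078381a19058281208038180a04018080001),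
  (([3, 4, 5, 2, 3, 4, 8, 6, 5, 4, 3, 2], 1), 71, nat_lit 0x1a160656d56ab358155590d07a9d483216a7b9e9b4ca599d0a824b02d78eb4f50a826a5eaaa653c10830a2f2392a66b3499cf57ca297a2e5b2c959348a6430a864ae262b0a42958f92c90d4890d021188bc5a2a735dc6e231087a5d88b285c0612fcaa41993043719a15002b8b88708643e89cf85c3d8aa2c79ce03af077bb9c0eca23a9cae8a7399d2e471c91c2ed6e229a6df6756db2d86ba48991c6e9e070d067b6cdecc1b32a0afb6389e470d4748982c05fcc67f4589a016af75bad972b156c31695d57ab9669c36cfa6c5653a9926a41e4c24c3f1d50ca6ac34a69325d8751e403552b591a9047b0d228997379188843d56927741d2102ba129d0fa58189e8b6d2421d8ea7e8a4dce23d66c0d566c35d01375ea540ab9283198a4e600a079305c3c93cb27c7faa1ea544e94a72502d3e654d58f128931d2391a52447e908240e500f8e0a31da7c72d11bb2d291a198c8f63017bf85af415d5c522863098fe241188a76200f979e21c0d816a2180bd402a5f09904071907900093aa3008120803818340d088280200)]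
abbrev E : Enc (Fin 351) 351 9 512 := finEnc _ _ _ rfl (by decide)
theorem h1 : ixOK 31671 15 32768 IX 351 9 R = true := by decide +kernel
theorem h2 : allL gs (netOK K23 15 32768 IX 351 9 512 9) = true := by decide +kernel
theorem h3 : H52.Fi.genOK K23 (gs.map Prod.fst) [3, 4, 5, 7, 1, 2, 3, 6, 0, 4, 1, 0, 3, 7, 2, 3, 5, 4, 6, 5] R = true := by decide +kernel
def VTa : ℕ := nat_lit 0x29112145249091091640409511265596aa41251a426691291669a21205164410542450219540695955025a95210451a5029551a06a69a954254091490555669018541665890440094411115046814406620966951840a5202540a41519900a908290641821681120656554a40911590050581242292504a444001109908582145056a9966522484525a54884924a81084969a6aa58a11094520589019419598844611a805045914195580a4a2144900a984921051a1042984260541541424824545051042859412824641219001012819554445aa66501221699505850512292910a842601148524190141291911510261149055a684166a665514250850614454a6a6aa9902596588905846664055818425148144892095a40001169580661840006111099181456969a5888596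9069112168101541250a8141268059964624a99594092115a922466a96091555284411921850642851409228485491040994a1289048440696a95a999204514429125066541496026a956954a090295025611010028918118a411904186a40a084990119296516048944540829a142665580540550866956841595950001081154445a6588495960892a101896804191098510588160648a05850181559918261412542121445214424269694825841581241142845110a86569a965881106521416424900591a6554129990685144a411a95045625015068090a260151056094065165990508518604a0560166100894461965660422250159a65089016644455944a1151006525128449a941452190249828541418528818851a592604a4120542a429411815a956101884921085624421144251245244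
def Ba : BT := (.node (nat_lit 0x1450) (.node (nat_lit 0x819) (.node (nat_lit 673) (.node (nat_lit 353) (.node (nat_lit 165) (.node (nat_lit 89) (.node (nat_lit 16) (.node (nat_lit 4) (.leaf (nat_lit 185)) (.leaf (nat_lit 189))) (.node (nat_lit 64) (.leaf (nat_lit 106)) (.node (nat_lit 85) (.leaf (nat_lit 233)) (.leaf (nat_lit 196))))) (.node (nat_lit 105) (.node (nat_lit 101) (.leaf (nat_lit 33)) (.leaf (nat_lit 28))) (.node (nat_lit 149) (.leaf (nat_lit 146)) (.node (nat_lit 153) (.leaf (nat_lit 344)) (.leaf (nat_lit 150)))))) (.node (nat_lit 293) (.node (nat_lit 256) (.node (nat_lit 169) (.leaf (nat_lit 133)) (.leaf (nat_lit 250))) (.node (nat_lit 277) (.leaf (nat_lit 130)) (.node (nat_lit 281) (.leaf (nat_lit 57)) (.leaf (nat_lit 158))))) (.node (nat_lit 329) (.node (nat_lit 297) (.leaf (nat_lit 340)) (.node (nat_lit 325) (.leaf (nat_lit 216)) (.leaf (nat_lit 24)))) (.node (nat_lit 337) (.leaf (nat_lit 138)) (.node (nat_lit 340) (.leaf (nat_lit 298)) (.leaf (nat_lit 174)))))))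 (.node (nat_lit 553) (.node (nat_lit 404) (.node (nat_lit 389) (.node (nat_lit 356) (.leaf (nat_lit 225)) (.leaf (nat_lit 65))) (.node (nat_lit 393) (.leaf (nat_lit 205)) (.node (nat_lit 401) (.leaf (nat_lit 98)) (.leaf (nat_lit 96))))) (.node (nat_lit 533) (.node (nat_lit 417) (.leaf (nat_lit 49)) (.node (nat_lit 420) (.leaf (nat_lit 61)) (.leaf (nat_lit 177)))) (.node (nat_lit 537) (.leaf (nat_lit 5)) (.node (nat_lit 549) (.leaf (nat_lit 330)) (.leaf (nat_lit 41)))))) (.node (nat_lit 609) (.node (nat_lit 585) (.node (nat_lit 581) (.leaf (nat_lit 284)) (.leaf (nat_lit 317))) (.node (nat_lit 593) (.leaf (nat_lit 22)) (.node (nat_lit 596) (.leaf (nat_lit 194)) (.leaf (nat_lit 318))))) (.node (nat_lit 649) (.node (nat_lit 612) (.leaf (nat_lit 95)) (.node (nat_lit 645) (.leaf (nat_lit 183)) (.leaf (nat_lit 238)))) (.node (nat_lit 657) (.leaf (nat_lit 53)) (.node (nat_lit 660) (.leaf (nat_lit 350)) (.leaf (nat_lit 301)))))))) (.node (nat_lit 0x514) (.node (nat_lit 0x461) (.node (nat_lit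 0x425) (.node (nat_lit 0x400) (.node (nat_lit 676) (.leaf (nat_lit 73)) (.leaf (nat_lit 12))) (.node (nat_lit 0x415) (.leaf (nat_lit 310)) (.node (nat_lit 0x419) (.leaf (nat_lit 51)) (.leaf (nat_lit 69))))) (.node (nat_lit 0x449) (.node (nat_lit 0x429) (.leaf (nat_lit 2)) (.node (nat_lit 0x445) (.leaf (nat_lit 246)) (.leaf (nat_lit 230)))) (.node (nat_lit 0x451) (.leaf (nat_lit 343)) (.node (nat_lit 0x454) (.leaf (nat_lit 324)) (.leaf (nat_lit 204)))))) (.node (nat_lit 0x494) (.node (nat_lit 0x485) (.node (nat_lit 0x464) (.leaf (nat_lit 40)) (.leaf (nat_lit 121))) (.node (nat_lit 0x489) (.leaf (nat_lit 349)) (.node (nat_lit 0x491) (.leaf (nat_lit 192)) (.leaf (nat_lit 1))))) (.node (nat_lit 0x505) (.node (nat_lit 0x4a1) (.leaf (nat_lit 173)) (.node (nat_lit 0x4a4) (.leaf (nat_lit 30)) (.leaf (nat_lit 337)))) (.node (nat_lit 0x509) (.leaf (nat_lit 286)) (.node (nat_lit 0x511) (.leaf (nat_lit 207)) (.leaf (nat_lit 74))))))) (.node (nat_lit 0x611) (.node (nat_lit 0x550) (.node (nat_lit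 0x524) (.node (nat_lit 0x521) (.leaf (nat_lit 142)) (.leaf (nat_lit 219))) (.node (nat_lit 0x541) (.leaf (nat_lit 348)) (.node (nat_lit 0x544) (.leaf (nat_lit 55)) (.leaf (nat_lit 29))))) (.node (nat_lit 0x590) (.node (nat_lit 0x581) (.leaf (nat_lit 243)) (.node (nat_lit 0x584) (.leaf (nat_lit 119)) (.leaf (nat_lit 198)))) (.node (nat_lit 0x605) (.leaf (nat_lit 67)) (.node (nat_lit 0x609) (.leaf (nat_lit 89)) (.leaf (nat_lit 87)))))) (.node (nat_lit 0x644) (.node (nat_lit 0x621) (.node (nat_lit 0x614) (.leaf (nat_lit 258)) (.leaf (nat_lit 19))) (.node (nat_lit 0x624) (.leaf (nat_lit 7)) (.node (nat_lit 0x641) (.leaf (nat_lit 168)) (.leaf (nat_lit 294))))) (.node (nat_lit 0x684) (.node (nat_lit 0x650) (.leaf (nat_lit 215)) (.node (nat_lit 0x681) (.leaf (nat_lit 261)) (.leaf (nat_lit 321)))) (.node (nat_lit 0x690) (.leaf (nat_lit 247)) (.node (nat_lit 0x815) (.leaf (nat_lit 339)) (.leaf (nat_lit 13))))))))) (.node (nat_lit 0x1045) (.node (nat_lit 0x944) (.node (nat_lit 0x891) (.node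 (nat_lit 0x851) (.node (nat_lit 0x829) (.node (nat_lit 0x825) (.leaf (nat_lit 291)) (.leaf (nat_lit 191))) (.node (nat_lit 0x845) (.leaf (nat_lit 116)) (.node (nat_lit 0x849) (.leaf (nat_lit 3)) (.leaf (nat_lit 268))))) (.node (nat_lit 0x864) (.node (nat_lit 0x854) (.leaf (nat_lit 46)) (.node (nat_lit 0x861) (.leaf (nat_lit 152)) (.leaf (nat_lit 157)))) (.node (nat_lit 0x885) (.leaf (nat_lit 23)) (.node (nat_lit 0x889) (.leaf (nat_lit 227)) (.leaf (nat_lit 37)))))) (.node (nat_lit 0x909) (.node (nat_lit 0x8a1) (.node (nat_lit 0x894) (.leaf (nat_lit 163)) (.leaf (nat_lit 118))) (.node (nat_lit 0x8a4) (.leaf (nat_lit 153)) (.node (nat_lit 0x905) (.leaf (nat_lit 223)) (.leaf (nat_lit 316))))) (.node (nat_lit 0x921) (.node (nat_lit 0x911) (.leaf (nat_lit 81)) (.node (nat_lit 0x914) (.leaf (nat_lit 288)) (.leaf (nat_lit 331)))) (.node (nat_lit 0x924) (.leaf (nat_lit 6)) (.node (nat_lit 0x941) (.leaf (nat_lit 270)) (.leaf (nat_lit 283))))))) (.node (nat_lit 0xa41) (.node (nat_lit 0xa05)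 (.node (nat_lit 0x981) (.node (nat_lit 0x950) (.leaf (nat_lit 27)) (.leaf (nat_lit 85))) (.node (nat_lit 0x984) (.leaf (nat_lit 15)) (.node (nat_lit 0x990) (.leaf (nat_lit 213)) (.leaf (nat_lit 122))))) (.node (nat_lit 0xa14) (.node (nat_lit 0xa09) (.leaf (nat_lit 44)) (.node (nat_lit 0xa11) (.leaf (nat_lit 134)) (.leaf (nat_lit 159)))) (.node (nat_lit 0xa21) (.leaf (nat_lit 155)) (.node (nat_lit 0xa24) (.leaf (nat_lit 252)) (.leaf (nat_lit 129)))))) (.node (nat_lit 0xa90) (.node (nat_lit 0xa50) (.node (nat_lit 0xa44) (.leaf (nat_lit 14)) (.leaf (nat_lit 282))) (.node (nat_lit 0xa81) (.leaf (nat_lit 11)) (.node (nat_lit 0xa84) (.leaf (nat_lit 172)) (.leaf (nat_lit 99))))) (.node (nat_lit 0x1019) (.node (nat_lit 0x1000) (.leaf (nat_lit 296)) (.node (nat_lit 0x1015) (.leaf (nat_lit 281)) (.leaf (nat_lit 36)))) (.node (nat_lit 0x1025) (.leaf (nat_lit 305)) (.node (nat_lit 0x1029) (.leaf (nat_lit 132)) (.leaf (nat_lit 299)))))))) (.node (nat_lit 0x1184) (.node (nat_lit 0x10a4) (.node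 (nat_lit 0x1064) (.node (nat_lit 0x1051) (.node (nat_lit 0x1049) (.leaf (nat_lit 256)) (.leaf (nat_lit 171))) (.node (nat_lit 0x1054) (.leaf (nat_lit 224)) (.node (nat_lit 0x1061) (.leaf (nat_lit 332)) (.leaf (nat_lit 125))))) (.node (nat_lit 0x1091) (.node (nat_lit 0x1085) (.leaf (nat_lit 156)) (.node (nat_lit 0x1089) (.leaf (nat_lit 206)) (.leaf (nat_lit 34)))) (.node (nat_lit 0x1094) (.leaf (nat_lit 346)) (.node (nat_lit 0x10a1) (.leaf (nat_lit 264)) (.leaf (nat_lit 75)))))) (.node (nat_lit 0x1121) (.node (nat_lit 0x1109) (.node (nat_lit 0x1105) (.leaf (nat_lit 141)) (.leaf (nat_lit 94))) (.node (nat_lit 0x1111) (.leaf (nat_lit 280)) (.node (nat_lit 0x1114) (.leaf (nat_lit 308)) (.leaf (nat_lit 83))))) (.node (nat_lit 0x1144) (.node (nat_lit 0x1124) (.leaf (nat_lit 176)) (.node (nat_lit 0x1141) (.leaf (nat_lit 251)) (.leaf (nat_lit 277)))) (.node (nat_lit 0x1150) (.leaf (nat_lit 60)) (.node (nat_lit 0x1181) (.leaf (nat_lit 117)) (.leaf (nat_lit 10))))))) (.node (nat_lit 0x1281)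 (.node (nat_lit 0x1214) (.node (nat_lit 0x1205) (.node (nat_lit 0x1190) (.leaf (nat_lit 302)) (.leaf (nat_lit 126))) (.node (nat_lit 0x1209) (.leaf (nat_lit 193)) (.node (nat_lit 0x1211) (.leaf (nat_lit 79)) (.leaf (nat_lit 147))))) (.node (nat_lit 0x1241) (.node (nat_lit 0x1221) (.leaf (nat_lit 68)) (.node (nat_lit 0x1224) (.leaf (nat_lit 271)) (.leaf (nat_lit 274)))) (.node (nat_lit 0x1244) (.leaf (nat_lit 218)) (.node (nat_lit 0x1250) (.leaf (nat_lit 0)) (.leaf (nat_lit 140)))))) (.node (nat_lit 0x1411) (.node (nat_lit 0x1290) (.node (nat_lit 0x1284) (.leaf (nat_lit 232)) (.leaf (nat_lit 149))) (.node (nat_lit 0x1405) (.leaf (nat_lit 289)) (.node (nat_lit 0x1409) (.leaf (nat_lit 112)) (.leaf (nat_lit 154))))) (.node (nat_lit 0x1424) (.node (nat_lit 0x1414) (.leaf (nat_lit 307)) (.node (nat_lit 0x1421) (.leaf (nat_lit 20)) (.leaf (nat_lit 111)))) (.node (nat_lit 0x1441) (.leaf (nat_lit 242)) (.node (nat_lit 0x1444) (.leaf (nat_lit 239)) (.leaf (nat_lit 104)))))))))) (.node (nat_lit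 0x2150) (.node (nat_lit 0x1955) (.node (nat_lit 0x1665) (.node (nat_lit 0x1569) (.node (nat_lit 0x1504) (.node (nat_lit 0x1484) (.node (nat_lit 0x1481) (.leaf (nat_lit 240)) (.leaf (nat_lit 263))) (.node (nat_lit 0x1490) (.leaf (nat_lit 325)) (.node (nat_lit 0x1501) (.leaf (nat_lit 212)) (.leaf (nat_lit 329))))) (.node (nat_lit 0x1555) (.node (nat_lit 0x1510) (.leaf (nat_lit 63)) (.node (nat_lit 0x1540) (.leaf (nat_lit 214)) (.leaf (nat_lit 327)))) (.node (nat_lit 0x1559) (.leaf (nat_lit 160)) (.node (nat_lit 0x1565) (.leaf (nat_lit 315)) (.leaf (nat_lit 31)))))) (.node (nat_lit 0x1601) (.node (nat_lit 0x1599) (.node (nat_lit 0x1595) (.leaf (nat_lit 211)) (.leaf (nat_lit 108))) (.node (nat_lit 0x15a5) (.leaf (nat_lit 88)) (.node (nat_lit 0x15a9) (.leaf (nat_lit 181)) (.leaf (nat_lit 164))))) (.node (nat_lit 0x1640) (.node (nat_lit 0x1604) (.leaf (nat_lit 113)) (.node (nat_lit 0x1610) (.leaf (nat_lit 77)) (.leaf (nat_lit 8)))) (.node (nat_lit 0x1655) (.leaf (nat_lit 287)) (.node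 (nat_lit 0x1659) (.leaf (nat_lit 290)) (.leaf (nat_lit 48))))))) (.node (nat_lit 0x1824) (.node (nat_lit 0x16a9) (.node (nat_lit 0x1695) (.node (nat_lit 0x1669) (.leaf (nat_lit 312)) (.leaf (nat_lit 336))) (.node (nat_lit 0x1699) (.leaf (nat_lit 188)) (.node (nat_lit 0x16a5) (.leaf (nat_lit 103)) (.leaf (nat_lit 9))))) (.node (nat_lit 0x1811) (.node (nat_lit 0x1805) (.leaf (nat_lit 276)) (.node (nat_lit 0x1809) (.leaf (nat_lit 43)) (.leaf (nat_lit 137)))) (.node (nat_lit 0x1814) (.leaf (nat_lit 128)) (.node (nat_lit 0x1821) (.leaf (nat_lit 182)) (.leaf (nat_lit 278)))))) (.node (nat_lit 0x1884) (.node (nat_lit 0x1844) (.node (nat_lit 0x1841) (.leaf (nat_lit 161)) (.leaf (nat_lit 78))) (.node (nat_lit 0x1850) (.leaf (nat_lit 131)) (.node (nat_lit 0x1881) (.leaf (nat_lit 90)) (.leaf (nat_lit 70))))) (.node (nat_lit 0x1904) (.node (nat_lit 0x1890) (.leaf (nat_lit 102)) (.node (nat_lit 0x1901) (.leaf (nat_lit 262)) (.leaf (nat_lit 345)))) (.node (nat_lit 0x1910) (.leaf (nat_lit 235))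 (.node (nat_lit 0x1940) (.leaf (nat_lit 333)) (.leaf (nat_lit 166)))))))) (.node (nat_lit 0x2025) (.node (nat_lit 0x1a40) (.node (nat_lit 0x1999) (.node (nat_lit 0x1965) (.node (nat_lit 0x1959) (.leaf (nat_lit 254)) (.leaf (nat_lit 260))) (.node (nat_lit 0x1969) (.leaf (nat_lit 200)) (.node (nat_lit 0x1995) (.leaf (nat_lit 178)) (.leaf (nat_lit 139))))) (.node (nat_lit 0x1a01) (.node (nat_lit 0x19a5) (.leaf (nat_lit 197)) (.node (nat_lit 0x19a9) (.leaf (nat_lit 303)) (.leaf (nat_lit 209)))) (.node (nat_lit 0x1a04) (.leaf (nat_lit 97)) (.node (nat_lit 0x1a10) (.leaf (nat_lit 175)) (.leaf (nat_lit 109)))))) (.node (nat_lit 0x1a95) (.node (nat_lit 0x1a59) (.node (nat_lit 0x1a55) (.leaf (nat_lit 190)) (.leaf (nat_lit 135))) (.node (nat_lit 0x1a65) (.leaf (nat_lit 16)) (.node (nat_lit 0x1a69) (.leaf (nat_lit 64)) (.leaf (nat_lit 267))))) (.node (nat_lit 0x1aa9) (.node (nat_lit 0x1a99) (.leaf (nat_lit 58)) (.node (nat_lit 0x1aa5) (.leaf (nat_lit 144)) (.leaf (nat_lit 145)))) (.node (nat_lit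 0x2015) (.leaf (nat_lit 341)) (.node (nat_lit 0x2019) (.leaf (nat_lit 52)) (.leaf (nat_lit 187))))))) (.node (nat_lit 0x2094) (.node (nat_lit 0x2054) (.node (nat_lit 0x2045) (.node (nat_lit 0x2029) (.leaf (nat_lit 300)) (.leaf (nat_lit 253))) (.node (nat_lit 0x2049) (.leaf (nat_lit 105)) (.node (nat_lit 0x2051) (.leaf (nat_lit 285)) (.leaf (nat_lit 334))))) (.node (nat_lit 0x2085) (.node (nat_lit 0x2061) (.leaf (nat_lit 244)) (.node (nat_lit 0x2064) (.leaf (nat_lit 195)) (.leaf (nat_lit 92)))) (.node (nat_lit 0x2089) (.leaf (nat_lit 293)) (.node (nat_lit 0x2091) (.leaf (nat_lit 100)) (.leaf (nat_lit 241)))))) (.node (nat_lit 0x2111) (.node (nat_lit 0x20a4) (.node (nat_lit 0x20a1) (.leaf (nat_lit 50)) (.leaf (nat_lit 21))) (.node (nat_lit 0x2105) (.leaf (nat_lit 295)) (.node (nat_lit 0x2109) (.leaf (nat_lit 248)) (.leaf (nat_lit 245))))) (.node (nat_lit 0x2124) (.node (nat_lit 0x2114) (.leaf (nat_lit 184)) (.node (nat_lit 0x2121) (.leaf (nat_lit 273)) (.leaf (nat_lit 84)))) (.node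 (nat_lit 0x2141) (.leaf (nat_lit 249)) (.node (nat_lit 0x2144) (.leaf (nat_lit 86)) (.leaf (nat_lit 82))))))))) (.node (nat_lit 0x2655) (.node (nat_lit 0x2441) (.node (nat_lit 0x2244) (.node (nat_lit 0x2209) (.node (nat_lit 0x2184) (.node (nat_lit 0x2181) (.leaf (nat_lit 313)) (.leaf (nat_lit 45))) (.node (nat_lit 0x2190) (.leaf (nat_lit 186)) (.node (nat_lit 0x2205) (.leaf (nat_lit 234)) (.leaf (nat_lit 93))))) (.node (nat_lit 0x2221) (.node (nat_lit 0x2211) (.leaf (nat_lit 304)) (.node (nat_lit 0x2214) (.leaf (nat_lit 259)) (.leaf (nat_lit 17)))) (.node (nat_lit 0x2224) (.leaf (nat_lit 179)) (.node (nat_lit 0x2241) (.leaf (nat_lit 199)) (.leaf (nat_lit 311)))))) (.node (nat_lit 0x2405) (.node (nat_lit 0x2281) (.node (nat_lit 0x2250) (.leaf (nat_lit 4)) (.leaf (nat_lit 56))) (.node (nat_lit 0x2284) (.leaf (nat_lit 91)) (.node (nat_lit 0x2290) (.leaf (nat_lit 265)) (.leaf (nat_lit 127))))) (.node (nat_lit 0x2414) (.node (nat_lit 0x2409) (.leaf (nat_lit 217)) (.node (nat_lit 0x2411)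 (.leaf (nat_lit 201)) (.leaf (nat_lit 76)))) (.node (nat_lit 0x2421) (.leaf (nat_lit 47)) (.node (nat_lit 0x2424) (.leaf (nat_lit 279)) (.leaf (nat_lit 347))))))) (.node (nat_lit 0x2559) (.node (nat_lit 0x2490) (.node (nat_lit 0x2450) (.node (nat_lit 0x2444) (.leaf (nat_lit 151)) (.leaf (nat_lit 32))) (.node (nat_lit 0x2481) (.leaf (nat_lit 255)) (.node (nat_lit 0x2484) (.leaf (nat_lit 143)) (.leaf (nat_lit 165))))) (.node (nat_lit 0x2510) (.node (nat_lit 0x2501) (.leaf (nat_lit 66)) (.node (nat_lit 0x2504) (.leaf (nat_lit 228)) (.leaf (nat_lit 237)))) (.node (nat_lit 0x2540) (.leaf (nat_lit 309)) (.node (nat_lit 0x2555) (.leaf (nat_lit 107)) (.leaf (nat_lit 231)))))) (.node (nat_lit 0x25a5) (.node (nat_lit 0x2569) (.node (nat_lit 0x2565) (.leaf (nat_lit 342)) (.leaf (nat_lit 101))) (.node (nat_lit 0x2595) (.leaf (nat_lit 72)) (.node (nat_lit 0x2599) (.leaf (nat_lit 39)) (.leaf (nat_lit 275))))) (.node (nat_lit 0x2604) (.node (nat_lit 0x25a9) (.leaf (nat_lit 272)) (.node (nat_lit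 0x2601) (.leaf (nat_lit 326)) (.leaf (nat_lit 220)))) (.node (nat_lit 0x2610) (.leaf (nat_lit 38)) (.node (nat_lit 0x2640) (.leaf (nat_lit 42)) (.leaf (nat_lit 297)))))))) (.node (nat_lit 0x2910) (.node (nat_lit 0x2814) (.node (nat_lit 0x2699) (.node (nat_lit 0x2665) (.node (nat_lit 0x2659) (.leaf (nat_lit 208)) (.leaf (nat_lit 169))) (.node (nat_lit 0x2669) (.leaf (nat_lit 114)) (.node (nat_lit 0x2695) (.leaf (nat_lit 338)) (.leaf (nat_lit 110))))) (.node (nat_lit 0x2805) (.node (nat_lit 0x26a5) (.leaf (nat_lit 35)) (.node (nat_lit 0x26a9) (.leaf (nat_lit 25)) (.leaf (nat_lit 162)))) (.node (nat_lit 0x2809) (.leaf (nat_lit 170)) (.node (nat_lit 0x2811) (.leaf (nat_lit 54)) (.leaf (nat_lit 292)))))) (.node (nat_lit 0x2850) (.node (nat_lit 0x2824) (.node (nat_lit 0x2821) (.leaf (nat_lit 306)) (.leaf (nat_lit 123))) (.node (nat_lit 0x2841) (.leaf (nat_lit 236)) (.node (nat_lit 0x2844) (.leaf (nat_lit 210)) (.leaf (nat_lit 26))))) (.node (nat_lit 0x2890) (.node (nat_lit 0x2881) (.leaf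 (nat_lit 115)) (.node (nat_lit 0x2884) (.leaf (nat_lit 18)) (.leaf (nat_lit 335)))) (.node (nat_lit 0x2901) (.leaf (nat_lit 148)) (.node (nat_lit 0x2904) (.leaf (nat_lit 314)) (.leaf (nat_lit 59))))))) (.node (nat_lit 0x2a04) (.node (nat_lit 0x2969) (.node (nat_lit 0x2955) (.node (nat_lit 0x2940) (.leaf (nat_lit 222)) (.leaf (nat_lit 323))) (.node (nat_lit 0x2959) (.leaf (nat_lit 322)) (.node (nat_lit 0x2965) (.leaf (nat_lit 328)) (.leaf (nat_lit 120))))) (.node (nat_lit 0x29a5) (.node (nat_lit 0x2995) (.leaf (nat_lit 80)) (.node (nat_lit 0x2999) (.leaf (nat_lit 226)) (.leaf (nat_lit 62)))) (.node (nat_lit 0x29a9) (.leaf (nat_lit 180)) (.node (nat_lit 0x2a01) (.leaf (nat_lit 203)) (.leaf (nat_lit 257)))))) (.node (nat_lit 0x2a65) (.node (nat_lit 0x2a40) (.node (nat_lit 0x2a10) (.leaf (nat_lit 269)) (.leaf (nat_lit 221))) (.node (nat_lit 0x2a55) (.leaf (nat_lit 124)) (.node (nat_lit 0x2a59) (.leaf (nat_lit 319)) (.leaf (nat_lit 71))))) (.node (nat_lit 0x2a99) (.node (nat_lit 0x2a69)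 (.leaf (nat_lit 167)) (.node (nat_lit 0x2a95) (.leaf (nat_lit 320)) (.leaf (nat_lit 136)))) (.node (nat_lit 0x2aa5) (.leaf (nat_lit 229)) (.node (nat_lit 0x2aa9) (.leaf (nat_lit 266)) (.leaf (nat_lit 202)))))))))))
theorem h4a : ptsOK F3 7 351 VTa Ba true = true := by decide +kernel
theorem h5a : fullOK F3 7 351 VTa Ba (mid 2 7) 1 2 = true := by decide +kernel
theorem h6a : allL gs (vecOK F3 7 351 9 512 VTa (mid 2 7) 2) = true := by decide +kernel
def VTb : ℕ := nat_lit 0x224008910a44125261aa04195a4660910a2450518454a9a110684551099981909594185a4194a6a096a4655505160a94a95825882594198116852240a840924459a102a642a84594a0a5a59a146040164618445848108995514144665455408a5a9164245684125885208586452299914a105942a10852625544942690a51989950045155645695105641a485a1061162a1129214090442448455884086441116164812a428814455625605166422a582199851994552291828658108242540a1110550546a552115111265295285695446248219894921254290548268a448921814154a0485664699445419a605a046aa691021942a4096529064919692985204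82061945826489911104118104550455895825620419261a14851565a5259058224964459016562651a914a46919666a042942a5164669652a56aa58692245a15506581409856855994205115188a6695961015545105148266690244228128269a9924222482948250415505125594460419911551411a886a99246660909902299066125815104584160442250644996569448654459696465610668160a681449459a54a169845124551959099019448a192524859102859595616988651418541090292569910644649414665124482926928255141a540aa5241291068964419555846a40a0426a9a500545109241541465902585a2150906259a91a0916a6a6998458915625a65215106942102999452a1521409a1990152924915a491856a161914a5a224a5559a5a85a546561aa5020442510595150a89a085aa41054609a490861a6549055286250085184925155959525921464288521a560406141a55504a21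
def Bb : BT := (.node (nat_lit 0x1611) (.node (nat_lit 0x964) (.node (nat_lit 0x545) (.node (nat_lit 644) (.node (nat_lit 521) (.node (nat_lit 357) (.node (nat_lit 293) (.node (nat_lit 277) (.leaf (nat_lit 143)) (.leaf (nat_lit 195))) (.node (nat_lit 325) (.leaf (nat_lit 292)) (.node (nat_lit 341) (.leaf (nat_lit 325)) (.leaf (nat_lit 156))))) (.node (nat_lit 405) (.node (nat_lit 389) (.leaf (nat_lit 182)) (.leaf (nat_lit 3))) (.node (nat_lit 421) (.leaf (nat_lit 344)) (.node (nat_lit 516) (.leaf (nat_lit 2)) (.leaf (nat_lit 28)))))) (.node (nat_lit 580) (.node (nat_lit 537) (.node (nat_lit 532) (.leaf (nat_lit 243)) (.leaf (nat_lit 13))) (.node (nat_lit 548) (.leaf (nat_lit 261)) (.node (nat_lit 553) (.leaf (nat_lit 349)) (.leaf (nat_lit 130))))) (.node (nat_lit 601) (.node (nat_lit 585) (.leaf (nat_lit 264)) (.node (nat_lit 596) (.leaf (nat_lit 315)) (.leaf (nat_lit 242)))) (.node (nat_lit 612) (.leaf (nat_lit 209)) (.node (nat_lit 617) (.leaf (nat_lit 131)) (.leaf (nat_lit 280)))))))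 (.node (nat_lit 0x455) (.node (nat_lit 681) (.node (nat_lit 660) (.node (nat_lit 649) (.leaf (nat_lit 241)) (.leaf (nat_lit 341))) (.node (nat_lit 665) (.leaf (nat_lit 279)) (.node (nat_lit 676) (.leaf (nat_lit 48)) (.leaf (nat_lit 210))))) (.node (nat_lit 0x419) (.node (nat_lit 0x411) (.leaf (nat_lit 79)) (.node (nat_lit 0x415) (.leaf (nat_lit 260)) (.leaf (nat_lit 21)))) (.node (nat_lit 0x424) (.leaf (nat_lit 89)) (.node (nat_lit 0x451) (.leaf (nat_lit 67)) (.leaf (nat_lit 276)))))) (.node (nat_lit 0x499) (.node (nat_lit 0x464) (.node (nat_lit 0x459) (.leaf (nat_lit 196)) (.leaf (nat_lit 314))) (.node (nat_lit 0x491) (.leaf (nat_lit 88)) (.node (nat_lit 0x495) (.leaf (nat_lit 85)) (.leaf (nat_lit 141))))) (.node (nat_lit 0x511) (.node (nat_lit 0x4a4) (.leaf (nat_lit 235)) (.node (nat_lit 0x505) (.leaf (nat_lit 267)) (.leaf (nat_lit 340)))) (.node (nat_lit 0x514) (.leaf (nat_lit 299)) (.node (nat_lit 0x529) (.leaf (nat_lit 154)) (.leaf (nat_lit 179)))))))) (.node (nat_lit 0x821)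 (.node (nat_lit 0x625) (.node (nat_lit 0x591) (.node (nat_lit 0x554) (.node (nat_lit 0x551) (.leaf (nat_lit 68)) (.leaf (nat_lit 106))) (.node (nat_lit 0x569) (.leaf (nat_lit 137)) (.node (nat_lit 0x585) (.leaf (nat_lit 274)) (.leaf (nat_lit 259))))) (.node (nat_lit 0x604) (.node (nat_lit 0x594) (.leaf (nat_lit 305)) (.node (nat_lit 0x5a9) (.leaf (nat_lit 310)) (.leaf (nat_lit 57)))) (.node (nat_lit 0x609) (.leaf (nat_lit 197)) (.node (nat_lit 0x611) (.leaf (nat_lit 20)) (.leaf (nat_lit 339)))))) (.node (nat_lit 0x684) (.node (nat_lit 0x649) (.node (nat_lit 0x644) (.leaf (nat_lit 60)) (.leaf (nat_lit 122))) (.node (nat_lit 0x651) (.leaf (nat_lit 191)) (.node (nat_lit 0x665) (.leaf (nat_lit 103)) (.leaf (nat_lit 86))))) (.node (nat_lit 0x6a5) (.node (nat_lit 0x689) (.leaf (nat_lit 336)) (.node (nat_lit 0x691) (.leaf (nat_lit 76)) (.leaf (nat_lit 178)))) (.node (nat_lit 0x810) (.leaf (nat_lit 238)) (.node (nat_lit 0x814) (.leaf (nat_lit 302)) (.leaf (nat_lit 161))))))) (.node (nat_lit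 0x8a5) (.node (nat_lit 0x861) (.node (nat_lit 0x829) (.node (nat_lit 0x825) (.leaf (nat_lit 230)) (.leaf (nat_lit 144))) (.node (nat_lit 0x850) (.leaf (nat_lit 84)) (.node (nat_lit 0x854) (.leaf (nat_lit 45)) (.leaf (nat_lit 51))))) (.node (nat_lit 0x890) (.node (nat_lit 0x865) (.leaf (nat_lit 18)) (.node (nat_lit 0x869) (.leaf (nat_lit 211)) (.leaf (nat_lit 5)))) (.node (nat_lit 0x894) (.leaf (nat_lit 317)) (.node (nat_lit 0x8a1) (.leaf (nat_lit 123)) (.leaf (nat_lit 102)))))) (.node (nat_lit 0x921) (.node (nat_lit 0x905) (.node (nat_lit 0x8a9) (.leaf (nat_lit 296)) (.leaf (nat_lit 251))) (.node (nat_lit 0x910) (.leaf (nat_lit 16)) (.node (nat_lit 0x919) (.leaf (nat_lit 151)) (.leaf (nat_lit 133))))) (.node (nat_lit 0x950) (.node (nat_lit 0x924) (.leaf (nat_lit 228)) (.node (nat_lit 0x945) (.leaf (nat_lit 41)) (.leaf (nat_lit 11)))) (.node (nat_lit 0x959) (.leaf (nat_lit 227)) (.node (nat_lit 0x961) (.leaf (nat_lit 332)) (.leaf (nat_lit 63))))))))) (.node (nat_lit 0x1190) (.node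 (nat_lit 0x1045) (.node (nat_lit 0xa44) (.node (nat_lit 0x9a4) (.node (nat_lit 0x990) (.node (nat_lit 0x985) (.leaf (nat_lit 184)) (.leaf (nat_lit 164))) (.node (nat_lit 0x999) (.leaf (nat_lit 104)) (.node (nat_lit 0x9a1) (.leaf (nat_lit 334)) (.leaf (nat_lit 44))))) (.node (nat_lit 0xa10) (.node (nat_lit 0xa04) (.leaf (nat_lit 83)) (.node (nat_lit 0xa09) (.leaf (nat_lit 220)) (.leaf (nat_lit 149)))) (.node (nat_lit 0xa15) (.leaf (nat_lit 286)) (.node (nat_lit 0xa21) (.leaf (nat_lit 233)) (.leaf (nat_lit 0)))))) (.node (nat_lit 0xa84) (.node (nat_lit 0xa50) (.node (nat_lit 0xa49) (.leaf (nat_lit 77)) (.leaf (nat_lit 91))) (.node (nat_lit 0xa55) (.leaf (nat_lit 175)) (.node (nat_lit 0xa61) (.leaf (nat_lit 34)) (.leaf (nat_lit 205))))) (.node (nat_lit 0xa95) (.node (nat_lit 0xa89) (.leaf (nat_lit 316)) (.node (nat_lit 0xa90) (.leaf (nat_lit 24)) (.leaf (nat_lit 257)))) (.node (nat_lit 0xaa1) (.leaf (nat_lit 171)) (.node (nat_lit 0x1041) (.leaf (nat_lit 311)) (.leaf (nat_lit 198)))))))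 (.node (nat_lit 0x10a4) (.node (nat_lit 0x1061) (.node (nat_lit 0x1051) (.node (nat_lit 0x1049) (.leaf (nat_lit 126)) (.leaf (nat_lit 347))) (.node (nat_lit 0x1055) (.leaf (nat_lit 65)) (.node (nat_lit 0x1059) (.leaf (nat_lit 221)) (.leaf (nat_lit 26))))) (.node (nat_lit 0x1084) (.node (nat_lit 0x1065) (.leaf (nat_lit 331)) (.node (nat_lit 0x1069) (.leaf (nat_lit 166)) (.leaf (nat_lit 50)))) (.node (nat_lit 0x1090) (.leaf (nat_lit 49)) (.node (nat_lit 0x1094) (.leaf (nat_lit 92)) (.leaf (nat_lit 27)))))) (.node (nat_lit 0x1144) (.node (nat_lit 0x1115) (.node (nat_lit 0x1105) (.leaf (nat_lit 348)) (.leaf (nat_lit 240))) (.node (nat_lit 0x1125) (.leaf (nat_lit 255)) (.node (nat_lit 0x1141) (.leaf (nat_lit 281)) (.leaf (nat_lit 94))))) (.node (nat_lit 0x1161) (.node (nat_lit 0x1151) (.leaf (nat_lit 155)) (.node (nat_lit 0x1154) (.leaf (nat_lit 160)) (.leaf (nat_lit 247)))) (.node (nat_lit 0x1164) (.leaf (nat_lit 303)) (.node (nat_lit 0x1189) (.leaf (nat_lit 183)) (.leaf (nat_lit 231))))))))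 (.node (nat_lit 0x1449) (.node (nat_lit 0x1261) (.node (nat_lit 0x1214) (.node (nat_lit 0x11a9) (.node (nat_lit 0x1199) (.leaf (nat_lit 7)) (.leaf (nat_lit 248))) (.node (nat_lit 0x1204) (.leaf (nat_lit 180)) (.node (nat_lit 0x1209) (.leaf (nat_lit 204)) (.leaf (nat_lit 225))))) (.node (nat_lit 0x1229) (.node (nat_lit 0x1219) (.leaf (nat_lit 189)) (.node (nat_lit 0x1224) (.leaf (nat_lit 119)) (.leaf (nat_lit 223)))) (.node (nat_lit 0x1241) (.leaf (nat_lit 288)) (.node (nat_lit 0x1251) (.leaf (nat_lit 78)) (.leaf (nat_lit 111)))))) (.node (nat_lit 0x1411) (.node (nat_lit 0x1290) (.node (nat_lit 0x1285) (.leaf (nat_lit 346)) (.leaf (nat_lit 109))) (.node (nat_lit 0x1295) (.leaf (nat_lit 208)) (.node (nat_lit 0x12a5) (.leaf (nat_lit 234)) (.leaf (nat_lit 323))))) (.node (nat_lit 0x1424) (.node (nat_lit 0x1415) (.leaf (nat_lit 136)) (.node (nat_lit 0x1419) (.leaf (nat_lit 239)) (.leaf (nat_lit 216)))) (.node (nat_lit 0x1441) (.leaf (nat_lit 61)) (.node (nat_lit 0x1445) (.leaf (nat_lit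 273)) (.leaf (nat_lit 118))))))) (.node (nat_lit 0x1541) (.node (nat_lit 0x14a5) (.node (nat_lit 0x1454) (.node (nat_lit 0x1450) (.leaf (nat_lit 107)) (.leaf (nat_lit 81))) (.node (nat_lit 0x1484) (.leaf (nat_lit 25)) (.node (nat_lit 0x14a1) (.leaf (nat_lit 237)) (.leaf (nat_lit 15))))) (.node (nat_lit 0x1511) (.node (nat_lit 0x14a9) (.leaf (nat_lit 36)) (.node (nat_lit 0x1505) (.leaf (nat_lit 338)) (.leaf (nat_lit 142)))) (.node (nat_lit 0x1514) (.leaf (nat_lit 236)) (.node (nat_lit 0x1529) (.leaf (nat_lit 300)) (.leaf (nat_lit 42)))))) (.node (nat_lit 0x1589) (.node (nat_lit 0x1550) (.node (nat_lit 0x1544) (.leaf (nat_lit 1)) (.leaf (nat_lit 335))) (.node (nat_lit 0x1559) (.leaf (nat_lit 297)) (.node (nat_lit 0x1565) (.leaf (nat_lit 275)) (.leaf (nat_lit 188))))) (.node (nat_lit 0x15a4) (.node (nat_lit 0x1595) (.leaf (nat_lit 53)) (.node (nat_lit 0x15a1) (.leaf (nat_lit 10)) (.leaf (nat_lit 293)))) (.node (nat_lit 0x1604) (.leaf (nat_lit 40)) (.node (nat_lit 0x1609) (.leaf (nat_lit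 4)) (.leaf (nat_lit 201)))))))))) (.node (nat_lit 0x2265) (.node (nat_lit 0x1a59) (.node (nat_lit 0x1895) (.node (nat_lit 0x1810) (.node (nat_lit 0x1664) (.node (nat_lit 0x1641) (.node (nat_lit 0x1625) (.leaf (nat_lit 73)) (.leaf (nat_lit 254))) (.node (nat_lit 0x1650) (.leaf (nat_lit 272)) (.node (nat_lit 0x1655) (.leaf (nat_lit 285)) (.leaf (nat_lit 97))))) (.node (nat_lit 0x1694) (.node (nat_lit 0x1669) (.leaf (nat_lit 252)) (.node (nat_lit 0x1685) (.leaf (nat_lit 33)) (.leaf (nat_lit 318)))) (.node (nat_lit 0x1699) (.leaf (nat_lit 120)) (.node (nat_lit 0x16a1) (.leaf (nat_lit 90)) (.leaf (nat_lit 38)))))) (.node (nat_lit 0x1841) (.node (nat_lit 0x1821) (.node (nat_lit 0x1814) (.leaf (nat_lit 139)) (.leaf (nat_lit 253))) (.node (nat_lit 0x1825) (.leaf (nat_lit 250)) (.node (nat_lit 0x1829) (.leaf (nat_lit 322)) (.leaf (nat_lit 113))))) (.node (nat_lit 0x1864) (.node (nat_lit 0x1845) (.leaf (nat_lit 115)) (.node (nat_lit 0x1849) (.leaf (nat_lit 269)) (.leaf (nat_lit 12)))) (.node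 (nat_lit 0x1884) (.leaf (nat_lit 37)) (.node (nat_lit 0x1891) (.leaf (nat_lit 262)) (.leaf (nat_lit 54))))))) (.node (nat_lit 0x1989) (.node (nat_lit 0x1921) (.node (nat_lit 0x1905) (.node (nat_lit 0x1899) (.leaf (nat_lit 194)) (.leaf (nat_lit 181))) (.node (nat_lit 0x1910) (.leaf (nat_lit 186)) (.node (nat_lit 0x1919) (.leaf (nat_lit 75)) (.leaf (nat_lit 173))))) (.node (nat_lit 0x1944) (.node (nat_lit 0x1924) (.leaf (nat_lit 8)) (.node (nat_lit 0x1941) (.leaf (nat_lit 207)) (.leaf (nat_lit 320)))) (.node (nat_lit 0x1955) (.leaf (nat_lit 140)) (.node (nat_lit 0x1969) (.leaf (nat_lit 74)) (.leaf (nat_lit 206)))))) (.node (nat_lit 0x1a09) (.node (nat_lit 0x1994) (.node (nat_lit 0x1991) (.leaf (nat_lit 278)) (.leaf (nat_lit 138))) (.node (nat_lit 0x19a5) (.leaf (nat_lit 162)) (.node (nat_lit 0x1a04) (.leaf (nat_lit 110)) (.leaf (nat_lit 214))))) (.node (nat_lit 0x1a21) (.node (nat_lit 0x1a10) (.leaf (nat_lit 58)) (.node (nat_lit 0x1a15) (.leaf (nat_lit 270)) (.leaf (nat_lit 163))))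 (.node (nat_lit 0x1a41) (.leaf (nat_lit 62)) (.node (nat_lit 0x1a54) (.leaf (nat_lit 330)) (.leaf (nat_lit 80)))))))) (.node (nat_lit 0x2125) (.node (nat_lit 0x2081) (.node (nat_lit 0x1aa9) (.node (nat_lit 0x1a85) (.node (nat_lit 0x1a65) (.leaf (nat_lit 308)) (.leaf (nat_lit 52))) (.node (nat_lit 0x1a91) (.leaf (nat_lit 32)) (.node (nat_lit 0x1aa4) (.leaf (nat_lit 327)) (.leaf (nat_lit 22))))) (.node (nat_lit 0x2050) (.node (nat_lit 0x2040) (.leaf (nat_lit 213)) (.node (nat_lit 0x2044) (.leaf (nat_lit 306)) (.leaf (nat_lit 124)))) (.node (nat_lit 0x2054) (.leaf (nat_lit 165)) (.node (nat_lit 0x2064) (.leaf (nat_lit 127)) (.leaf (nat_lit 333)))))) (.node (nat_lit 0x2099) (.node (nat_lit 0x2089) (.node (nat_lit 0x2085) (.leaf (nat_lit 203)) (.leaf (nat_lit 290))) (.node (nat_lit 0x2091) (.leaf (nat_lit 185)) (.node (nat_lit 0x2095) (.leaf (nat_lit 342)) (.leaf (nat_lit 193))))) (.node (nat_lit 0x20a9) (.node (nat_lit 0x20a1) (.leaf (nat_lit 153)) (.node (nat_lit 0x20a5) (.leaf (nat_lit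 245)) (.leaf (nat_lit 145)))) (.node (nat_lit 0x2105) (.leaf (nat_lit 324)) (.node (nat_lit 0x2115) (.leaf (nat_lit 125)) (.leaf (nat_lit 263))))))) (.node (nat_lit 0x21a4) (.node (nat_lit 0x2169) (.node (nat_lit 0x2149) (.node (nat_lit 0x2140) (.leaf (nat_lit 128)) (.leaf (nat_lit 266))) (.node (nat_lit 0x2150) (.leaf (nat_lit 283)) (.node (nat_lit 0x2159) (.leaf (nat_lit 93)) (.leaf (nat_lit 219))))) (.node (nat_lit 0x2191) (.node (nat_lit 0x2181) (.leaf (nat_lit 96)) (.node (nat_lit 0x2184) (.leaf (nat_lit 222)) (.leaf (nat_lit 304)))) (.node (nat_lit 0x2194) (.leaf (nat_lit 289)) (.node (nat_lit 0x21a1) (.leaf (nat_lit 202)) (.leaf (nat_lit 190)))))) (.node (nat_lit 0x2224) (.node (nat_lit 0x2209) (.node (nat_lit 0x2204) (.leaf (nat_lit 169)) (.leaf (nat_lit 192))) (.node (nat_lit 0x2214) (.leaf (nat_lit 321)) (.node (nat_lit 0x2219) (.leaf (nat_lit 291)) (.leaf (nat_lit 95))))) (.node (nat_lit 0x2245) (.node (nat_lit 0x2229) (.leaf (nat_lit 146)) (.node (nat_lit 0x2240) (.leaf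 (nat_lit 159)) (.leaf (nat_lit 350)))) (.node (nat_lit 0x2250) (.leaf (nat_lit 168)) (.node (nat_lit 0x2255) (.leaf (nat_lit 14)) (.leaf (nat_lit 282))))))))) (.node (nat_lit 0x26a4) (.node (nat_lit 0x2540) (.node (nat_lit 0x2465) (.node (nat_lit 0x2415) (.node (nat_lit 0x2291) (.node (nat_lit 0x2281) (.leaf (nat_lit 301)) (.leaf (nat_lit 150))) (.node (nat_lit 0x22a1) (.leaf (nat_lit 246)) (.node (nat_lit 0x2411) (.leaf (nat_lit 268)) (.leaf (nat_lit 265))))) (.node (nat_lit 0x2440) (.node (nat_lit 0x2419) (.leaf (nat_lit 66)) (.node (nat_lit 0x2424) (.leaf (nat_lit 129)) (.leaf (nat_lit 294)))) (.node (nat_lit 0x2444) (.leaf (nat_lit 99)) (.node (nat_lit 0x2461) (.leaf (nat_lit 199)) (.leaf (nat_lit 39)))))) (.node (nat_lit 0x2490) (.node (nat_lit 0x2481) (.node (nat_lit 0x2469) (.leaf (nat_lit 116)) (.leaf (nat_lit 218))) (.node (nat_lit 0x2485) (.leaf (nat_lit 258)) (.node (nat_lit 0x2489) (.leaf (nat_lit 100)) (.leaf (nat_lit 200))))) (.node (nat_lit 0x2511) (.node (nat_lit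 0x2494) (.leaf (nat_lit 147)) (.node (nat_lit 0x2505) (.leaf (nat_lit 101)) (.leaf (nat_lit 87)))) (.node (nat_lit 0x2514) (.leaf (nat_lit 217)) (.node (nat_lit 0x2529) (.leaf (nat_lit 47)) (.leaf (nat_lit 329))))))) (.node (nat_lit 0x2609) (.node (nat_lit 0x2581) (.node (nat_lit 0x2555) (.node (nat_lit 0x2549) (.leaf (nat_lit 277)) (.leaf (nat_lit 9))) (.node (nat_lit 0x2561) (.leaf (nat_lit 326)) (.node (nat_lit 0x2564) (.leaf (nat_lit 30)) (.leaf (nat_lit 105))))) (.node (nat_lit 0x2599) (.node (nat_lit 0x2584) (.leaf (nat_lit 244)) (.node (nat_lit 0x2590) (.leaf (nat_lit 157)) (.leaf (nat_lit 64)))) (.node (nat_lit 0x25a5) (.leaf (nat_lit 177)) (.node (nat_lit 0x2604) (.leaf (nat_lit 117)) (.leaf (nat_lit 319)))))) (.node (nat_lit 0x2654) (.node (nat_lit 0x2625) (.node (nat_lit 0x2611) (.leaf (nat_lit 132)) (.leaf (nat_lit 55))) (.node (nat_lit 0x2640) (.leaf (nat_lit 229)) (.node (nat_lit 0x2645) (.leaf (nat_lit 43)) (.leaf (nat_lit 287))))) (.node (nat_lit 0x2681) (.node (nat_lit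 0x2659) (.leaf (nat_lit 298)) (.node (nat_lit 0x2661) (.leaf (nat_lit 121)) (.leaf (nat_lit 249)))) (.node (nat_lit 0x2690) (.leaf (nat_lit 114)) (.node (nat_lit 0x2695) (.leaf (nat_lit 152)) (.leaf (nat_lit 158)))))))) (.node (nat_lit 0x2949) (.node (nat_lit 0x2859) (.node (nat_lit 0x2825) (.node (nat_lit 0x2810) (.node (nat_lit 0x26a9) (.leaf (nat_lit 59)) (.leaf (nat_lit 70))) (.node (nat_lit 0x2814) (.leaf (nat_lit 71)) (.node (nat_lit 0x2821) (.leaf (nat_lit 112)) (.leaf (nat_lit 23))))) (.node (nat_lit 0x2844) (.node (nat_lit 0x2829) (.leaf (nat_lit 82)) (.node (nat_lit 0x2840) (.leaf (nat_lit 309)) (.leaf (nat_lit 313)))) (.node (nat_lit 0x2851) (.leaf (nat_lit 337)) (.node (nat_lit 0x2855) (.leaf (nat_lit 307)) (.leaf (nat_lit 167)))))) (.node (nat_lit 0x2905) (.node (nat_lit 0x2885) (.node (nat_lit 0x2881) (.leaf (nat_lit 98)) (.leaf (nat_lit 256))) (.node (nat_lit 0x2889) (.leaf (nat_lit 6)) (.node (nat_lit 0x28a4) (.leaf (nat_lit 35)) (.leaf (nat_lit 224))))) (.node (nat_lit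 0x2921) (.node (nat_lit 0x2910) (.leaf (nat_lit 226)) (.node (nat_lit 0x2919) (.leaf (nat_lit 212)) (.leaf (nat_lit 343)))) (.node (nat_lit 0x2924) (.leaf (nat_lit 271)) (.node (nat_lit 0x2940) (.leaf (nat_lit 19)) (.leaf (nat_lit 69))))))) (.node (nat_lit 0x2a15) (.node (nat_lit 0x2984) (.node (nat_lit 0x2954) (.node (nat_lit 0x2951) (.leaf (nat_lit 187)) (.leaf (nat_lit 31))) (.node (nat_lit 0x2965) (.leaf (nat_lit 232)) (.node (nat_lit 0x2981) (.leaf (nat_lit 172)) (.leaf (nat_lit 215))))) (.node (nat_lit 0x2a04) (.node (nat_lit 0x2995) (.leaf (nat_lit 108)) (.node (nat_lit 0x29a9) (.leaf (nat_lit 17)) (.leaf (nat_lit 148)))) (.node (nat_lit 0x2a09) (.leaf (nat_lit 176)) (.node (nat_lit 0x2a10) (.leaf (nat_lit 328)) (.leaf (nat_lit 284)))))) (.node (nat_lit 0x2a64) (.node (nat_lit 0x2a40) (.node (nat_lit 0x2a21) (.leaf (nat_lit 46)) (.leaf (nat_lit 135))) (.node (nat_lit 0x2a45) (.leaf (nat_lit 72)) (.node (nat_lit 0x2a51) (.leaf (nat_lit 295)) (.leaf (nat_lit 174))))) (.node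 (nat_lit 0x2a94) (.node (nat_lit 0x2a69) (.leaf (nat_lit 312)) (.node (nat_lit 0x2a81) (.leaf (nat_lit 56)) (.leaf (nat_lit 345)))) (.node (nat_lit 0x2a99) (.leaf (nat_lit 29)) (.node (nat_lit 0x2aa5) (.leaf (nat_lit 134)) (.leaf (nat_lit 170)))))))))))
theorem h4b : ptsOK F3 7 351 VTb Bb true = true := by decide +kernel
theorem h5b : fullOK F3 7 351 VTb Bb (uOdd F3 3) 2 1 = true := by decide +kernel
theorem h6b : allL gs (vecOK F3 7 351 9 512 VTb (uOdd F3 3) 1) = true := by decide +kernel
theorem hR : Nat.beq R (Nat.land (K23.perp ([], 1)) (K23.perp ([], 2))) = true := by decide +kernel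
theorem pD : pairOK K23 K23.full [([], 1), ([], 2), ([], 3), ([], 4), ([], 5), ([], 6), ([], 7), ([], 8), ([], 9), ([], 10)] ([], 1) [1, 0, 2, 3, 1, 4, 7, 5, 8, 3, 2, 6, 9, 4, 7, 3, 5, 1, 4, 2, 7, 8, 3, 1, 5, 6, 0, 7, 2, 4, 5, 8, 3, 4, 9, 1, 6, 3, 2, 7, 0, 1, 3, 0, 2, 4, 7, 1, 3, 0, 5, 4, 2, 6, 1, 9] [([], 3), ([], 4), ([], 5), ([], 6), ([], 7), ([], 8), ([], 9), ([], 10), ([2, 3, 4, 8, 5, 4, 3, 2], 1)] ([], 2) [0, 8, 1, 3, 6, 2, 5, 4, 8, 7, 3, 1, 2, 4, 6, 8, 5, 6, 0, 3, 1, 8, 7, 5, 2, 4, 3, 6, 1, 0, 5, 1, 2, 7, 6, 8, 3, 4, 1, 5] = true := by decide +kernel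
theorem cnt : K23.cntIs 15 3510 (K23.perp ([], 1)) = true := by decide +kernel
theorem inv : invOK K23 ([], 1) ([], 2) [([], 4), ([], 5), ([], 6), ([], 7), ([], 8), ([], 9), ([], 10), ([3, 4, 5, 2, 3, 4, 8, 6, 5, 4, 3, 2], 1)] [(([], 10), ([], 1)), (([], 3), ([], 1)), (([3, 4, 8, 9, 5, 4, 8, 6, 5, 4, 3], 2), ([], 3))] [0, 1, 4, 8, 5, 6, 2, 3, 7, 4, 8, 2, 1, 5, 6, 7, 4, 3, 2, 1, 8, 5, 4, 7, 0, 6, 8, 4, 3, 2, 1, 4, 3] = true := by decide +kernel
theorem hfx : Nat.beq (fx K23 15 (rfW ([], 1) ++ rfW ([], 2))) R = true := by decide +kernel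
theorem bs : baseOK K23 15 R [([], 10), ([], 6), ([], 4), ([], 9), ([3, 4, 5, 6, 7, 10, 8, 9, 4, 8, 5, 6, 4, 5, 2, 3, 4, 8, 7, 6, 5, 4, 3, 2], 1), ([3, 4, 5, 6, 7, 10, 4, 5, 3, 4, 8, 9, 4, 8, 5, 6, 4, 5, 2, 3, 4, 8, 7, 6, 5, 4, 3, 2], 1), ([3, 4, 5, 6, 7, 10, 2, 3, 4, 5, 1, 2, 3, 4, 8, 9, 4, 8, 6, 3, 4, 5, 2, 3, 4, 8, 7, 6, 5, 4, 3, 2], 1)] 7 = true := by decide +kernel

/-- a point model with the data of Fi23 -/
structure Is23 {G : Type*} [Group G] {D : Set G} (T : LModel G D) : Prop where
  dat : T.dat = K23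
  gen : Gen T
  card : Nat.card G = 4089470473293004800

theorem is23_T23 : Is23 T23 :=
  ⟨rfl, fun K h => H58.Fi23P.eq_top K fun x hx => h x (by revert x; decide) (by
    show x ≤ 10
    revert x; decide), H58.Fi23P.card_eq⟩

theorem exists_is23 {G : Type*} [Group G] [Finite G] {D : Set G} (hD : IsThreeTranspositionGroup D)
    (ht : IsOfTypeM23 G D) : ∃ T : LModel G D, Is23 T := by
  obtain ⟨e, he⟩ := ident23 hD ht
  exact ⟨lcomap T23 e he, rfl, is23_T23.gen.lcomap e he,
    (Nat.card_congr e.toEquiv).trans is23_T23.card⟩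

variable {G : Type*} [Group G] [Finite G] {D : Set G} {T : LModel G D} (h : T.dat = K23)
include h

omit [Finite G] in
theorem okL {y : ℕ} (h1 : 1 ≤ y) (h2 : y ≤ 10) : T.dat.okP ([], y) = true := by
  rw [h]; revert y; decide

omit [Finite G] in
theorem st_R : T.st R = nb D (T.val ([], 1)) ∩ nb D (T.val ([], 2)) := by
  rw [T.st_eq_of hR, T.st_land, ← h, T.st_perp (okL h (by decide) (by decide)),
    T.st_perp (okL h (by decide) (by decide))]

omit [Finite G] in
theorem cl_R : Cl (T.st R) := st_R h ▸ (T.cl.nb T.tt _).inter (T.cl.nb T.tt _)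

omit [Finite G] in
theorem pair_D : PairTr ⊤ D (T.val ([], 1)) (T.val ([], 2)) := by
  have h1 := pairTr_of T (R := T.dat.full) (by rw [T.st_full]; exact T.cl) (h ▸ pD)
  rw [T.st_full] at h1
  exact ⟨fun x hx => (h1.1 x hx).imp fun _ h => ⟨trivial, h.2⟩,
    fun x hx y hy hn => (h1.2 x hx y hy hn).imp fun _ h => ⟨trivial, h.2⟩⟩

omit [Finite G] in
theorem ncard_nb : (nb D (T.val ([], 1))).ncard = 3510 := by
  rw [← T.st_perp (okL h (by decide) (by decide)), T.ncard_st (h ▸ cnt)]

theorem card_cent_le (hc : Nat.card G = 4089470473293004800) :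
    Nat.card (centralizer {T.val ([], 1), T.val ([], 2)} : Subgroup G) ≤ 4585351680 := by
  have ha := T.val_mem (okL h (y := 1) (by decide) (by decide))
  have a1 := (pair_D h).card_le ha
  have a2 := ncard_nc ha
  have a3 : D.ncard = 31671 := T.ncard_D.trans (congrArg Dat.N h)
  rw [ncard_nb h, a3] at a2
  rw [card_top, hc, a3, show {r | r ∈ D ∧ ¬ Commute (T.val ([], 1)) r}.ncard = 28160 by omega,
    ← cent_pair_eq] at a1
  omega

theorem main (hc : Nat.card G = 4089470473293004800) :
    closure (T.st R) = centralizer {T.val ([], 1), T.val ([], 2)} ∧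
      center (closure (T.st R)) = ⊥ ∧
      Nonempty (closure (T.st R) ≃* POmega (ZMod 3) (quadFormOdd 3 (ZMod 3))) ∧
      IsProjReflectionGroupModThree (closure (T.st R)) 7 (-1) 1 := by
  have a1 := card_cent_le h hc
  have a4 : closure (T.st R) ≤ centralizer {T.val ([], 1), T.val ([], 2)} :=
    st_R h ▸ closure_le_cent D _ _
  have a7 := card_le_of_le a4
  obtain ⟨c, hc0, ⟨ε⟩⟩ := chart_odd T E (m := 3) (h ▸ h1) (h ▸ h2) (h ▸ h3) h4b h5b h6b
  obtain ⟨b1, b4, b5⟩ := equiv_pomega (H28.qOdd_nondeg 3 (by decide)) (by decide) hc0 ε (by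
    rw [H28.coe_qOdd, Fi22O7.card_pomega]; omega)
  rw [H28.coe_qOdd, Fi22O7.card_pomega] at b4
  obtain ⟨Q, b2, b3, ⟨e⟩⟩ := chart_sq T E (h ▸ h1) (h ▸ h2) (h ▸ h3) h4a h5a h6a
  exact ⟨eq_of_le_of_card_ge a4 (by omega), b1, b5, Q, b2, b3, ⟨(QuotientGroup.quotientBot.symm.trans
    (QuotientGroup.quotientMulEquivOfEq b1.symm)).trans e⟩⟩

omit [Finite G] in
theorem fix_eq : D ∩ (centralizer {T.val ([], 1) * T.val ([], 2)} : Set G) = T.st R := by
  rw [← T.st_eq_of hfx, ← h, st_fx T (by rw [h]; decide), T.wv_append,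
    T.wv_rfW (okL h (by decide) (by decide)), T.wv_rfW (okL h (by decide) (by decide))]

theorem width : commutingWidth (T.st R) = 7 := width_of T (cl_R h) (h ▸ bs)

omit [Finite G] in
theorem inv_eq : ∀ y ∈ D, cj y (T.val ([], 1) * T.val ([], 2)) = (T.val ([], 1) * T.val ([], 2))⁻¹ →
    y = T.val ([], 1) ∨ y = T.val ([], 2) ∨ y = cj (T.val ([], 1)) (T.val ([], 2)) :=
  inv_of T (h ▸ inv)

omit h [Finite G] in
theorem exists_model {T : LModel G D} (hT : Is23 T) {a d : G} (ha : a ∈ D) (hd : d ∈ D)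
    (hnc : ¬ Commute a d) :
    ∃ T' : LModel G D, T'.dat = K23 ∧ T'.val ([], 1) = a ∧ T'.val ([], 2) = d := by
  obtain ⟨T', b1, -, b2⟩ := exists_model_pair T hT.gen (okL hT.dat (by decide) (by decide))
    (okL hT.dat (by decide) (by decide)) (pair_D hT.dat) ha hd hnc
  exact ⟨T', b1.trans hT.dat, b2⟩

end Cfsg.Agent.H56.Fi23O7
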