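/-
Certificates for irreducible characters of permutation groups: integral combinations of products of monomial
characters (eigenspaces of a commuting permutation of order dividing eight on an invariant set of points) and of their
symmetric squares.
-/
import Cfsg.Agent.H14.Blocks
import Cfsg.Agent.H89.FourTrans
import Cfsg.Prelude.Def_DegreeGraph

set_option autoImplicit false

namespace Cfsg.Agent.H56

open H14 H5
open scoped ComplexConjugate Pointwise

theorem isCharacter_part {K C : Type*} [Group K] [Finite K] [Group C] [Fintype C] {π : K × C → ℂ}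
    (hπ : IsCharacter _ π) {l : C → ℂ} (hl : IsCharacter C l) :
    IsCharacter K fun g => (Nat.card C : ℂ)⁻¹ * ∑ c, π (g, c) * l c := by
  have := Fintype.ofFinite K
  refine isCharacter_of_forall_classInner_nat (fun g h => ?_) fun χ hχ => ?_
  · refine congrArg _ (Finset.sum_congr rfl fun c _ => congrArg (· * _) ?_)
    simpa using isClassFunction_of_isCharacter hπ (g, c) (h, 1)
  · obtain ⟨a, ha⟩ := exists_nat_classInner hπ (isCharacter_mul
      (isCharacter_comp (isCharacter_of_isIrr hχ) (MonoidHom.fst K C))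
      (isCharacter_comp (isCharacter_conj hl) (MonoidHom.snd K C)))
    refine ⟨a, ha ▸ ?_⟩
    simp only [classInner, Fintype.sum_prod_type, Nat.card_prod, Nat.cast_mul, mul_inv,
      Finset.mul_sum, Finset.sum_mul, Pi.mul_apply, map_mul, MonoidHom.coe_fst, MonoidHom.coe_snd,
      Complex.conj_conj]
    exact Finset.sum_congr rfl fun g _ => Finset.sum_congr rfl fun c _ => by ring

theorem isCharacter_fixS {G α : Type*} [Group G] [Finite α] (ψ : G →* Equiv.Perm α) (S : Set α)
    (hS : ∀ g, ∀ a ∈ S, ψ g a ∈ S) :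
    IsCharacter G fun g => (({a | a ∈ S ∧ ψ g a = a}.ncard : ℕ) : ℂ) := by
  let : MulAction G α := MulAction.compHom α ψ
  let X : SubMulAction G α := ⟨S, fun g _ ha => hS g _ ha⟩
  convert isCharacter_perm (G := G) X using 3 with g
  rw [Nat.card_coe_set_eq]
  symm
  exact Set.ncard_congr (fun a _ => (a : α)) (fun a ha => ⟨a.2, congrArg Subtype.val ha⟩)
    (fun a b _ _ h => Subtype.ext h) fun b hb => ⟨⟨b, hb.1⟩, Subtype.ext hb.2, rfl⟩

/-- the homomorphism from the cyclic group of order eight given by an element with `x ^ 8 = 1` -/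
def cyc8 {A : Type*} [Monoid A] (x : A) (hx : x ^ 8 = 1) : Multiplicative (Fin 8) →* A where
  toFun c := x ^ (c.toAdd : ℕ)
  map_one' := pow_zero x
  map_mul' a b := by rw [← pow_add, pow_eq_pow_mod (_ + _) hx]; rfl

/-- the character afforded by an eigenspace of `z` on the span of `S` -/
noncomputable def eig {α : Type*} (ζ : ℂ) (z : Equiv.Perm α) (S : Set α) (j : ℕ)
    (g : Equiv.Perm α) : ℂ :=
  ((List.range 8).map fun t =>
    (({a | a ∈ S ∧ (g * z ^ t) a = a}.ncard : ℕ) : ℂ) / 8 * ζ ^ (j * t)).sum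

theorem isCharacter_eig {α : Type*} [Finite α] {K : Subgroup (Equiv.Perm α)} {ζ : ℂ}
    (hζ : ζ ^ 8 = 1) {z : Equiv.Perm α} (hz : z ^ 8 = 1) (hc : ∀ g ∈ K, Commute g z) {S : Set α}
    (h1 : ∀ g ∈ K, ∀ a ∈ S, g a ∈ S) (h2 : ∀ a ∈ S, z a ∈ S) (j : ℕ) :
    IsCharacter K fun g => eig ζ z S j g := by
  have h3 : ∀ t : ℕ, ∀ a ∈ S, (z ^ t) a ∈ S := fun t => by
    induction t with
    | zero => exact fun a ha => ha
    | succ t ih => exact fun a ha => by rw [pow_succ]; exact ih _ (h2 a ha)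
  have h4 : (ζ ^ j) ^ 8 = 1 := by rw [← pow_mul, mul_comm, pow_mul, hζ, one_pow]
  convert isCharacter_part (isCharacter_fixS (K.subtype.noncommCoprod (cyc8 z hz)
    fun g c => (hc g g.2).pow_right _) S fun g a ha => h1 _ g.1.2 _ (h3 _ a ha))
    (isCharacter_monoidHom (cyc8 (ζ ^ j) h4).toHomUnits) using 2 with g
  rw [eig, Finset.mul_sum]
  refine Eq.trans ?_ (Fintype.sum_equiv (Multiplicative.ofAdd (α := Fin 8)) (fun t : Fin 8 =>
    (({a | a ∈ S ∧ (g.1 * z ^ (t : ℕ)) a = a}.ncard : ℕ) : ℂ) / 8 * ζ ^ (j * t)) _ fun t => ?_)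
  · rw [Fin.sum_univ_eq_sum_range
      (fun t => (({a | a ∈ S ∧ (g.1 * z ^ t) a = a}.ncard : ℕ) : ℂ) / 8 * ζ ^ (j * t))]
    rfl
  · simp only [Nat.card_eq_fintype_card, Fintype.card_multiplicative, Fintype.card_fin,
      MonoidHom.coe_toHomUnits, pow_mul]
    show _ = _ * ((({a | a ∈ S ∧ (g.1 * z ^ (t : ℕ)) a = a}.ncard : ℕ) : ℂ) * (ζ ^ j) ^ (t : ℕ))
    push_cast
    ring

/-- elements of the eighth cyclotomic field -/
structure Q8 where
  a : ℚ
  b : ℚ
  c : ℚ
  d : ℚ
deriving DecidableEq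

namespace Q8

def add (x y : Q8) : Q8 := ⟨x.a + y.a, x.b + y.b, x.c + y.c, x.d + y.d⟩
def sm (q : ℚ) (x : Q8) : Q8 := ⟨q * x.a, q * x.b, q * x.c, q * x.d⟩
def mul (x y : Q8) : Q8 :=
  ⟨x.a * y.a - x.b * y.d - x.c * y.c - x.d * y.b, x.a * y.b + x.b * y.a - x.c * y.d - x.d * y.c,
    x.a * y.c + x.b * y.b + x.c * y.a - x.d * y.d, x.a * y.d + x.b * y.c + x.c * y.b + x.d * y.a⟩
def cj (x : Q8) : Q8 := ⟨x.a, -x.d, -x.c, -x.b⟩
def of (q : ℚ) : Q8 := ⟨q, 0, 0, 0⟩
def zp : ℕ → Q8
  | 0 => of 1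
  | i + 1 => let x := zp i; ⟨-x.d, x.a, x.b, x.c⟩
def sum (l : List Q8) : Q8 := l.foldr add (of 0)
noncomputable def ev (ζ : ℂ) (x : Q8) : ℂ := x.a + x.b * ζ + x.c * ζ ^ 2 + x.d * ζ ^ 3

variable {ζ : ℂ}

theorem ev_add (x y : Q8) : ev ζ (x.add y) = ev ζ x + ev ζ y := by
  simp only [ev, add]; push_cast; ring
theorem ev_sm (q : ℚ) (x : Q8) : ev ζ (sm q x) = q * ev ζ x := by
  simp only [ev, sm]; push_cast; ring
theorem ev_of (q : ℚ) : ev ζ (of q) = q := by simp [ev, of]
theorem ev_mul (h : ζ ^ 4 = -1) (x y : Q8) : ev ζ (x.mul y) = ev ζ x * ev ζ y := by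
  simp only [ev, mul]; push_cast
  linear_combination (-(x.b * y.d + x.c * y.c + x.d * y.b) - (x.c * y.d + x.d * y.c) * ζ -
    x.d * y.d * ζ ^ 2 : ℂ) * h
theorem ev_zp (h : ζ ^ 4 = -1) (i : ℕ) : ev ζ (zp i) = ζ ^ i := by
  induction i with
  | zero => simp [zp, ev_of]
  | succ i ih =>
    rw [pow_succ, ← ih]
    simp only [ev, zp]; push_cast
    linear_combination (-(zp i).d : ℂ) * h
theorem ev_cj (h : ζ ^ 4 = -1) (x : Q8) : ev ζ x.cj = conj (ev ζ x) := by
  have h1 : ζ ^ 8 = 1 := by linear_combination (ζ ^ 4 - 1) * h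
  have h2 : conj ζ = -ζ ^ 3 := by
    rw [← RCLike.inv_eq_conj (Complex.norm_eq_one_of_pow_eq_one h1 (by decide))]
    exact inv_eq_of_mul_eq_one_right (by linear_combination -h)
  simp only [ev, cj, map_add, map_mul, map_pow, h2, map_ratCast]; push_cast
  linear_combination (-x.c * ζ ^ 2 + x.d * ζ * (ζ ^ 4 - 1) : ℂ) * h
theorem ev_sum (l : List Q8) : ev ζ (sum l) = (l.map (ev ζ)).sum := by
  induction l with
  | nil => simp [sum, ev_of]
  | cons x l ih => rw [List.map_cons, List.sum_cons, ← ih, ← ev_add]; rfl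

end Q8

/-- expressions for virtual characters -/
inductive CE
  | one
  | b (s j : ℕ)
  | sy (s j : ℕ)
  | add (x y : CE)
  | mul (x y : CE)
  | sm (z : ℤ) (x : CE)

/-- the function given by an expression -/
noncomputable def CE.fn {G : Type*} [Group G] (θ : ℕ → ℕ → G → ℂ) : CE → G → ℂ
  | one => fun _ => 1
  | b s j => θ s j
  | sy s j => fun g => (θ s j g ^ 2 + θ s j (g * g)) / 2
  | add x y => x.fn θ + y.fn θ
  | mul x y => x.fn θ * y.fn θ
  | sm z x => fun g => z * x.fn θ g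

theorem CE.isGen {G : Type*} [Group G] {θ : ℕ → ℕ → G → ℂ} (h : ∀ s j, IsCharacter G (θ s j))
    (e : CE) : IsGeneralizedCharacter G (e.fn θ) := by
  induction e with
  | one => exact ⟨_, _, isCharacter_one, isCharacter_zero, (sub_zero _).symm⟩
  | b s j => exact ⟨_, _, h s j, isCharacter_zero, (sub_zero _).symm⟩
  | sy s j => exact ⟨_, _, H6.isCharacter_symSq (h s j), isCharacter_zero, (sub_zero _).symm⟩
  | add x y h1 h2 =>
    obtain ⟨a, b, ha, hb, e1⟩ := h1
    obtain ⟨c, d, hc, hd, e2⟩ := h2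
    exact ⟨_, _, isCharacter_add ha hc, isCharacter_add hb hd, by rw [fn, e1, e2]; ring⟩
  | mul x y h1 h2 =>
    obtain ⟨a, b, ha, hb, e1⟩ := h1
    obtain ⟨c, d, hc, hd, e2⟩ := h2
    exact ⟨_, _, isCharacter_add (isCharacter_mul ha hc) (isCharacter_mul hb hd),
      isCharacter_add (isCharacter_mul ha hd) (isCharacter_mul hb hc), by rw [fn, e1, e2]; ring⟩
  | sm z x h1 =>
    obtain ⟨a, b, ha, hb, e1⟩ := h1
    obtain ⟨m, rfl | rfl⟩ := z.eq_nat_or_neg
    · exact ⟨_, _, isCharacter_natCast_smul ha m, isCharacter_natCast_smul hb m, by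
        funext g; simp [fn, e1]; ring⟩
    · exact ⟨_, _, isCharacter_natCast_smul hb m, isCharacter_natCast_smul ha m, by
        funext g; simp [fn, e1]; ring⟩

/-- the value of a monomial character from the table of the numbers of fixed points -/
def bval (T : List (List ℕ)) (s j : ℕ) : Q8 :=
  Q8.sum ((List.range 8).map fun t => Q8.sm (((T.getD s []).getD t 0 : ℕ) / 8) (Q8.zp (j * t)))

/-- the value of an expression -/
def CE.val (T T2 : List (List ℕ)) : CE → Q8
  | one => .of 1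
  | b s j => bval T s j
  | sy s j => .sm (1 / 2) (((bval T s j).mul (bval T s j)).add (bval T2 s j))
  | add x y => (x.val T T2).add (y.val T T2)
  | mul x y => (x.val T T2).mul (y.val T T2)
  | sm z x => .sm z (x.val T T2)

/-- the number of fixed points in the set with mask `S` -/
noncomputable def fixS (k M n S X : ℕ) : ℕ := cntN n fun i => tb S i && Nat.beq (app k M X i) i

/-- the table of the numbers of fixed points -/
noncomputable def fixTab (k M n : ℕ) (Zs Ss : List ℕ) (X : ℕ) : List (List ℕ) :=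
  Ss.map fun S => Zs.map fun Z => force (comp k M n X Z) (fixS k M n S)

/-- `Z` has order dividing eight and commutes with the generators, and the sets are invariant -/
noncomputable def eigOK (k M n : ℕ) (gens : List ℕ) (Z : ℕ) (Ss : List ℕ) : Bool :=
  valid k M n Z && Nat.beq (powP k M n Z 8) (idP k n) &&
    allL gens (fun P => Nat.beq (comp k M n P Z) (comp k M n Z P)) &&
    allL (Z :: gens) fun P => allL Ss fun S => Nat.beq (img k M n P S) S

variable {α : Type*} {n k M : ℕ} {E : Enc α n k M}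

theorem ncard_fixS (S : ℕ) (g : Equiv.Perm α) :
    {a | a ∈ {a | S.testBit (E.ix a) = true} ∧ g a = a}.ncard = fixS k M n S (E.pk g) := by
  rw [fixS, cntN_eq, ← Set.ncard_coe_finset]
  refine Set.ncard_congr (fun a _ => E.ix a) (fun a ha => ?_) (fun a b _ _ h => E.ix_injective h)
    fun i hi => ?_
  · rw [Finset.mem_coe, Finset.mem_filter, Finset.mem_range, Bool.and_eq_true, beq_iff, E.app_pk,
      ha.2, tb_eq]
    exact ⟨E.ix_lt a, ha.1, rfl⟩
  · rw [Finset.mem_coe, Finset.mem_filter, Finset.mem_range, Bool.and_eq_true, beq_iff,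
      tb_eq] at hi
    exact ⟨E.pt i, ⟨by rw [Set.mem_ofPred_eq, E.ix_pt i hi.1, hi.2.1],
      by rw [E.apply_pt g hi.1, hi.2.2]⟩, E.ix_pt i hi.1⟩

theorem exists_mem_charDegrees {gens : List ℕ} {cl : List Cls} (h : E.ClassList (E.grp gens) cl)
    {N : ℕ} (hN : Nat.card (E.grp gens) = N) {Z : ℕ} {Zs Ss : List ℕ}
    (hZ : eigOK k M n gens Z Ss = true) (hZs : (List.range 8).map (powP k M n Z) = Zs)
    {T₀ : List (List ℕ)} {tb : List (ℕ × List (List ℕ) × List (List ℕ))}
    (h0 : fixTab k M n Zs Ss (idP k n) = T₀)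
    (ht : cl.map (fun c => (c.c, fixTab k M n Zs Ss c.X,
      force (comp k M n c.X c.X) (fixTab k M n Zs Ss))) = tb) (e : CE) {d : ℕ} (hd : 0 < d)
    (h1 : e.val T₀ T₀ = .of d)
    (h2 : Q8.sum (tb.map fun r => .sm (N / r.1 : ℕ)
      ((e.val r.2.1 r.2.2).mul (e.val r.2.1 r.2.2).cj)) = .of N) :
    d ∈ charDegrees (E.grp gens) := by
  classical
  have := E.finite
  have := Fintype.ofFinite α
  obtain ⟨ζ, hζ⟩ := IsAlgClosed.exists_pow_nat_eq (-1 : ℂ) (n := 4) (by decide)
  simp only [eigOK, Bool.and_eq_true, beq_iff, allL_iff] at hZ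
  obtain ⟨⟨⟨hv, h8⟩, hc⟩, hS⟩ := hZ
  obtain ⟨z, rfl⟩ := E.exists_pk_of_valid hv
  rw [← E.pk_pow, ← E.pk_one, E.pk_inj] at h8
  let S : ℕ → Set α := fun s => {a | (Ss.getD s 0).testBit (E.ix a) = true}
  have hS' : ∀ s g, E.pk g ∈ E.pk z :: gens → ∀ a ∈ S s, g a ∈ S s := fun s g hg a ha => by
    by_cases hs : s < Ss.length
    · have := hS _ hg (Ss.getD s 0) (by rw [List.getD_eq_getElem _ _ hs]; exact List.getElem_mem hs)
      show (Ss.getD s 0).testBit _ = true
      rw [← this, testBit_img]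
      exact ⟨_, E.ix_lt a, ha, E.app_pk g a⟩
    · rw [Set.mem_ofPred_eq, List.getD_eq_default _ _ (not_lt.1 hs), Nat.zero_testBit] at ha
      exact absurd ha (by decide)
  let θ : ℕ → ℕ → E.grp gens → ℂ := fun s j g => eig ζ z (S s) j g
  have hθ : ∀ s j, IsCharacter _ (θ s j) := fun s j =>
    isCharacter_eig (by linear_combination (ζ ^ 4 - 1) * hζ) h8
      (fun g hg => Subgroup.mem_centralizer_singleton_iff.1 (Enc.grp_induction
        (H := Subgroup.centralizer {z}) (fun g hg => Subgroup.mem_centralizer_singleton_iff.2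
          (E.pk_injective (by rw [E.pk_mul, E.pk_mul, hc _ hg]))) hg))
      (fun g hg a ha => by
        have := Enc.grp_induction (H := MulAction.stabilizer (Equiv.Perm α) (S s)) (fun g hg =>
          (MulAction.mem_stabilizer_set_iff_smul_set_subset (Set.toFinite _)).2 (by
            rintro _ ⟨a, ha, rfl⟩
            exact hS' s g (List.mem_cons_of_mem _ hg) a ha)) hg
        exact (MulAction.mem_stabilizer_set.1 this a).2 ha)
      (hS' s z List.mem_cons_self) j
  have hb : ∀ s j (g : E.grp gens), θ s j g = (bval (fixTab k M n Zs Ss (E.pk g)) s j).ev ζ := by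
    intro s j g
    rw [bval, Q8.ev_sum, List.map_map]
    refine congrArg List.sum (List.map_congr_left fun t ht => ?_)
    rw [Function.comp, Q8.ev_sm, Q8.ev_zp hζ, ncard_fixS]
    have ht' := List.mem_range.1 ht
    by_cases hs : s < Ss.length
    · simp [fixTab, ← hZs, hs, ht', E.pk_mul, E.pk_pow]
    · simp [fixTab, not_lt.1 hs, fixS, cntN_eq, tb_eq]
  have hv : ∀ (e : CE) (g : E.grp gens), e.fn θ g = (e.val (fixTab k M n Zs Ss (E.pk g))
      (fixTab k M n Zs Ss (comp k M n (E.pk g) (E.pk g)))).ev ζ := by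
    intro e g
    induction e with
    | one => simp [CE.fn, CE.val, Q8.ev_of]
    | b s j => exact hb s j g
    | sy s j =>
      rw [CE.val, Q8.ev_sm, Q8.ev_add, Q8.ev_mul hζ, ← E.pk_mul, ← hb, ← Subgroup.coe_mul, ← hb]
      simp only [CE.fn]
      push_cast; ring
    | add x y h1 h2 => rw [CE.fn, CE.val, Q8.ev_add, ← h1, ← h2]; rfl
    | mul x y h1 h2 => rw [CE.fn, CE.val, Q8.ev_mul hζ, ← h1, ← h2]; rfl
    | sm z x h1 => rw [CE.fn, CE.val, Q8.ev_sm, ← h1]; simp
  have := Fintype.ofFinite (E.grp gens)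
  obtain ⟨A, B, hA, hB, eAB⟩ := e.isGen hθ
  have h3 : e.fn θ 1 = d := by
    rw [hv, OneMemClass.coe_one, ← E.pk_mul, mul_one, E.pk_one, h0, h1, Q8.ev_of]; simp
  have h4 : IsClassFunction _ (e.fn θ) := fun x y => by
    rw [eAB, Pi.sub_apply, Pi.sub_apply, isClassFunction_of_isCharacter hA,
      isClassFunction_of_isCharacter hB]
  refine ⟨⟨e.fn θ, eAB ▸ H89.isIrr_sub_of_norm hA hB ?_ ?_⟩, ?_⟩
  · have h5 := h.sum_eq (fun g => extendByZero _ (e.fn θ) g * conj (extendByZero _ (e.fn θ) g))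
      fun g hg x hx => by rw [ext_conj h4 hg hx]
    have h6 := congrArg (Q8.ev ζ) h2
    rw [Q8.ev_sum, Q8.ev_of, ← ht, List.map_map, List.map_map] at h6
    rw [← eAB, classInner, hN]
    have h7 : ∑ g, e.fn θ g * conj (e.fn θ g) = N := by
      refine Eq.trans (Finset.sum_congr rfl fun g _ => by rw [ext_apply _ g.2]) (h5.trans
        (Eq.trans (congrArg List.sum (List.map_congr_left fun c hc => ?_)) (h6.trans (by simp))))
      rw [ext_apply _ (h.mem hc), hv, h.pk_perm hc, nsmul_eq_mul, hN]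
      simp only [Function.comp, force_eq, Q8.ev_sm, Q8.ev_mul hζ, Q8.ev_cj hζ, Rat.cast_natCast]
    rw [h7]
    exact inv_mul_cancel₀ (by rw [← hN]; exact_mod_cast Nat.card_pos.ne')
  · rw [← eAB, h3]; exact_mod_cast hd
  · simp [charDegree, h3]

theorem mem_charDegrees_of_surj {G H : Type*} [Group G] [Group H] (f : G →* H)
    (hf : Function.Surjective f) {d : ℕ} (h : d ∈ charDegrees H) : d ∈ charDegrees G :=
  let ⟨χ, e⟩ := h; ⟨⟨_, isIrrCharacter_comp χ.2 f hf⟩, by simpa [charDegree] using e⟩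

theorem mul_mem_charDegrees {G H : Type*} [Group G] [Group H] [Finite G] [Finite H] {a b : ℕ}
    (ha : a ∈ charDegrees G) (hb : b ∈ charDegrees H) : a * b ∈ charDegrees (G × H) := by
  obtain ⟨χ, rfl⟩ := ha
  obtain ⟨ψ, rfl⟩ := hb
  have := Fintype.ofFinite G
  have := Fintype.ofFinite H
  refine ⟨⟨_, isIrr_of_classInner_self_eq_one (isCharacter_mul
    (isCharacter_comp (isCharacter_of_isIrr χ.2) (MonoidHom.fst G H))
    (isCharacter_comp (isCharacter_of_isIrr ψ.2) (MonoidHom.snd G H))) ?_⟩, ?_⟩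
  · rw [← mul_one (1 : ℂ)]
    nth_rw 1 [← classInner_irr_self χ.2, ← classInner_irr_self ψ.2]
    simp only [classInner, Fintype.sum_prod_type, Nat.card_prod, Nat.cast_mul, mul_inv,
      Finset.mul_sum, Finset.sum_mul, Pi.mul_apply, map_mul, MonoidHom.coe_fst, MonoidHom.coe_snd]
    rw [Finset.sum_comm]
    exact Finset.sum_congr rfl fun g _ => Finset.sum_congr rfl fun c _ => by ring
  · have h1 := H32.cast_charDegree_irr χ
    have h2 := H32.cast_charDegree_irr ψ
    show ⌊(χ.1 1 * ψ.1 1).re⌋₊ = _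
    rw [← h1, ← h2, ← Nat.cast_mul, Complex.natCast_re, Nat.floor_natCast]

end Cfsg.Agent.H56
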