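import Cfsg.Agent.H56.CharCert
import Cfsg.Agent.H56.FixCnt
import Cfsg.Agent.H16.M23a

/-! Some character degrees of the two largest Mathieu groups. -/

set_option autoImplicit false

namespace Cfsg.Agent.H56.MC

open Cfsg H14 H5 H55 Subgroup
open scoped ComplexConjugate Pointwise

/-- the numbers of fixed points, octads and dodecads -/
noncomputable def fx (s X : ℕ) : ℕ :=
  if s = 0 then fixS (nat_lit 5) (nat_lit 32) (nat_lit 24) (2 ^ 24 - 1) X else
    cnt2 64 64 fun x => force (enc x) fun e => Nat.beq (pc e) s && Nat.beq (act X e) e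

/-- a row of the table -/
noncomputable def row (u : ℕ) (c : Cls) : ℕ × ℕ × ℕ × ℕ × ℕ :=
  (c.c, fx 0 c.X, force (comp (nat_lit 5) (nat_lit 32) (nat_lit 24) c.X c.X) (fx 0), fx 8 c.X,
    fx u c.X)

/-- the virtual character -/
def ce (a : ℕ → ℤ) : CE :=
  .add (.add (.add (.sm (a 0) .one) (.sm (a 1) (.b 0 0))) (.add (.sm (a 2) (.sy 0 0))
    (.sm (a 3) (.b 8 0)))) (.add (.add (.sm (a 4) (.b 1 0)) (.sm (a 5) (.mul (.b 0 0) (.b 0 0))))
      (.add (.sm (a 6) (.mul (.b 0 0) (.sy 0 0))) (.sm (a 7) (.mul (.b 0 0) (.b 8 0)))))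

/-- its value -/
def pv (a : ℕ → ℤ) (f g o d : ℕ) : ℚ :=
  a 0 + a 1 * f + a 2 * ((f ^ 2 + g) / 2) + a 3 * o + a 4 * d + a 5 * (f * f) +
    a 6 * (f * ((f ^ 2 + g) / 2)) + a 7 * (f * o)

theorem isCharacter_fx {K : Subgroup (Equiv.Perm GolayPt)} (hK : K ≤ M24) {s : ℕ}
    (hs : s = 0 ∨ s = 8 ∨ s = 12) : IsCharacter K fun g => (fx s (GE.pk g) : ℂ) := by
  rcases hs with rfl | rfl | rfl
  · convert isCharacter_fixS K.subtype {a | (2 ^ 24 - 1 : ℕ).testBit (GE.ix a) = true}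
      fun g a _ => (Nat.testBit_two_pow_sub_one _ _).trans (decide_eq_true (GE.ix_lt _))
      using 3 with g
    exact (if_pos rfl).trans (ncard_fixS (E := GE) _ g.1).symm
  · convert isCharacter_fixS ((MulAction.toPermHom _ (Finset GolayPt)).comp K.subtype) octads
      fun g a ha => smul_mem_octads (hK g.2) ha using 3 with g
    exact (fix_oct (g := ⟨g, hK g.2⟩) (isTab_pk g)).symm
  · convert isCharacter_fixS ((MulAction.toPermHom _ (Finset GolayPt)).comp K.subtype) dodecads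
      fun g a ha => smul_mem_dodecads (hK g.2) ha using 3 with g
    exact (fix_dod (g := ⟨g, hK g.2⟩) (isTab_pk g)).symm

theorem mem_of_cert {K : Subgroup (Equiv.Perm GolayPt)} (hK : K ≤ M24) {cl : List Cls}
    (h : GE.ClassList K cl) {N : ℕ} (hN : Nat.card K = N) {u : ℕ} (hu : u = 0 ∨ u = 12)
    {tb : List (ℕ × ℕ × ℕ × ℕ × ℕ)} (ht : cl.map (row u) = tb) (l : List ℤ) {d : ℕ} (hd : 0 < d)
    (h1 : pv (l.getD · 0) 24 24 759 (if u = 0 then 24 else 2576) = d)
    (h2 : (tb.map fun r => (N / r.1 : ℕ) * pv (l.getD · 0) r.2.1 r.2.2.1 r.2.2.2.1 r.2.2.2.2 ^ 2).sum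
      = N) : d ∈ charDegrees K := by
  have := Fintype.ofFinite K
  let θ : ℕ → ℕ → K → ℂ := fun s _ g => fx (if s = 0 then 0 else if s = 8 then 8 else u) (GE.pk g)
  obtain ⟨A, B, hA, hB, eAB⟩ := (ce (l.getD · 0)).isGen (θ := θ) fun s _ =>
    isCharacter_fx hK (by split_ifs <;> omega)
  have hv : ∀ g : K, (A - B) g = pv (l.getD · 0) (fx 0 (GE.pk g)) (fx 0 (comp (nat_lit 5)
      (nat_lit 32) (nat_lit 24) (GE.pk g) (GE.pk g))) (fx 8 (GE.pk g)) (fx u (GE.pk g)) := by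
    intro g
    simp only [← eAB, ← GE.pk_mul, ce, CE.fn, pv, θ, Pi.add_apply, Pi.mul_apply, coe_mul]
    push_cast
    ring
  have h3 : (A - B) 1 = d := by
    have h4 : ∀ u ∈ [0, 8, 12], fx u (idP (nat_lit 5) (nat_lit 24)) =
        if u = 0 then 24 else if u = 8 then 759 else 2576 := by decide +kernel
    rw [hv, OneMemClass.coe_one, ← GE.pk_mul, mul_one, GE.pk_one, h4 0 (by simp), h4 8 (by simp),
      h4 u (by simp; omega)]
    rcases hu with rfl | rfl <;> exact_mod_cast h1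
  have h4 : IsClassFunction _ (A - B) := fun x y => by
    rw [Pi.sub_apply, Pi.sub_apply, isClassFunction_of_isCharacter hA,
      isClassFunction_of_isCharacter hB]
  refine ⟨⟨A - B, H89.isIrr_sub_of_norm hA hB ?_ ?_⟩, by simp [charDegree, h3]⟩
  · have h5 := h.sum_eq (fun g => extendByZero _ (A - B) g * conj (extendByZero _ (A - B) g))
      fun g hg x hx => by rw [ext_conj h4 hg hx]
    have h6 := congrArg (Rat.castHom ℂ) h2
    rw [map_list_sum, ← ht, List.map_map, List.map_map] at h6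
    have h7 : ∑ g, (A - B) g * conj ((A - B) g) = N := by
      refine Eq.trans (Finset.sum_congr rfl fun g _ => by rw [ext_apply _ g.2]) (h5.trans
        (Eq.trans (congrArg List.sum (List.map_congr_left fun c hc => ?_)) (h6.trans (by simp))))
      rw [ext_apply _ (h.mem hc), hv, h.pk_perm hc, nsmul_eq_mul, hN]
      simp [row, force_eq, sq]
    rw [classInner, hN, h7]
    exact inv_mul_cancel₀ (by rw [← hN]; exact_mod_cast Nat.card_pos.ne')
  · rw [h3]; exact_mod_cast hd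

theorem tb24 : m24Cl.map (row 0) = [(244823040, 24, 24, 759, 24), (21504, 8, 24, 71, 8),
    (7680, 0, 24, 15, 0), (1080, 6, 6, 21, 6), (504, 0, 0, 0, 0), (384, 0, 8, 7, 0),
    (128, 4, 8, 11, 4), (96, 0, 0, 3, 0), (60, 4, 4, 4, 4), (24, 2, 6, 5, 2), (24, 0, 0, 0, 0),
    (42, 3, 3, 3, 3), (42, 3, 3, 3, 3), (16, 2, 4, 1, 2), (20, 0, 4, 0, 0), (11, 2, 2, 0, 2),
    (12, 0, 2, 1, 0), (12, 0, 0, 0, 0), (14, 1, 3, 1, 1), (14, 1, 3, 1, 1), (15, 1, 1, 1, 1),
    (15, 1, 1, 1, 1), (21, 0, 0, 0, 0), (21, 0, 0, 0, 0), (23, 1, 1, 0, 1), (23, 1, 1, 0, 1)] := by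
  decide +kernel

theorem tb23 : m23Cl.map (row 12) = [(10200960, 24, 24, 759, 2576), (2688, 8, 24, 71, 112),
    (180, 6, 6, 21, 20), (32, 4, 8, 11, 8), (15, 4, 4, 4, 6), (12, 2, 6, 5, 4), (14, 3, 3, 3, 0),
    (14, 3, 3, 3, 0), (8, 2, 4, 1, 4), (11, 2, 2, 0, 2), (11, 2, 2, 0, 2), (14, 1, 3, 1, 0),
    (14, 1, 3, 1, 0), (15, 1, 1, 1, 0), (15, 1, 1, 1, 0), (23, 1, 1, 0, 0), (23, 1, 1, 0, 0)] := by
  decide +kernel

theorem deg24 : 253 ∈ charDegrees M24 ∧ 483 ∈ charDegrees M24 :=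
  ⟨mem_of_cert le_rfl m24_classes card_M24 (.inl rfl) tb24 [1, -1, -1, 0, 0, 1] (by norm_num)
    (by decide +kernel) (by decide +kernel),
   mem_of_cert le_rfl m24_classes card_M24 (.inl rfl) tb24 [0, 1, -1, 1] (by norm_num)
    (by decide +kernel) (by decide +kernel)⟩

theorem deg23 : ∀ d ∈ ({230, 253, 1035, 2024} : Finset ℕ), d ∈ charDegrees Spor.M23 := by
  have h := fun l d => mem_of_cert inf_le_left m23_classes card_M23 (.inr rfl) tb23 l (d := d)
  simp only [Finset.mem_insert, Finset.mem_singleton, forall_eq_or_imp, forall_eq]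
  exact ⟨h [2, -3, 1] _ (by norm_num) (by decide +kernel) (by decide +kernel),
    h [-2, 4, -2, 1] _ (by norm_num) (by decide +kernel) (by decide +kernel),
    h [-16, 29, -5, 1, -1, -12, 4, -1] _ (by norm_num) (by decide +kernel) (by decide +kernel),
    h [-5, 7, 1, -1, -1, -4, 1] _ (by norm_num) (by decide +kernel) (by decide +kernel)⟩

theorem deg23' {d : ℕ} (hd : d ∈ charDegrees Spor.M23) (h : 23 ∣ d) :
    d ∈ ({230, 253, 1035, 2024} : Finset ℕ) := by
  classical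
  have := simple_M23
  have : Fact (Nat.Prime 23) := ⟨by norm_num⟩
  have h1 : Function.Surjective fun i : Fin m23Cl.length => ConjClasses.mk (⟨GE.perm
      (m23Cl.get i).X, m23_classes.mem (List.get_mem _ _)⟩ : Spor.M23) := fun x => by
    obtain ⟨g, rfl⟩ := ConjClasses.mk_surjective x
    obtain ⟨c, hc, a, ha, e⟩ := m23_classes.conj g g.2
    obtain ⟨i, rfl⟩ := List.mem_iff_get.1 hc
    exact ⟨i, ConjClasses.mk_eq_mk_iff_isConj.2 (isConj_iff.2 ⟨⟨a, ha⟩, Subtype.ext e⟩)⟩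
  have h2 := Nat.card_le_card_of_surjective _ h1
  obtain ⟨S⟩ : Nonempty (H35.Setup Spor.M23 23) :=
    H16.exists_setup' (by rw [card_M23]; norm_num) (by rw [card_M23]; norm_num)
  obtain ⟨P⟩ := H16.nonempty_PB (H16.M23.perfect card_M23) S
  have h3 := P.B.cardX'
  have h4 := P.B.cardY'
  rw [(H16.M23.block23 card_M23 S).2] at h3 h4
  have h5 := Finset.card_le_univ ((P.B.X ∪ P.B.Y) ∪ P.R)
  rw [Finset.card_union_of_disjoint (Finset.disjoint_left.2 fun χ h1 h2 =>
    H16.not_dvd_dg P.B (Finset.mem_union.1 h1) (P.mem_R.1 h2)),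
    Finset.card_union_of_disjoint P.B.disj, ← Nat.card_eq_fintype_card, card_irrCharacter] at h5
  rw [Nat.card_fin, show m23Cl.length = 17 from rfl] at h2
  obtain ⟨χ, rfl⟩ := hd
  rw [Finset.eq_of_subset_of_card_le (s := {230, 253, 1035, 2024}) (t := P.R.image H16.dg)
    (fun d hd => by
      obtain ⟨ψ, rfl⟩ := deg23 d hd
      exact Finset.mem_image_of_mem _ (P.mem_R.2 ((by decide : ∀ d ∈ ({230, 253, 1035, 2024} :
        Finset ℕ), 23 ∣ d) _ hd)))
    (Finset.card_image_le.trans (by rw [show Finset.card {230, 253, 1035, 2024} = 4 by decide]; omega))]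
  exact Finset.mem_image_of_mem _ (P.mem_R.2 h)

end Cfsg.Agent.H56.MC
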