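import Cfsg.Agent.H56.MSv0

/-! Orders of simple groups dividing the order of the largest Mathieu group, part 1. -/

set_option autoImplicit false

namespace Cfsg.Agent.H56.MS

open Cfsg.Agent.H56.Sv

theorem s1 : sv 0 20000000 [(10626, (lc 23 [(1, (.deg 23 [(2, 0)] .no))])), (17710, (lc 23 [(1,
  (.deg 23 [(2, 0)] .no))])), (45540, (lc 23 [(1, (.deg 23 [] (lc 5 [])))])), (425040, (lc 23 [(1,
  (lc 11 [(70, (.deg 11 [(5, 11)] .no))]))])), (850080, (lc 23 [(1, (lc 11 [(140, (.deg 11 [(5,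
  11)] .no))])), (2, (.cmb 23 2 23))])), (1700160, (lc 23 [(2, (.cmb 23 2 23)), (4, (.deg 23 [(2,
  23)] .no))])), (2550240, (lc 23 [(3, (.cmb 23 3 23)), (6, (.deg 23 [(2, 23)] .no))])), (3400320,
  (lc 23 [(4, (.cmb 23 2 23)), (8, (.deg 23 [(2, 23)] .no))])), (3497472, (lc 23 [(1, (lc 11 [(4,
  (.deg 11 [(2, 11)] .no)), (48, (.deg 11 [(2, 0)] .no)), (576, (.deg 23 [(2, 11)] .no))]))])),
  (5100480, (lc 23 [(6, (.cmb 23 2 23)), (12, (.deg 23 [(3, 23)] .no))])), (6120576, (lc 23 [(1,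
  (lc 11 [(7, (.deg 11 [(7, 11)] .no)), (18, (.deg 23 [(11, 0)] .no)), (84, (.deg 11 [(7, 11)]
  .no)), (1008, (.deg 11 [(7, 11)] .no))]))])), (6800640, (lc 23 [(8, (.cmb 23 2 23)), (16, (.cmb
  23 2 23))])), (7650720, (lc 23 [(9, (.cmb 23 3 23)), (18, (.cmb 23 2 23))])), (13601280, (lc 23
  [(16, (.cmb 23 2 23)), (32, (.cmb 23 2 23))])), (15301440, (lc 23 [(18, (.cmb 23 2 23)), (36,
  (.cmb 23 2 23))]))] = true := by
  decide +kernel

theorem s2 : sv 20000000 30000000 [(20401920, (lc 23 [(1, (lc 11 [(2, (.cmb 11 2 11)), (16, (.deg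
  11 [(2, 11)] .no)), (24, (.cmb 11 2 11)), (56, (lc 7 [(2, (.deg 7 [] .no)), (4, (.deg 7 []
  .no)), (6, (.deg 7 [] .no)), (16, (.deg 7 [] .no)), (20, (.deg 7 [] .no)), (30, (.deg 7 []
  .no)), (32, (.deg 7 [] .no)), (48, (.deg 7 [] .no)), (60, (.deg 7 [] .no)), (90, (.deg 7 []
  .no)), (128, (.deg 7 [] .no)), (160, (.deg 7 [] .no)), (240, (.deg 7 [] .no)), (384, (.deg 7 []
  .no)), (480, (.deg 7 [] .no)), (720, (.deg 7 [] .no)), (1320, (.deg 7 [(11, 7)] .no)), (1920,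
  (.deg 7 [] .no)), (5760, (.deg 7 [] .no))])), (60, (.deg 11 [(5, 11)] .no)), (112, (lc 7 [(2,
  (.deg 7 [] .no)), (4, (.deg 7 [] .no)), (6, (.deg 7 [] .no)), (16, (.deg 7 [] .no)), (20, (.deg
  7 [] .no)), (30, (.deg 7 [] .no)), (32, (.deg 7 [] .no)), (48, (.deg 7 [] .no)), (60, (.deg 7 []
  .no)), (90, (.deg 7 [] .no)), (128, (.deg 7 [] .no)), (160, (.deg 7 [] .no)), (240, (.deg 7 []
  .no)), (384, (.deg 7 [] .no)), (480, (.deg 7 [] .no)), (720, (.deg 7 [] .no)), (1320, (.deg 7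
  [(11, 7)] .no)), (1920, (.deg 7 [] .no)), (5760, (.deg 7 [] .no))])), (896, (.deg 11 [(7, 11)]
  .no)), (3360, (.deg 11 [(5, 11)] .no))])), (2, (.cmb 23 2 23)), (24, (.cmb 23 2 23)), (48, (.cmb
  23 2 23))])), (27202560, (lc 23 [(32, (.cmb 23 2 23)), (64, (.cmb 23 2 23))]))] = true := by
  decide +kernel

theorem s3 : sv 30000000 50000000 [(30602880, (lc 23 [(3, (lc 11 [(3, (.cmb 11 3 23)), (18, (.cmb
  11 3 23)), (24, (.deg 11 [(3, 23)] .no)), (36, (.cmb 11 3 23)), (84, (.cmb 23 3 23)), (90, (.deg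
  11 [(3, 23)] .no)), (168, (.cmb 11 3 23)), (216, (.cmb 11 3 23)), (420, (.deg 11 [(3, 23)]
  .no)), (1344, (.deg 11 [(3, 23)] .no)), (5040, (.deg 11 [(3, 23)] .no))])), (36, (.cmb 23 2
  23)), (72, (lc 11 [(216, (.cmb 11 2 23)), (5040, (.deg 11 [(2, 23)] .no))]))])), (40803840, (lc
  23 [(2, (.cmb 23 2 23)), (4, (.cmb 23 2 23)), (48, (.cmb 23 2 23)), (96, (.cmb 23 2 23))]))] =
  true := by
  decide +kernel

theorem s4 : sv 50000000 62000000 [(61205760, (lc 23 [(3, (lc 11 [(6, (.cmb 23 3 23)), (36, (.cmb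
  11 3 23)), (48, (.deg 11 [(3, 23)] .no)), (72, (.cmb 11 3 23)), (168, (lc 5 [(336, (.deg 5 [(3,
  23)] .no)), (1008, (.cmb 5 3 23)), (2016, (.deg 5 [(3, 23)] .no))])), (180, (.deg 11 [(3, 23)]
  .no)), (336, (.deg 11 [(3, 23)] .no)), (432, (.cmb 11 3 23)), (840, (.deg 11 [(3, 23)] .no)),
  (2688, (.deg 11 [(3, 23)] .no)), (10080, (.deg 11 [(3, 23)] .no))])), (6, (.cmb 23 2 23)), (72,
  (.cmb 23 2 23)), (144, (.cmb 23 2 23))]))] = true := by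
  decide +kernel

end Cfsg.Agent.H56.MS
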