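/-
Quartets of a dodecad: uniqueness, transitivity, number, stabiliser, suborbits.
-/
import Cfsg.Prelude.Def_SporadicCombinatorics
import Cfsg.Agent.H56.M12

set_option autoImplicit false
open Cfsg MulAction
open scoped Pointwise

namespace Cfsg.Agent.H56

open H14 H55

theorem hexadsOn_smul (g : M24) {d h : Finset GolayPt} (hh : h ∈ hexadsOn d) :
    g • h ∈ hexadsOn (g • d) := by
  obtain ⟨h1, o, ho, rfl⟩ := hh
  exact ⟨by rw [Finset.card_smul_finset, h1], g • o, smul_mem_octads g.2 ho,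
    Finset.smul_finset_inter.symm⟩

theorem quartets_smul (g : M24) {d : Finset GolayPt} {Q : Finset (Finset GolayPt)}
    (hQ : Q ∈ quartets d) : g • Q ∈ quartets (g • d) := by
  obtain ⟨h1, h2, h3⟩ := hQ
  refine ⟨by rw [Finset.card_smul_finset, h1], fun t ht => ?_, fun t ht u hu htu => ?_⟩
  · obtain ⟨t, ht', rfl⟩ := Finset.mem_smul_finset.1 ht
    exact ⟨by rw [Finset.card_smul_finset, (h2 t ht').1],
      Finset.smul_finset_subset_smul_finset (h2 t ht').2⟩
  · obtain ⟨t, ht', rfl⟩ := Finset.mem_smul_finset.1 ht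
    obtain ⟨u, hu', rfl⟩ := Finset.mem_smul_finset.1 hu
    rw [← Finset.smul_finset_union]
    exact hexadsOn_smul g (h3 t ht' u hu' fun e => htu (by rw [e]))

/-- test for a list of masks to be a quartet of the standard dodecad, with witnesses `os` -/
noncomputable def chkQ (cs os : List ℕ) : Bool :=
  Nat.beq cs.length 4 && allL cs (fun c => Nat.beq (pc c) 3 && Nat.beq (Nat.land c 340831) c) &&
    allL cs fun a => allL cs fun b => Nat.beq a b || (Nat.beq (pc (Nat.lor a b)) 6 &&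
      anyL os fun o => Nat.beq (enc o) o && Nat.beq (pc o) 8 &&
        Nat.beq (Nat.land o 340831) (Nat.lor a b))

theorem mem_quartets_of_chkQ {cs : List ℕ} {Q : Finset (Finset GolayPt)} (h : relL cs Q)
    (os : List ℕ) (hc : chkQ cs os = true) : Q ∈ quartets d0 := by
  simp only [chkQ, Bool.and_eq_true, allL_iff, beq_iff, Bool.or_eq_true, anyL_iff] at hc
  obtain ⟨⟨h1, h2⟩, h3⟩ := hc
  refine ⟨by rw [h.card, h1], fun t ht => ?_, fun t ht u hu htu => ?_⟩
  · obtain ⟨c, hc, rfl⟩ := h.mem.1 ht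
    exact ⟨by rw [card_bits, (h2 c hc).1], bits_subset_of_and (h2 c hc).2⟩
  · obtain ⟨a, ha, rfl⟩ := h.mem.1 ht
    obtain ⟨b, hb, rfl⟩ := h.mem.1 hu
    obtain ⟨h4, o, -, ⟨h5, h6⟩, h7⟩ := (h3 a ha b hb).resolve_left fun e => htu (by rw [e])
    rw [← bits_or]
    exact ⟨by rw [card_bits]; exact h4, bits o, bits_mem_octads h5 h6, by
      rw [← bits_and]; exact congrArg bits h7⟩

/-- the standard quartet -/
def Q0 : Finset (Finset GolayPt) := fam [7, 4120, 8960, 327744]

theorem rel_Q0 : relL [7, 4120, 8960, 327744] Q0 := relL_fam (by decide +kernel)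

theorem Q0_mem : Q0 ∈ quartets d0 :=
  mem_quartets_of_chkQ rel_Q0 [5279, 140167, 459847, 145176, 463064, 337856] (by decide +kernel)

theorem disjoint_of_hexad {d t u : Finset GolayPt} (ht : t.card = 3) (hu : u.card = 3)
    (h : t ∪ u ∈ hexadsOn d) : Disjoint t u := by
  rw [← Finset.card_union_eq_card_add_card, h.1, ht, hu]

theorem eq_Q0 {Q : Finset (Finset GolayPt)} (hQ : Q ∈ quartets d0) (ht : bits 7 ∈ Q)
    (hu : bits 4120 ∈ Q) : Q = Q0 := by
  refine Finset.eq_of_subset_of_card_le (fun v hv => ?_) (by rw [hQ.1, Q0_mem.1])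
  rw [rel_Q0.mem]
  by_cases h1 : v = bits 7
  · exact ⟨7, by simp, h1.symm⟩
  by_cases h2 : v = bits 4120
  · exact ⟨4120, by simp, h2.symm⟩
  have h3 := hQ.2.2 v hv _ ht h1
  have h4 := disjoint_of_hexad (hQ.2.1 v hv).1 (hQ.2.1 _ ht).1 h3
  have h5 := disjoint_of_hexad (hQ.2.1 v hv).1 (hQ.2.1 _ hu).1 (hQ.2.2 v hv _ hu h2)
  obtain ⟨h6, o, ho, e⟩ := h3
  obtain ⟨x, hx, h8, rfl⟩ := mem_octads_iff.1 ho
  obtain ⟨m, hm, rfl⟩ := exists_bits v
  rw [← bits_or, card_bits] at h6
  rw [← bits_and, ← bits_or] at e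
  have e' := bits_inj (lt_of_le_of_lt Nat.and_le_right (by norm_num))
    (Nat.or_lt_two_pow hm (by norm_num)) e
  rw [Finset.disjoint_iff_inter_eq_empty, ← bits_and, ← bits_zero] at h4 h5
  have h4' := bits_inj (lt_of_le_of_lt Nat.and_le_left hm) (by norm_num) h4
  have h5' := bits_inj (lt_of_le_of_lt Nat.and_le_left hm) (by norm_num) h5
  have h9 : m = (m ||| 7) ^^^ 7 := by
    apply Nat.eq_of_testBit_eq
    intro i
    have := congrArg (fun n => n.testBit i) h4'
    simp only [Nat.testBit_and, Nat.zero_testBit, Nat.testBit_xor, Nat.testBit_or] at this ⊢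
    revert this
    cases m.testBit i <;> cases Nat.testBit 7 i <;> simp
  have key : all2 64 64 (fun x => force (Nat.land (enc x) 340831) fun h =>
      bimp (Nat.beq (pc (enc x)) 8 && Nat.beq (pc h) 6 && Nat.beq (Nat.lor (Nat.xor h 7) 7) h &&
        Nat.beq (Nat.land (Nat.xor h 7) 4120) 0)
        (Nat.beq (Nat.xor h 7) 8960 || Nat.beq (Nat.xor h 7) 327744)) = true := by decide +kernel
  have h10 := all2_iff.1 key x hx
  rw [force_eq, show Nat.land (enc x) 340831 = m ||| 7 from e',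
    show Nat.xor (m ||| 7) 7 = m from h9.symm] at h10
  simp only [bimp_iff, Bool.and_eq_true, beq_iff, Bool.or_eq_true] at h10
  rcases h10 ⟨⟨⟨h8, h6⟩, rfl⟩, h5'⟩ with h | h
  · exact ⟨8960, by simp, by rw [h]⟩
  · exact ⟨327744, by simp, by rw [h]⟩

theorem std_pair {d : Finset GolayPt} (hd : d ∈ dodecads) {t u : Finset GolayPt} (ht : t.card = 3)
    (hu : u.card = 3) (hh : t ∪ u ∈ hexadsOn d) :
    ∃ g : M24, g • d0 = d ∧ g • bits 7 = t ∧ g • bits 4120 = u := by
  have htu := disjoint_of_hexad ht hu hh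
  obtain ⟨-, o, ho, e⟩ := hh
  have hsub : ∀ x ∈ t ∪ u, x ∈ o ∧ x ∈ d := fun x hx => by rwa [← e, Finset.mem_inter] at hx
  obtain ⟨a, b, c, hab, hac, hbc, rfl⟩ := Finset.card_eq_three.1 ht
  obtain ⟨a', b', c', hab', -, -, hu'⟩ := Finset.card_eq_three.1 hu
  have ha' : a' ∈ u := by simp [hu']
  have hb' : b' ∈ u := by simp [hu']
  have h1 := Finset.disjoint_right.1 htu ha'
  have h2 := Finset.disjoint_right.1 htu hb'
  simp only [Finset.mem_insert, Finset.mem_singleton, not_or] at h1 h2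
  have hmem : ∀ i, ![a, b, c, a', b'] i ∈ ({a, b, c} : Finset GolayPt) ∪ u := by
    intro i
    fin_cases i <;> simp [ha', hb']
  have hinj : Function.Injective ![a, b, c, a', b'] := by
    rw [← List.nodup_ofFn]
    simp [hab, hac, hbc, hab', Ne.symm h1.1, Ne.symm h1.2.1, Ne.symm h1.2.2, Ne.symm h2.1,
      Ne.symm h2.2.1, Ne.symm h2.2.2]
  obtain ⟨g, h0, h⟩ := dod_tuple_in hd le_rfl ![pt 0, pt 1, pt 2, pt 3, pt 4] ![a, b, c, a', b']
    (by decide) hinj (by decide) fun i => (hsub _ (hmem i)).2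
  have h3 : g • bits 7 = {a, b, c} := by
    rw [show bits 7 = {pt 0, pt 1, pt 2} by decide, Finset.smul_finset_insert,
      Finset.smul_finset_insert, Finset.smul_finset_singleton]
    exact congrArg₂ insert (h 0) (congrArg₂ insert (h 1) (congrArg singleton (h 2)))
  have h4 : g • bits 5279 = o := smul_octad_eq g.2
    (bits_mem_octads (by decide +kernel) (by decide +kernel)) ho (s := bits 31) (by decide)
    (by decide) (fun x hx => by
      obtain ⟨i, rfl⟩ := (by decide : ∀ x ∈ bits 31, ∃ i, ![pt 0, pt 1, pt 2, pt 3, pt 4] i = x) x hx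
      have := (hsub _ (hmem i)).1
      rwa [← h i] at this)
  refine ⟨g, h0, h3, ?_⟩
  rw [show bits 4120 = (bits 5279 ∩ d0) \ bits 7 by decide, Finset.smul_finset_sdiff,
    Finset.smul_finset_inter, h0, h3, h4, e, Finset.union_sdiff_cancel_left htu]

theorem quartet_unique {d : Finset GolayPt} (hd : d ∈ dodecads) {t u : Finset GolayPt}
    (ht : t.card = 3) (hu : u.card = 3) (hh : t ∪ u ∈ hexadsOn d) :
    ∃! Q : Finset (Finset GolayPt), Q ∈ quartets d ∧ t ∈ Q ∧ u ∈ Q := by
  obtain ⟨g, rfl, rfl, rfl⟩ := std_pair hd ht hu hh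
  refine ⟨g • Q0, ⟨quartets_smul g Q0_mem, Finset.smul_mem_smul_finset (rel_Q0.mem.2 ⟨7, by simp, rfl⟩),
    Finset.smul_mem_smul_finset (rel_Q0.mem.2 ⟨4120, by simp, rfl⟩)⟩, fun Q ⟨h1, h2, h3⟩ => ?_⟩
  have h4 := quartets_smul g⁻¹ h1
  rw [inv_smul_smul] at h4
  rw [← eq_Q0 h4 (Finset.mem_inv_smul_finset_iff.2 h2) (Finset.mem_inv_smul_finset_iff.2 h3),
    smul_inv_smul]

theorem quartet_trans {d : Finset GolayPt} (hd : d ∈ dodecads) {Q : Finset (Finset GolayPt)}
    (hQ : Q ∈ quartets d) : ∃ g : M24, g • (d0, Q0) = (d, Q) := by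
  obtain ⟨t, ht, u, hu, htu⟩ := Finset.one_lt_card.1 (show 1 < Q.card by rw [hQ.1]; norm_num)
  have hh := hQ.2.2 t ht u hu htu
  obtain ⟨g, h0, h1, h2⟩ := std_pair hd (hQ.2.1 t ht).1 (hQ.2.1 u hu).1 hh
  refine ⟨g, Prod.ext h0 ((quartet_unique hd (hQ.2.1 t ht).1 (hQ.2.1 u hu).1 hh).unique
    ⟨h0 ▸ quartets_smul g Q0_mem, ?_, ?_⟩ ⟨hQ, ht, hu⟩)⟩
  · rw [← h1]; exact Finset.smul_mem_smul_finset (rel_Q0.mem.2 ⟨7, by simp, rfl⟩)
  · rw [← h2]; exact Finset.smul_mem_smul_finset (rel_Q0.mem.2 ⟨4120, by simp, rfl⟩)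

theorem orbit_Q0 : orbit (stabilizer M24 d0) Q0 = quartets d0 := by
  ext Q
  constructor
  · rintro ⟨g, rfl⟩
    have := quartets_smul g.1 Q0_mem
    rwa [g.2] at this
  · intro hQ
    obtain ⟨g, hg⟩ := quartet_trans dod0_mem hQ
    exact ⟨⟨g, congrArg Prod.fst hg⟩, congrArg Prod.snd hg⟩

theorem Q0_low : 220 ≤ (orbit (stabilizer M24 d0) Q0).ncard :=
  cSet.le_orbit' cFam rel_d0 (T := 0x59e85b09c07c48c55d03aa661849a6a1eb77b542758208ac8828e69832465d6912c1d29dc68559a0798ec110295d687990a27d9a954641732e61a010aa8f6bc9619c4882bc0ca41c61a44d75ceb291e98a808ace03b32820b64673e2b3b2e4a4c22b14c854aa980da0b3ea5391d2ba8cc9ad0988a8d0c0038d1d53b2e47cc2db29062c96302450bd9ca9b221a14887ae49a8ce23020d3be2eaa0a29d80d55d925868419930a56cb29a6d5382cbc510790f2480627c54e9816829c92b5523b8a81619b09da27b82862d5a37b9905117248448bdab4791c351d00895a158a7283126bdab49ca307b9ac5a928398a418820) (by decide +kernel) rel_Q0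
    (unpack 4096 [0x9a306c0bc0385e20440c505b052055a420a50530320ee3f21530950620429221000b40fc0a7086ae20477740e85340b50e00740230757120c401809608701c09269203f0780e90af0f90090496a203d06899302d123057662dd30281268f2a44, 0x9530060080c60670900489130fe07e01902e05902707b02b0030763d2b220b0056007d32ea3022d930d38650c89d2d52d42ab30c72720130d507c9150b30820450890ef03b0b909305f0d90e20b801504e0a90b708e06406df530a20c3d23d82, 0x1820e70ae04f00c0020f2073a1203c05d036de4037642d622f20720a60d80104e3244aa201e3340260cc0b68620d60170e406f93200b8130f30ec00d0707320250fbb340340ed0a37920e30a8dc2ea600489301d0055120c206504b0eb0fd00f, 0xfe48c20142956229c45a30120500d20308520887820160bf09d513c420209d5826001ed200e0c00bb02f]) 220 (by decide +kernel)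

def qG : List ℕ := [nat_lit 0x7ceae5b143b520d29e46892e848440, nat_lit 0x2de74788e05da4972a06886ad40c8c]
def qCL0 : Lev := ⟨nat_lit 0, nat_lit 0x5335f, (.node (nat_lit 8) (.node (nat_lit 3) (.node (nat_lit 1) (.leaf (nat_lit 0xbdab49ca307b9ac5a928398a418820)) (.node (nat_lit 2) (.leaf (nat_lit 0x996f6ac152a2c887c583399c968402)) (.leaf (nat_lit 0xabad72b6299ae03a1cd2521ec20022)))) (.node (nat_lit 4) (.leaf (nat_lit 0x72df7b41462d18299c648caa103509)) (.node (nat_lit 6) (.leaf (nat_lit 0x2add6b90ecabd22a450d50e600c0d2)) (.leaf (nat_lit 0xaddcfa0a215d9899a883380ad41a12))))) (.node (nat_lit 13) (.node (nat_lit 9) (.leaf (nat_lit 0x5d1d69a548bbc2c29c408b6a3240d2)) (.node (nat_lit 12) (.leaf (nat_lit 0xa95f458e2c75c50b280139272321a9)) (.leaf (nat_lit 0xbba74aca307d90029d2d5196110c8c)))) (.node (nat_lit 16) (.leaf (nat_lit 0x5be7672548bd012ac4413b4a68106c)) (.node (nat_lit 18) (.leaf (nat_lit 0x2de74788e05da4972a06886ad40c8c)) (.leaf (nat_lit 0x7d676280e2752085aa46886ed4906c))))))⟩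
def qCC0 : LevCert := ⟨qCL0,
    [(nat_lit 16, nat_lit 1), (nat_lit 13, nat_lit 0), (nat_lit 9, nat_lit 1), (nat_lit 12, nat_lit 0), (nat_lit 4, nat_lit 1), (nat_lit 3, nat_lit 0), (nat_lit 18, nat_lit 0), (nat_lit 6, nat_lit 0), (nat_lit 1, nat_lit 1), (nat_lit 2, nat_lit 1), (nat_lit 8, nat_lit 0)],
    [[nat_lit 2, nat_lit 0, nat_lit 0, nat_lit 0, nat_lit 2, nat_lit 0, nat_lit 2, nat_lit 0], [nat_lit 2]],
    [nat_lit 0x9be8eb10e35d5122a9a98b2f030440, nat_lit 0x7ceae5b143b520d29e46892e848440]⟩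
def qCL1 : Lev := ⟨nat_lit 1, nat_lit 6, (.node (nat_lit 2) (.leaf (nat_lit 0xbdab49ca307b9ac5a928398a418820)) (.leaf (nat_lit 0x9be8eb10e35d5122a9a98b2f030440)))⟩
def qCC1 : LevCert := ⟨qCL1,
    [(nat_lit 2, nat_lit 0)],
    [[nat_lit 0, nat_lit 2], [nat_lit 2, nat_lit 2, nat_lit 4, nat_lit 4], [nat_lit 4, nat_lit 6, nat_lit 6, nat_lit 4, nat_lit 4, nat_lit 4, nat_lit 6, nat_lit 6, nat_lit 6, nat_lit 6]],
    [nat_lit 0x5da952c9467b868bc48c3c26968820, nat_lit 0x5ddd59a4e87d186b4483534b280820, nat_lit 0xbda8e7a0ed2d4925c46c5267030820]⟩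
def qCL2 : Lev := ⟨nat_lit 3, nat_lit 0x53358, (.node (nat_lit 9) (.node (nat_lit 6) (.node (nat_lit 4) (.leaf (nat_lit 0xbdab49ca307b9ac5a928398a418820)) (.leaf (nat_lit 0x5d9d49a2292d4ccb9e12535e320820))) (.node (nat_lit 8) (.leaf (nat_lit 0xbadd4290ec7d510b292d88e7230820)) (.leaf (nat_lit 0x5ddd59a4e87d186b4483534b280820)))) (.node (nat_lit 13) (.node (nat_lit 12) (.leaf (nat_lit 0xbda8e7a0ed2d4925c46c5267030820)) (.leaf (nat_lit 0xb5eae2a62d7d20359e465226460820))) (.node (nat_lit 16) (.leaf (nat_lit 0x5da952c9467b868bc48c3c26968820)) (.node (nat_lit 18) (.leaf (nat_lit 0x5daae7b0e39d132ba9a8890a680820)) (.leaf (nat_lit 0x5deb478d4c2ba49b1e068926868820))))))⟩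
def qCC2 : LevCert := ⟨qCL2,
    [(nat_lit 13, nat_lit 0), (nat_lit 8, nat_lit 1), (nat_lit 9, nat_lit 2), (nat_lit 6, nat_lit 1), (nat_lit 16, nat_lit 2), (nat_lit 12, nat_lit 0), (nat_lit 18, nat_lit 2), (nat_lit 4, nat_lit 0)],
    [[nat_lit 0, nat_lit 4, nat_lit 2]],
    [nat_lit 0xbae957b6289ba44b1cd0524ac18820]⟩
def qCL3 : Lev := ⟨nat_lit 4, nat_lit 0x1010, (.node (nat_lit 12) (.leaf (nat_lit 0xbdab49ca307b9ac5a928398a418820)) (.leaf (nat_lit 0xbae957b6289ba44b1cd0524ac18820)))⟩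
def qCC3 : LevCert := ⟨qCL3,
    [(nat_lit 12, nat_lit 0)],
    [],
    []⟩
def qC : List LevCert := [qCC0, qCC1, qCC2, qCC3]
def qCL : List Lev := [qCL0, qCL1, qCL2, qCL3]

theorem rel_dQ : (cProd cSet cFam).rel ((340831 : ℕ), ([7, 4120, 8960, 327744] : List ℕ)) (d0, Q0) :=
  ⟨rel_d0, rel_Q0⟩

theorem qG_ok : chkGens (cProd cSet cFam) ((340831 : ℕ), ([7, 4120, 8960, 327744] : List ℕ)) qG = true := by
  decide +kernel

theorem quartet_counts : (quartets d0).ncard = 220 ∧ Nat.card (stabilizer M24 (d0, Q0)) = 432 := by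
  have h1 := card_stab_eq_mul (G := M24) d0 Q0
  have h2 := le_card_stab _ rel_dQ (cert := qC) qG_ok (by decide +kernel)
  rw [show chainCard (nat_lit 24) (qC.map LevCert.L) = 432 by decide +kernel] at h2
  rw [← orbit_Q0]
  exact eq_of_mul_le Q0_low h2 (by rw [← h1, card_stab_d0]) (by norm_num) (by norm_num)

theorem q_chain : GE.IsChain qCL (pst (d0, Q0)) :=
  isChain_pst _ rel_dQ (cert := qC) qG_ok (by decide +kernel)
    (by rw [quartet_counts.2]; decide +kernel)

theorem ncard_quartets {d : Finset GolayPt} (hd : d ∈ dodecads) : (quartets d).ncard = 220 := by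
  obtain ⟨g, rfl⟩ := dod_trans d hd
  rw [← quartet_counts.1, ← Set.ncard_smul_set g (quartets d0)]
  congr 1
  ext Q
  rw [Set.mem_smul_set_iff_inv_smul_mem]
  exact ⟨fun h => by simpa using quartets_smul g⁻¹ h, fun h => by simpa using quartets_smul g h⟩

/-- the invariant `∑ |t ∩ u|⁴` of two families -/
def inter4 (S X : Finset (Finset GolayPt)) : ℕ := ∑ t ∈ S, ∑ u ∈ X, (t ∩ u).card ^ 4

theorem inter4_smul (g : M24) (S X : Finset (Finset GolayPt)) :
    inter4 (g • S) (g • X) = inter4 S X := by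
  simp only [inter4, sum_smul_finset, card_smul_inter]

theorem inter4_rel {cs ds : List ℕ} {S X : Finset (Finset GolayPt)} (h : relL cs S)
    (h' : relL ds X) : inter4 S X =
      (cs.map fun c => (ds.map fun d => pc (Nat.land c d) ^ 4).sum).sum := by
  rw [inter4, h.sum]
  congr 1
  apply List.map_congr_left
  intro c _
  rw [h'.sum]
  congr 1
  apply List.map_congr_left
  intro d _
  rw [← bits_and, card_bits]
  rfl

theorem dQ_fix : (cProd cSet cFam).chkFix ((340831 : ℕ), ([7, 4120, 8960, 327744] : List ℕ))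
    0x9beebaca30759042a9a939a8360402755e5b1950bcd88a44643c96968041796eba20edad9909c483525c690402bbea59c95075981a1c6489960125a89beebaca30759042a9a939a83604029d17572628bbe40b28d03b4a20b064bd1cb2b224b4c307a84038eb23250d9d685b12237ac48b9c20531c969a50bd6cf58141a39a49c528388ac19a12baeae9c1522d18db4464399e848820a5e6bb0d442ba427c6063b2a10250d9bdd55a628bd20429cd2536c360440aae93708e1bda4d7a8d0880a94106c2de74788e05da4972a06886ad40c8c7ceae5b143b520d29e46892e848440bdab49ca307b9ac5a928398a418820 = true := by decide +kernel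

theorem q_low12 : 12 ≤ (orbit (stabilizer M24 (d0, Q0)) (fam [321, 4120, 73732, 262658])).ncard :=
  (cProd cSet cFam).le_orbit' cFam rel_dQ dQ_fix (c := ([321, 4120, 73732, 262658] : List ℕ))
    (relL_fam (by decide +kernel)) (unpack 64 [0x3b228d14b081106203]) 12 (by decide +kernel)

theorem q_low27 : 27 ≤ (orbit (stabilizer M24 (d0, Q0)) (fam [88, 770, 8197, 331776])).ncard :=
  (cProd cSet cFam).le_orbit' cFam rel_dQ dQ_fix (c := ([88, 770, 8197, 331776] : List ℕ))
    (relL_fam (by decide +kernel)) (unpack 256 [0x701e3d30c7943820d063208c80304220e120a2393e20209c3b252]) 27 (by decide +kernel)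

theorem q_low72 : 72 ≤ (orbit (stabilizer M24 (d0, Q0)) (fam [28, 4672, 8450, 327681])).ncard :=
  (cProd cSet cFam).le_orbit' cFam rel_dQ dQ_fix (c := ([28, 4672, 8450, 327681] : List ℕ))
    (relL_fam (by decide +kernel)) (unpack 4096 [0x3420880d20190a30010040380050070540460260ba02502a0d40a902200209301a0d60920e503f0c20680d30470a60b30080c30490350060120b907707503600a0320b652207202341200f0e6037027a720030ca04200e09401305305207e009, 0x51205f04321207606400d0c7]) 72 (by decide +kernel)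

theorem q_low108 : 108 ≤ (orbit (stabilizer M24 (d0, Q0)) (fam [81, 262, 77824, 262664])).ncard :=
  (cProd cSet cFam).le_orbit' cFam rel_dQ dQ_fix (c := ([81, 262, 77824, 262664] : List ℕ))
    (relL_fam (by decide +kernel)) (unpack 4096 [0x7320c709e08b00100e0e207407308805403f0530580e40a80940b90a60e60e707606400f0d302308903205604500b0090240420c200d09c0030c80390270260382220c304b0220c908309a0a20b80652321820930060340e90b50840a5005052, 0xdbda207c01d08c7b2e720e807e00700c0c40b20d60920e30480150470440b30d40192b20af07506f04d00400a0020ca0130965320250ba072d820821d30d500805f]) 108 (by decide +kernel)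

theorem q_low1 : 1 ≤ (orbit (stabilizer M24 (d0, Q0)) (fam [7, 4120, 8960, 327744])).ncard :=
  (cProd cSet cFam).le_orbit' cFam rel_dQ dQ_fix (c := ([7, 4120, 8960, 327744] : List ℕ))
    (relL_fam (by decide +kernel)) (unpack 2 [0x1]) 1 (by decide +kernel)

theorem quartet_suborbits {d : Finset GolayPt} (hd : d ∈ dodecads) {Q : Finset (Finset GolayPt)}
    (hQ : Q ∈ quartets d) : Suborbits (stabilizer M24 (d, Q)) (quartets d) (inter4 Q)
      ![324, 90, 68, 54, 26] ![1, 12, 27, 72, 108] := by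
  obtain ⟨g, e⟩ := quartet_trans hd hQ
  have hB : ∀ (g : M24) (a : Finset GolayPt × Finset (Finset GolayPt)) y, y ∈ quartets a.1 →
      g • y ∈ quartets (g • a).1 := fun g _ _ h => quartets_smul g h
  have hF : ∀ (g : M24) (a : Finset GolayPt × Finset (Finset GolayPt)) y, y ∈ quartets a.1 →
      inter4 (g • a).2 (g • y) = inter4 a.2 y := fun g a y _ => inter4_smul g a.2 y
  have key : Suborbits (stabilizer M24 (d0, Q0)) (quartets d0) (inter4 Q0)
      ![324, 90, 68, 54, 26] ![1, 12, 27, 72, 108] := by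
    refine Suborbits.of_lower (inv_of_equivariant (B := fun a => quartets a.1)
      (F := fun a => inter4 a.2) hB hF (d0, Q0)) (Set.toFinite _) (by decide)
      ![fam [7, 4120, 8960, 327744], fam [321, 4120, 73732, 262658], fam [88, 770, 8197, 331776],
        fam [28, 4672, 8450, 327681], fam [81, 262, 77824, 262664]] ?_ ?_ ?_ ?_
    · intro i
      fin_cases i
      · exact Q0_mem
      · exact mem_quartets_of_chkQ (relL_fam (by decide +kernel))
          [39257, 2173253, 2392899, 2207772, 2365978, 371206] (by decide +kernel)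
      · exact mem_quartets_of_chkQ (relL_fam (by decide +kernel))
          [525274, 663645, 463064, 140167, 987906, 864389] (by decide +kernel)
      · exact mem_quartets_of_chkQ (relL_fam (by decide +kernel))
          [21116, 10558, 346141, 31554, 334433, 352547] (by decide +kernel)
      · exact mem_quartets_of_chkQ (relL_fam (by decide +kernel))
          [1065303, 95313, 1312345, 1127686, 280334, 1405448] (by decide +kernel)
    · intro i
      fin_cases i <;>
        exact (inter4_rel rel_Q0 (relL_fam (by decide +kernel))).trans (by decide +kernel)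
    · rw [quartet_counts.1]; decide
    · intro i
      fin_cases i
      exacts [q_low1, q_low12, q_low27, q_low72, q_low108]
  have := Suborbits.transport (B := fun a => quartets a.1) (F := fun a => inter4 a.2) hB hF
    (a := (d0, Q0)) key g
  rwa [e] at this

end Cfsg.Agent.H56
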