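/-
Suborbits of a stabiliser on the orbit of the point itself.
-/
import Cfsg.Agent.H56.SubTools

set_option autoImplicit false
open Cfsg MulAction
open scoped Pointwise

namespace Cfsg.Agent.H56

open H14 H55

section
variable {G Ω ι : Type*} [Group G] [MulAction G Ω] {r : ℕ} {B : Set Ω} {f : Ω → ι}

theorem orbit_stab_self (a : Ω) : orbit (stabilizer G a) a = {a} :=
  Set.eq_singleton_iff_unique_mem.2 ⟨mem_orbit_self a, by rintro _ ⟨g, rfl⟩; exact g.2⟩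

theorem sub_self {v : Fin r → ι} {n : Fin r → ℕ} {a : Ω} (S : Suborbits (stabilizer G a) B f v n)
    (ha : a ∈ B) (i₀ : Fin r) (hn : ∀ i, n i = 1 → i = i₀) : f a = v i₀ := by
  obtain ⟨i, hi⟩ := S.cover a ha
  have := S.ncard_orbit ha hi
  rw [orbit_stab_self, Set.ncard_singleton] at this
  rw [hi, hn i this.symm]

theorem sub_self3 {v : Fin 3 → ι} {n : Fin 3 → ℕ} {a : Ω} (S : Suborbits (stabilizer G a) B f v n)
    (ha : a ∈ B) (hn : ∀ i, n i ≠ 0) (h1 : ∀ i, n i = 1 → i = 0) :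
    ∃ X₁ ∈ B, ∃ X₂ ∈ B, (orbit (stabilizer G a) X₁).ncard = n 1 ∧
      (orbit (stabilizer G a) X₂).ncard = n 2 ∧
      B = {a} ∪ orbit (stabilizer G a) X₁ ∪ orbit (stabilizer G a) X₂ := by
  obtain ⟨x, h0, h4, h2, h3⟩ := sub_reps S hn
  refine ⟨_, h0 1, _, h0 2, h2 1, h2 2, ?_⟩
  rw [← sub_orbit_self S ha (h0 0) ((h4 0).trans (sub_self S ha 0 h1).symm)]
  exact h3.trans (iUnion3 _)

theorem sub_self4 {v : Fin 4 → ι} {n : Fin 4 → ℕ} {a : Ω} (S : Suborbits (stabilizer G a) B f v n)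
    (ha : a ∈ B) (hn : ∀ i, n i ≠ 0) (h1 : ∀ i, n i = 1 → i = 0) :
    ∃ X₁ ∈ B, ∃ X₂ ∈ B, ∃ X₃ ∈ B, (orbit (stabilizer G a) X₁).ncard = n 1 ∧
      (orbit (stabilizer G a) X₂).ncard = n 2 ∧ (orbit (stabilizer G a) X₃).ncard = n 3 ∧
      B = {a} ∪ orbit (stabilizer G a) X₁ ∪ orbit (stabilizer G a) X₂ ∪
        orbit (stabilizer G a) X₃ := by
  obtain ⟨x, h0, h4, h2, h3⟩ := sub_reps S hn
  refine ⟨_, h0 1, _, h0 2, _, h0 3, h2 1, h2 2, h2 3, ?_⟩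
  rw [← sub_orbit_self S ha (h0 0) ((h4 0).trans (sub_self S ha 0 h1).symm)]
  exact h3.trans (iUnion4 _)

theorem sub_self5 {v : Fin 5 → ι} {n : Fin 5 → ℕ} {a : Ω} (S : Suborbits (stabilizer G a) B f v n)
    (ha : a ∈ B) (hn : ∀ i, n i ≠ 0) (h1 : ∀ i, n i = 1 → i = 0) :
    ∃ X₁ ∈ B, ∃ X₂ ∈ B, ∃ X₃ ∈ B, ∃ X₄ ∈ B, (orbit (stabilizer G a) X₁).ncard = n 1 ∧
      (orbit (stabilizer G a) X₂).ncard = n 2 ∧ (orbit (stabilizer G a) X₃).ncard = n 3 ∧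
      (orbit (stabilizer G a) X₄).ncard = n 4 ∧
      B = {a} ∪ orbit (stabilizer G a) X₁ ∪ orbit (stabilizer G a) X₂ ∪
        orbit (stabilizer G a) X₃ ∪ orbit (stabilizer G a) X₄ := by
  obtain ⟨x, h0, h4, h2, h3⟩ := sub_reps S hn
  refine ⟨_, h0 1, _, h0 2, _, h0 3, _, h0 4, h2 1, h2 2, h2 3, h2 4, ?_⟩
  rw [← sub_orbit_self S ha (h0 0) ((h4 0).trans (sub_self S ha 0 h1).symm)]
  exact h3.trans (iUnion5 _)

theorem sub_coatom {v : Fin r → ι} {n : Fin r → ℕ} {a a₀ : Ω}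
    (S : Suborbits (stabilizer G a) B f v n) (ha : a ∈ B) (hinv : ∀ (h : G), ∀ y ∈ B, h • y ∈ B)
    (htr : ∀ y ∈ B, ∃ g : G, g • a₀ = y) (i₀ : Fin r) (hn : ∀ i, n i = 1 → i = i₀)
    (h1 : ∑ i, n i ≠ 1) (hdiv : ∀ I : Finset (Fin r), i₀ ∈ I → (∑ i ∈ I, n i) ∣ ∑ i, n i →
      I = {i₀} ∨ I = Finset.univ) : IsCoatom (stabilizer G a) := by
  have e : orbit G a = B := by
    ext y
    constructor
    · rintro ⟨g, rfl⟩
      exact hinv g a ha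
    · intro hy
      obtain ⟨g, rfl⟩ := htr y hy
      obtain ⟨h, rfl⟩ := htr a ha
      exact ⟨g * h⁻¹, by simp [mul_smul]⟩
  have hf := sub_self S ha i₀ hn
  rw [← e] at S
  exact S.isCoatom i₀ hf h1 hdiv

end

end Cfsg.Agent.H56
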