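/-
The structure of the stabilisers of a sextet and of a trio in `M24`.
-/
import Cfsg.Agent.H56.SubTools
import Cfsg.Agent.H56.IsoK
import Cfsg.Agent.H97.M24Six

set_option autoImplicit false
set_option maxRecDepth 100000
open Cfsg MulAction
open scoped Pointwise

namespace Cfsg.Agent.H56

open H14 H55

theorem ncard_orbit_smul {G α β : Type*} [Group G] [MulAction G α] [MulAction G β] (g : G) (a : α)
    (x : β) : (orbit (stabilizer G (g • a)) (g • x)).ncard = (orbit (stabilizer G a) x).ncard := by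
  rw [← Set.ncard_smul_set g (orbit (stabilizer G a) x)]
  congr 1
  ext y
  constructor
  · rintro ⟨h, rfl⟩
    refine ⟨_, ⟨⟨g⁻¹ * h * g, ?_⟩, rfl⟩, ?_⟩
    · rw [mem_stabilizer_iff, mul_smul, mul_smul, h.2, inv_smul_smul]
    · simp [mul_smul, Subgroup.smul_def]
  · rintro ⟨_, ⟨h, rfl⟩, rfl⟩
    refine ⟨⟨g * h * g⁻¹, ?_⟩, ?_⟩
    · rw [mem_stabilizer_iff, mul_smul, mul_smul, inv_smul_smul, h.2]
    · simp [mul_smul, Subgroup.smul_def]

/-- the stabiliser of a family induces the symmetric group if a tuple of members has a long orbit -/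
theorem sym_of_low {β : Type} [MulAction M24 β] {S₀ : Finset (Finset GolayPt)} {x₀ : β}
    (hx : ∀ g : M24, (∀ t ∈ S₀, g • t = t) → g • x₀ = x₀)
    (hlow : S₀.card.factorial ≤ (orbit (stabilizer M24 S₀) x₀).ncard) {S : Finset (Finset GolayPt)}
    (hS : ∃ g : M24, g • S₀ = S) :
    (∀ e : Equiv.Perm S, ∃ g ∈ stabilizer M24 S, ∀ t : S, (g : Equiv.Perm GolayPt) • t.1 = e t) ∧
      Nat.card (stabilizer M24 S) = S.card.factorial * Nat.card {g : stabilizer M24 S //
        ∀ t ∈ S, ((g : M24) : Equiv.Perm GolayPt) • t = t} := by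
  obtain ⟨a, rfl⟩ := hS
  rw [← ncard_orbit_smul a, ← Finset.card_smul_finset a] at hlow
  have hx' : ∀ g : M24, (∀ t ∈ a • S₀, g • t = t) → g • a • x₀ = a • x₀ := fun g hg => by
    rw [← inv_smul_eq_iff, ← mul_smul, ← mul_smul]
    exact hx _ fun t ht => by
      rw [mul_smul, mul_smul, hg _ (Finset.smul_mem_smul_finset ht), inv_smul_smul]
  generalize a • S₀ = S at *
  generalize a • x₀ = x at *
  let ρ := toPermHom (stabilizer M24 S) (Finset GolayPt)
  have hE : ∀ h, ∀ p ∈ S, ρ h p ∈ S := fun h p hp => by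
    have := Finset.smul_mem_smul_finset (a := h.1) hp
    rwa [h.2] at this
  let φ := H97.resHom ρ S hE
  have h1 : Nat.card φ.ker ≤ Nat.card (stabilizer M24 (S, x)) :=
    Nat.card_le_card_of_injective (fun h => ⟨h.1.1, Prod.ext h.1.2
      (hx' _ ((H97.resHom_eq_one_iff ρ S hE _).1 h.2))⟩)
      fun a b h => Subtype.ext (Subtype.ext (Subtype.mk.inj h))
  have h2 := φ.ker.index_mul_card
  rw [Subgroup.index_ker, card_stab_eq_mul S x] at h2
  have h3 : φ.range = ⊤ := Subgroup.eq_top_of_le_card _ (by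
    rw [Nat.card_perm, Nat.card_eq_fintype_card (α := S), Fintype.card_coe]
    have : 0 < Nat.card φ.ker := Nat.card_pos
    by_contra hc
    nlinarith)
  have h4 : ∀ σ : Equiv.Perm S, ∃ h, ∀ p : S, ρ h p = σ p := fun σ =>
    let ⟨h, e⟩ := MonoidHom.range_eq_top.1 h3 σ; ⟨h, fun p => e ▸ rfl⟩
  exact ⟨fun e => let ⟨h, e⟩ := h4 e; ⟨h, h.2, e⟩, H97.card_eq_of_res ρ S hE h4⟩

/-- a kernel of order at most 64 containing a group of order 64 of exponent 2 -/
theorem ker_sq {H : Subgroup M24} {Q : Type*} [Group Q] (φ : H →* Q) (hk : Nat.card φ.ker ≤ 64)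
    {gens : List ℕ} {cert : List LevCert} (hg : ∀ P ∈ gens, ∃ g, φ g = 1 ∧ GE.pk (incl H g) = P)
    (h : (allL gens (valid (nat_lit 5) (nat_lit 32) (nat_lit 24)) &&
      ssOK (nat_lit 5) (nat_lit 32) (nat_lit 24) cert gens) = true)
    (h1 : chainCard (nat_lit 24) (cert.map LevCert.L) = 64)
    (h2 : allElts (nat_lit 5) (nat_lit 32) (nat_lit 24) (fun P => Nat.beq
      (comp (nat_lit 5) (nat_lit 32) (nat_lit 24) P P) (idP (nat_lit 5) (nat_lit 24)))
      (cert.map LevCert.L) (idP (nat_lit 5) (nat_lit 24)) = true) :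
    Nat.card φ.ker = 64 ∧ ∀ x ∈ φ.ker, x * x = 1 := by
  have hC := chain_grp (E := GE) h
  have h3 : Nat.card (φ.ker.map (incl H)) = Nat.card φ.ker :=
    Subgroup.card_map_of_injective (incl_injective H)
  have h4 : GE.grp gens = φ.ker.map (incl H) := Subgroup.eq_of_le_of_card_ge
    (Enc.grp_le fun P hP => let ⟨g, e1, e2⟩ := hg P hP; ⟨_, ⟨g, e1, rfl⟩, e2⟩)
    (by rw [h3, hC.card, h1]; exact hk)
  refine ⟨by rw [← h3, ← h4, hC.card, h1], fun x hx => incl_injective H ?_⟩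
  have := hC.forall_of_allElts h2 (incl H x) (h4 ▸ ⟨x, hx, rfl⟩)
  rwa [beq_iff, ← GE.pk_mul, ← GE.pk_one, GE.pk_inj, ← map_mul, ← map_one (incl H)] at this

theorem card_stab_sextet {S : Finset (Finset GolayPt)} (hS : S ∈ sextets) :
    Nat.card (stabilizer M24 S) = 138240 := by
  have h := card_eq_orbit_mul_stab (G := M24) S
  rw [orbit_eq_of_trans (fun g _ => smul_mem_sextets g) sextet_trans hS, sextets_ncard,
    card_M24] at h
  omega

theorem card_stab_trio {S : Finset (Finset GolayPt)} (hS : S ∈ trios) :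
    Nat.card (stabilizer M24 S) = 64512 := by
  have h := card_eq_orbit_mul_stab (G := M24) S
  rw [orbit_eq_of_trans (fun g _ => smul_mem_trios g) trio_trans hS, trios_ncard, card_M24] at h
  omega

theorem sxt_fx : cFam.chkFix ([198, 36096, 90120, 1315328, 4325424, 11010049] : List ℕ)
    0xbc6ad040af0a14e30867950965a59348a5564ce3b39a0216f152c2683d14138ef32db3882eab15044b070aca810c0ca121b34dc0ba49ecb146ea9227b523524d8e50db75a00f31e4980445bc26faa0651588b38546931ae8d12001674bcac33b9a90898652c9183d15b1c898b02a6bd1474243a80465cee521ad7280434361353eaba2427749914cd8d942ea8a1e3b11c51041559cd43a8d40b1ee8b609b1245acd68182e259d1253033682e980e8eb1446ac48f090d3156d46a5801c2ee7a8b1921670c0e43146c9ca96ade205bdcd4a1422b22b22a8171ccf8350305e4914eb6bdab49ca307b9ac5a928398a418820 = true := by decide +kernel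

theorem sxt_low : 720 ≤ (orbit (stabilizer M24 (fam sx0)) (((((bits 198), (bits 36096)), (bits 90120)), (bits 1315328)), (bits 4325424))).ncard :=
  cFam.le_orbit' (cProd (cProd (cProd (cProd cSet cSet) cSet) cSet) cSet) (ca := ([198, 36096, 90120, 1315328, 4325424, 11010049] : List ℕ)) (a := (fam sx0)) (relL_fam (by decide +kernel)) sxt_fx (c := (((((198 : ℕ), (36096 : ℕ)), (90120 : ℕ)), (1315328 : ℕ)), (4325424 : ℕ))) (⟨⟨⟨⟨⟨by norm_num, rfl⟩, ⟨by norm_num, rfl⟩⟩, ⟨by norm_num, rfl⟩⟩, ⟨by norm_num, rfl⟩⟩, ⟨by norm_num, rfl⟩⟩)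
  (unpack 65536 [0x645008d06a300aa06d2003906c9077603920719002201830cf20863003200b7005209740a73075400d600c6007507950059035702a20632009400e500260296093c07b20143048205a60ca201840da20f740e530fae012508b20f2701340e860085089507820ed305a2065206d606c60f550e1200f4000c00bc0bf40d240001,
  0x2f30a6209f400ba02c2007f0813000a07e300c2094204b20067007d009300d20278047200c90ee30da600f30e63011408d304790b220e160045049500a305230b930bd20a740fb30a2703a200360bc20e82e9120a5502170e64009f04860bf305b8022400ff00a40df2006c00070ba30835002906c20816029207530fa808e3,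
  0xf33032601f70c7c00c80e9300e00dc30c62001e03750b730c69007a00db00bf0a1500ab092205e30352005d0932025200b400740f34002700ae02a4097503850bb40b7407b40774000409e504f20572003c03f406250e590018054c00550595039303d20496004603c9053d00a803c20dc4077302d200e7052806330cc404a2,
  0x34208b3007006c303490e4a05440f620943056e013c00f8008f001404b30d2805860e2200420de20833086b000309d20115001b002c02f4049209f3004903320322002001e60a660ac40c4805120f8a00b3023208d508c500d8007300d00cc30b4201bd0239086e0ab5000f00cb003705ea0643042309a4fa72096c00970582,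
  0xa720edd002d06628e2209130bd508420e440a1209340c6400340b8301d80272025401b3073300fb0fe602b20d53092507140a530d120c82001f00250fc301000933073a074302d300ad0c6306e20a63051307ad0e1408b4003a0a350d16008400430d350bcd044200dd091400cd01db0033006b04370783004f02d408d80e13,
  0x736045801b203440ea206230da300ac0f85008e0015000b00e6009801b90b760a850dc20ff400fc0687096200c3001004550cb2051401460b340418006e0db203ab00440cb909440c540d720d54008a047404b406f701ba02820fc400c500d5094a004a00a50b4409a500fe03370543058409830ab2008302160b8a0c530013,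
  0x9580665005806f20a940745022507a309f70bd4048e07c2004b041500f70234021307940048034300cf086200e900b50e9205e2075201820a360f3900e20bb905b505e90f22089b00a70ea60f320bb20f5206a6021401160fd60fc60f750d320b8200690915009b0b640008007c07f403f808e207850a220a3200620e2300a0,
  0x5f07b8011705730ea8031209d30655026607a20982001202c40f8208a2052c0b2306460436005307960076096400ef00190cc20fea01380a43008600d3054200600fc200bd0243011204a70b630fd208c3009006a204e2005b072200660ad20de500c40aa30b350c74008b0fa30e240a520dbc000e04e6009e00dc03130050,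
  0xa330372000d0f1200e300cc0063096305bf042201f60f5301a20935064903b20f190916039500350e420a140fd3001600950005004c04f400df00fd08f200c70072095409720054007900b907920a830b920e18002e0b990382048500b20a13003002c3008209120c390bf206b40c3207f90a250fb20c22002b00ea006403d3,
  0x4440065082600f2007800b8004003c3013201b706b200eb08590b620e8e00f90cc50152002305a306d3007e00ee0175074b0965061200bb0be6065302420ff2008703c40d4401e505c2038b0bc300c006b30d1804e5049403630028005a0717029b0c590b170c7502a0006f02620c26045200d407240fd4003d0c52082309d4,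
  0x4330e6208c20a92003e0c3300a902c80d14053200be023c002405220a230822083208b700170fbb08390c4307c300800f870c3a04fb022702b40d330715007b0f2407cf0d1300a60ee209a6006d0bb50c13052604840038008c08f40be2000907e2009202b3001c0635009902d800020a1706b9003b0057085205a4002a0894,
  0xc1408c9068209a208d200a200060096014508a3005c05f401d20d43066400f6]) 720 (by decide +kernel)

theorem sx_sym {S : Finset (Finset GolayPt)} (hS : S ∈ sextets) :
    (∀ e : Equiv.Perm S, ∃ g ∈ stabilizer M24 S, ∀ t : S, (g : Equiv.Perm GolayPt) • t.1 = e t) ∧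
      Nat.card (stabilizer M24 S) = S.card.factorial * Nat.card {g : stabilizer M24 S //
        ∀ t ∈ S, ((g : M24) : Equiv.Perm GolayPt) • t = t} :=
  sym_of_low (x₀ := (((((bits 198), (bits 36096)), (bits 90120)), (bits 1315328)), (bits 4325424))) (fun _ h => Prod.ext (Prod.ext (Prod.ext (Prod.ext (h _ (sx0_rel.mem.2 ⟨_, by decide, rfl⟩)) (h _ (sx0_rel.mem.2 ⟨_, by decide, rfl⟩))) (h _ (sx0_rel.mem.2 ⟨_, by decide, rfl⟩))) (h _ (sx0_rel.mem.2 ⟨_, by decide, rfl⟩))) (h _ (sx0_rel.mem.2 ⟨_, by decide, rfl⟩)))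
    (sx0_mem.1.symm ▸ sxt_low) (sextet_trans S hS)

theorem trt_fx : cFam.chkFix ([5279, 1009728, 15762208] : List ℕ)
    0xb15349b4cebc9678a90f1c2a11100c834d3b5caf752a3492326216a100e10104a4d4b41a2cb7c4ec35c33835d209d44a5928616f2a98408bc6d74e0b5ccd119c44801960d1b2aa9d7795287a2859c1c6ac96c88d37236ca004e28ccd02bef56d1234296e0da4c01c823882094e061c5d46bd4c2ac95ba6c8a26c812881ab00e3c9e558ee68b6139c96d7d517896c3a28d0025c4130e19b6323b0033288f121d0b8575b24b47d8a89996ea3644832a9546e119c02a591553041b80f11c0a9691ee91973b510f69a72bc16a886a51392720c0cba4af3460db3a6a902b43ad0223061bdab49ca307b9ac5a928398a418820 = true := by decide +kernel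

theorem trt_low : 6 ≤ (orbit (stabilizer M24 (fam tr0)) ((bits 5279), (bits 1009728))).ncard :=
  cFam.le_orbit' (cProd cSet cSet) (ca := ([5279, 1009728, 15762208] : List ℕ)) (a := (fam tr0)) (relL_fam (by decide +kernel)) trt_fx (c := ((5279 : ℕ), (1009728 : ℕ))) (⟨⟨by norm_num, rfl⟩, ⟨by norm_num, rfl⟩⟩)
  (unpack 16 [0x96d471]) 6 (by decide +kernel)

theorem tr_sym {S : Finset (Finset GolayPt)} (hS : S ∈ trios) :
    (∀ e : Equiv.Perm S, ∃ g ∈ stabilizer M24 S, ∀ t : S, (g : Equiv.Perm GolayPt) • t.1 = e t) ∧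
      Nat.card (stabilizer M24 S) = S.card.factorial * Nat.card {g : stabilizer M24 S //
        ∀ t ∈ S, ((g : M24) : Equiv.Perm GolayPt) • t = t} :=
  sym_of_low (x₀ := ((bits 5279), (bits 1009728))) (fun _ h => Prod.ext (h _ (tr0_rel.mem.2 ⟨_, by decide, rfl⟩)) (h _ (tr0_rel.mem.2 ⟨_, by decide, rfl⟩)))
    (tr0_mem.1.symm ▸ trt_low) (trio_trans S hS)

def sxHA : List ℕ := [nat_lit 0x2098e82907183dae62d49, nat_lit 0x400b58e83e2952d0730ca4, nat_lit 0x2307b9ac5a928398a418820, nat_lit 0x2307b9ac5a928398a418820, nat_lit 0x2307b9ac5a928398a418820, nat_lit 0x2307b9ac5a928398a418820, nat_lit 0x2307b9ac5a928398a418820, nat_lit 0x2307b9ac5a928398a418820]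
def sxHB : List ℕ := [nat_lit 0x138ef32db3882eab15044b070aca81, nat_lit 0x90d3156d46a5801c2ee7a8b192167, nat_lit 0x9d80cba630439b452e4f104a419cd5, nat_lit 0xac6ec026d07b9b45aa4831c8518453, nat_lit 0xa92ec024ad40e1452e4f08a36718f3, nat_lit 0x9900cba4a3535d443e4b31e3680455, nat_lit 0xa92f2050a37b5c95a98839a3680833, nat_lit 0x99014bc8ae4406c52d2f39a3668835]
def sxHS : List ℕ := [nat_lit 0x52066161d7e58d2a5ca176966de5629e49930020461c81440d140f34e30b289, nat_lit 0x4d6625527a267db792562a6085c5e391a75908004d30e40f44928b207183144, nat_lit 0x96849ea5b8e26a07e671d9215135d65596274503ce34c2ca2481c61440c2040, nat_lit 0x9e3a5e49ba228607e675c91a6195975535254503ce34c2ca2481c61440c2040, nat_lit 0x9d6a5e49b5df6958a671d9214d48e88186654503ce34c2ca2481c61440c2040, nat_lit 0x95649ea5b5d571f8266a191d6198e88935274503ce34c2ca2481c61440c2040, nat_lit 0x9d6a644a65d585f81b75c79a6588e88944e54503ce34c2ca2481c61440c2040, nat_lit 0x9564a6a645e06a255e71d6e16588e87d44e74503ce34c2ca2481c61440c2040]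
def sxHCertL0 : Lev := ⟨nat_lit 18, nat_lit 0x3fffffc0000, (.node (nat_lit 30) (.node (nat_lit 24) (.node (nat_lit 21) (.node (nat_lit 19) (.leaf (nat_lit 0xa689e69648e28607de75c6da6585d65544d24503ce34c2ca2481c61440c2040)) (.node (nat_lit 20) (.leaf (nat_lit 0x71b7626a07948d94df5d65689e59266294a110314b28920718200130d3903d1)) (.leaf (nat_lit 0xa1f5e459e8987144db76199aa655606529e330e34818724a2c00420c414f450)))) (.node (nat_lit 22) (.leaf (nat_lit 0x66251c4da5695a79615e87639a47e049e6d80020461c81440d140f34e30b289)) (.node (nat_lit 23) (.leaf (nat_lit 0x6e59179969d4899623560a1f85da524dc69e24b28f41134e3000811c6205103)) (.leaf (nat_lit 0x7a799691795355866889f8e07614a951a71b24b28f41134e3000811c6205103))))) (.node (nat_lit 27) (.node (nat_lit 25) (.leaf (nat_lit 0x69b85f715794a194e2597823a5292662795d10314b28920718200130d3903d1)) (.node (nat_lit 26) (.leaf (nat_lit 0x85e6a27606d4a194df5975634a99a46259dc10314b28920718200130d3903d1)) (.leaf (nat_lit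 0x9a2798919821a5a7139e55128d755f756a1b2c92872060810031054503cc34e)))) (.node (nat_lit 28) (.leaf (nat_lit 0x6234e76655e47de6e95624a085ca1699a75408004d30e40f44928b207183144)) (.node (nat_lit 29) (.leaf (nat_lit 0x9a07949138a19da719a526255a87d57635db2c92872060810031054503cc34e)) (.leaf (nat_lit 0x75369f72051ea669154a78a55976586e88e10c51010801c62092ca40f44d38c)))))) (.node (nat_lit 36) (.node (nat_lit 33) (.node (nat_lit 31) (.leaf (nat_lit 0x4d6625527a267db792562a6085c5e391a75908004d30e40f44928b207183144)) (.node (nat_lit 32) (.leaf (nat_lit 0x6224dc51a5675e94a15a376879b7e09669190020461c81440d140f34e30b289)) (.leaf (nat_lit 0x52066161d7e58d2a5ca176966de5629e49930020461c81440d140f34e30b289)))) (.node (nat_lit 34) (.leaf (nat_lit 0x9226d399482149a7189676695a855f7635de2c92872060810031054503cc34e)) (.node (nat_lit 35) (.leaf (nat_lit 0x6224e151d5525a59dc5e86a36de7e0a649990020461c81440d140f34e30b289)) (.leaf (nat_lit 0x86571e75b4a35165e66589137d59e9a2281a14311044f2ca24c38d0020481c6)))))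 (.node (nat_lit 39) (.node (nat_lit 37) (.leaf (nat_lit 0x6164e9652a1e7e49a756296069d5e36e171408004d30e40f44928b207183144)) (.node (nat_lit 38) (.leaf (nat_lit 0x9e3a5e49ba228607e675c91a6195975535254503ce34c2ca2481c61440c2040)) (.leaf (nat_lit 0x5166524e9a2681b7a58959df69d5e392171808004d30e40f44928b207183144)))) (.node (nat_lit 40) (.leaf (nat_lit 0x96849ea5b8e26a07e671d9215135d65596274503ce34c2ca2481c61440c2040)) (.node (nat_lit 41) (.leaf (nat_lit 0x9126e37a8a587d35178155a269c9e565d86624b28f41134e3000811c6205103)) (.leaf (nat_lit 0x4a39669e4a226a07de71d6e14d45975586694503ce34c2ca2481c61440c2040)))))))⟩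
def sxHCertC0 : LevCert := ⟨sxHCertL0,
    [(nat_lit 32, nat_lit 0), (nat_lit 30, nat_lit 1), (nat_lit 39, nat_lit 2), (nat_lit 37, nat_lit 3), (nat_lit 40, nat_lit 0), (nat_lit 26, nat_lit 1), (nat_lit 21, nat_lit 4), (nat_lit 31, nat_lit 5), (nat_lit 34, nat_lit 7), (nat_lit 24, nat_lit 0), (nat_lit 38, nat_lit 2), (nat_lit 27, nat_lit 6), (nat_lit 36, nat_lit 1), (nat_lit 41, nat_lit 3), (nat_lit 29, nat_lit 0), (nat_lit 35, nat_lit 1), (nat_lit 22, nat_lit 4), (nat_lit 20, nat_lit 1), (nat_lit 33, nat_lit 2), (nat_lit 23, nat_lit 0), (nat_lit 28, nat_lit 1), (nat_lit 19, nat_lit 2), (nat_lit 25, nat_lit 3)],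
    [[nat_lit 0, nat_lit 14, nat_lit 2, nat_lit 2, nat_lit 8, nat_lit 10, nat_lit 6, nat_lit 8, nat_lit 14, nat_lit 6, nat_lit 10, nat_lit 4, nat_lit 0], [nat_lit 2, nat_lit 4, nat_lit 6, nat_lit 10, nat_lit 8, nat_lit 8, nat_lit 4, nat_lit 14, nat_lit 4, nat_lit 10]],
    [nat_lit 0x9d495ca5d4e37d65e18a06957a4658a266d240f4420400c414c38d1881c928b, nat_lit 0x9609e8a637db4de91765859469d56299c8523d04461c838d30b2890010850c4]⟩
def sxHCertL1 : Lev := ⟨nat_lit 19, nat_lit 0x15ffff80000, (.node (nat_lit 29) (.node (nat_lit 24) (.node (nat_lit 21) (.node (nat_lit 20) (.leaf (nat_lit 0xa689e69648e28607de75c6da6585d65544d24503ce34c2ca2481c61440c2040)) (.leaf (nat_lit 0x95b9e3a687a27557d671a5e15199268136123d044b28938d3061c80c4142001))) (.node (nat_lit 22) (.leaf (nat_lit 0xa6395b9e659985462475a79c815a174e27d244f40e30d24a2c20011050c8187)) (.node (nat_lit 23) (.leaf (nat_lit 0x9d8a6695b65569f89e85d91ca235138165d24113c108024a2c72060c414d38c)) (.leaf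 (nat_lit 0x9589e2a5f5166a35d585d81c91b4d9a1e9923d04400421881ce30d0c41492ca))))) (.node (nat_lit 26) (.node (nat_lit 25) (.leaf (nat_lit 0x9609e4a5e7d7763a1b6a199c6535625946123d04461c824a2cc34e143100042)) (.leaf (nat_lit 0xa6895e9db5a155d6a47e29a04d95e371851244f40c34e28b2441431c8180042))) (.node (nat_lit 27) (.leaf (nat_lit 0xa559db95e7d7616a2451999385c8228da7524503c81c62ca24e34c040083144)) (.node (nat_lit 28) (.leaf (nat_lit 0x95fa589d98a45de6d4a234d672181599d6923d140620704200928b30e343144)) (.leaf (nat_lit 0xa639e095fa2661b79565389471a5979217524503ce34c18720928b081005103)))))) (.node (nat_lit 34) (.node (nat_lit 31) (.node (nat_lit 30) (.leaf (nat_lit 0xa5c9d696369b6647974d8a147e285d9a05524503c510338c34b24a040086207)) (.leaf (nat_lit 0x9dca5895985f9225536de5265e369d8285924113c50c408100818724b28c34e))) (.node (nat_lit 32) (.leaf (nat_lit 0x9e1956a577587d94e85628e099e71a5246d240f44510334e30204020718b24a)) (.node (nat_lit 33) (.leaf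 (nat_lit 0x962a5c9e155459365a5e376899b81f61e9123d140718814310204038d30928b)) (.leaf (nat_lit 0x9609e8a637db4de91765859469d56299c8523d04461c838d30b2890010850c4))))) (.node (nat_lit 36) (.node (nat_lit 35) (.leaf (nat_lit 0x966a609e26d35d865f8d656885d7a451c6923d140928b1c818008134c385103)) (.leaf (nat_lit 0x9d495ca5d4e37d65e18a06957a4658a266d240f4420400c414c38d1881c928b))) (.node (nat_lit 38) (.leaf (nat_lit 0xa569549d35da6e17597a4626562a237207d244f40d38c0810031052ca2461c8)) (.node (nat_lit 40) (.leaf (nat_lit 0x9e1953a5976879759899b52455f71a8e089240f44510300108c38d2c92881c6)) (.leaf (nat_lit 0x9d3a6295565d91a86099b7dea176147235924113c00421c62050c42ca24e30d)))))))⟩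
def sxHCertC1 : LevCert := ⟨sxHCertL1,
    [(nat_lit 35, nat_lit 0), (nat_lit 33, nat_lit 1), (nat_lit 34, nat_lit 0), (nat_lit 36, nat_lit 1), (nat_lit 30, nat_lit 0), (nat_lit 29, nat_lit 0), (nat_lit 22, nat_lit 1), (nat_lit 24, nat_lit 0), (nat_lit 31, nat_lit 1), (nat_lit 25, nat_lit 0), (nat_lit 32, nat_lit 1), (nat_lit 27, nat_lit 1), (nat_lit 28, nat_lit 1), (nat_lit 23, nat_lit 0), (nat_lit 40, nat_lit 1), (nat_lit 38, nat_lit 0), (nat_lit 20, nat_lit 1), (nat_lit 21, nat_lit 0), (nat_lit 26, nat_lit 1)],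
    [[nat_lit 2, nat_lit 0, nat_lit 2, nat_lit 2, nat_lit 0, nat_lit 0, nat_lit 0, nat_lit 0], [nat_lit 2, nat_lit 4, nat_lit 2, nat_lit 2, nat_lit 2, nat_lit 4, nat_lit 2, nat_lit 2, nat_lit 2, nat_lit 2, nat_lit 4, nat_lit 4], [nat_lit 4, nat_lit 6, nat_lit 4, nat_lit 6, nat_lit 6, nat_lit 4, nat_lit 4, nat_lit 4, nat_lit 4, nat_lit 4]],
    [nat_lit 0xa5a9579d671e8269287d58e261985d6d44d244f40414338d3092ca187201080, nat_lit 0x960a5d9dc5566d78da91e8666147e2a194d23d14062070c414e34c2c9281002, nat_lit 0xa669689d76e07627d685c8da51891e5594d244f40a24b30e3472061050c0042]⟩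
def sxHCertL2 : Lev := ⟨nat_lit 20, nat_lit 0x3100000, (.node (nat_lit 24) (.leaf (nat_lit 0xa689e69648e28607de75c6da6585d65544d24503ce34c2ca2481c61440c2040)) (.node (nat_lit 25) (.leaf (nat_lit 0x960a5d9dc5566d78da91e8666147e2a194d23d14062070c414e34c2c9281002)) (.leaf (nat_lit 0xa669689d76e07627d685c8da51891e5594d244f40a24b30e3472061050c0042))))⟩
def sxHCertC2 : LevCert := ⟨sxHCertL2,
    [(nat_lit 24, nat_lit 1), (nat_lit 25, nat_lit 2)],
    [[nat_lit 4, nat_lit 4, nat_lit 2, nat_lit 4, nat_lit 0, nat_lit 4, nat_lit 0], [nat_lit 4, nat_lit 4, nat_lit 4, nat_lit 2, nat_lit 4, nat_lit 6, nat_lit 4, nat_lit 6]],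
    [nat_lit 0x957a5a9dda1b8a691c7d58606588d67944d23d140c38d14310928b1881c2040, nat_lit 0xa6095e9e68976968db85d91c6197d5a144d244f4072062c928d38c0c4141080]⟩
def sxHCertL3 : Lev := ⟨nat_lit 21, nat_lit 0x15ffce00000, (.node (nat_lit 31) (.node (nat_lit 27) (.node (nat_lit 23) (.node (nat_lit 22) (.leaf (nat_lit 0xa689e69648e28607de75c6da6585d65544d24503ce34c2ca2481c61440c2040)) (.leaf (nat_lit 0xa6095e9e68976968db85d91c6197d5a144d244f4072062c928d38c0c4141080))) (.node (nat_lit 26) (.leaf (nat_lit 0x95f9e8a5789d7a17166e68e46195606944d23d044818730e3441432ca241080)) (.leaf (nat_lit 0x9669dca5a6e3816a2189f75561991e5d44d23d044a24b1440ce30d1c8181080)))) (.node (nat_lit 29) (.node (nat_lit 28) (.leaf (nat_lit 0x9e895fa6059a9217226e655e6588d77544d240f44d30e1872040c52c9282040)) (.leaf (nat_lit 0x957a5a9dda1b8a691c7d58606588d67944d23d140c38d14310928b1881c2040))) (.node (nat_lit 30) (.leaf (nat_lit 0x95e9dda619287d78da5607226196e65944d23d044a24b1440ce30d1c8181080))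 (.leaf (nat_lit 0x9e3960a5f5e16da75591e8a6658a167144d240f44d30e1872040c52c9282040))))) (.node (nat_lit 35) (.node (nat_lit 33) (.node (nat_lit 32) (.leaf (nat_lit 0xa579e49665a076255b85a79c658a237d44d24503ce34c2ca2481c61440c2040)) (.leaf (nat_lit 0xa569db95e5df7158a46a199d6588e88144d24503ce34c2ca2481c61440c2040))) (.node (nat_lit 34) (.leaf (nat_lit 0x956a619dc8e455e6dd82269f658a179944d23d140c38d14310928b1881c2040)) (.leaf (nat_lit 0xa639de95ba1569f82671d9216585978944d24503ce34c2ca2481c61440c2040)))) (.node (nat_lit 38) (.node (nat_lit 36) (.leaf (nat_lit 0x9e2a6195c55e8e46da5d67686197e09944d24113c61c80c510a24b30d381080)) (.leaf (nat_lit 0x9d6962a55a1d79c85f99b8246585e36944d240f44d30e1872040c52c9282040))) (.node (nat_lit 40) (.leaf (nat_lit 0x9daa559608689965e26e47de61975c8d44d24113c31051881cc34e2892c1080)) (.leaf (nat_lit 0xa559649db7e37685e671a7a16198a05944d244f4072062c928d38c0c4141080))))))⟩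
def sxHCertC3 : LevCert := ⟨sxHCertL3,
    [(nat_lit 28, nat_lit 0), (nat_lit 22, nat_lit 1), (nat_lit 30, nat_lit 0), (nat_lit 26, nat_lit 1), (nat_lit 32, nat_lit 1), (nat_lit 38, nat_lit 1), (nat_lit 33, nat_lit 1), (nat_lit 40, nat_lit 1), (nat_lit 36, nat_lit 1), (nat_lit 27, nat_lit 0), (nat_lit 29, nat_lit 1), (nat_lit 35, nat_lit 0), (nat_lit 31, nat_lit 0), (nat_lit 34, nat_lit 0), (nat_lit 23, nat_lit 0)],
    [[nat_lit 0, nat_lit 2, nat_lit 2, nat_lit 2, nat_lit 0, nat_lit 0, nat_lit 2, nat_lit 0, nat_lit 2], [nat_lit 2, nat_lit 2, nat_lit 4, nat_lit 4, nat_lit 2, nat_lit 4, nat_lit 2, nat_lit 4]],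
    [nat_lit 0xa569619da8df9a089d79b7246195e85544d244f40e30d1031461c824b281080, nat_lit 0x9db961a5a9a08df89ca1675765891e5544d240f44928b0c414718838d302040]⟩
def sxHCertL4 : Lev := ⟨nat_lit 22, nat_lit 0x10078400000, (.node (nat_lit 29) (.node (nat_lit 27) (.leaf (nat_lit 0xa689e69648e28607de75c6da6585d65544d24503ce34c2ca2481c61440c2040)) (.node (nat_lit 28) (.leaf (nat_lit 0x9dea639579a285f82871d59a61991b5544d24113c92ca34c388187143101080)) (.leaf (nat_lit 0x9db961a5a9a08df89ca1675765891e5544d240f44928b0c414718838d302040)))) (.node (nat_lit 30) (.leaf (nat_lit 0x95c9e6a648608e27db5a879761969d5544d23d04450c428b24720638c341080)) (.node (nat_lit 40) (.leaf (nat_lit 0x95da639d785f9a28166dea2465869c5544d23d140510330d38620724a2c2040)) (.leaf (nat_lit 0xa569619da8df9a089d79b7246195e85544d244f40e30d1031461c824b281080)))))⟩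
def sxHCertC4 : LevCert := ⟨sxHCertL4,
    [(nat_lit 40, nat_lit 0), (nat_lit 28, nat_lit 1), (nat_lit 29, nat_lit 1), (nat_lit 27, nat_lit 0), (nat_lit 30, nat_lit 1)],
    [],
    []⟩
def sxHCert : List LevCert := [sxHCertC0, sxHCertC1, sxHCertC2, sxHCertC3, sxHCertC4]
def sxHCertL : List Lev := [sxHCertL0, sxHCertL1, sxHCertL2, sxHCertL3, sxHCertL4]
def sxHCertAL0 : Lev := ⟨nat_lit 0, nat_lit 0x3ffff, (.node (nat_lit 9) (.node (nat_lit 4) (.node (nat_lit 2) (.node (nat_lit 1) (.leaf (nat_lit 0x2307b9ac5a928398a418820)) (.leaf (nat_lit 0x1063c5f0190a952d8e68402))) (.node (nat_lit 3) (.leaf (nat_lit 0xe6441f14a963215cc68022)) (.leaf (nat_lit 0x18d7296983e232904101cc8)))) (.node (nat_lit 6) (.node (nat_lit 5) (.leaf (nat_lit 0x2117a92b194863a0400b98d)) (.leaf (nat_lit 0xa32422f5a92c734020a0e6))) (.node (nat_lit 7) (.leaf (nat_lit 0xc7439ac214620822f82d2a)) (.node (nat_lit 8) (.leaf (nat_lit 0x832ad4941cc20058d741f1)) (.leaf (nat_lit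 0x12b53e116b980104e641483)))))) (.node (nat_lit 13) (.node (nat_lit 11) (.node (nat_lit 10) (.leaf (nat_lit 0x16951d0610403216307b1ae)) (.leaf (nat_lit 0x1ae620e6100308bd2a58ca4))) (.node (nat_lit 12) (.leaf (nat_lit 0x642b1cd004517c12a59907)) (.leaf (nat_lit 0x6520440399095aa0f8b5cc)))) (.node (nat_lit 15) (.node (nat_lit 14) (.leaf (nat_lit 0x23078402635c41954b4a0e6)) (.leaf (nat_lit 0x1063804183e2e6b0832a54b))) (.node (nat_lit 16) (.leaf (nat_lit 0x4102d49639a831df180c85)) (.node (nat_lit 17) (.leaf (nat_lit 0x400b58e83e2952d0730ca4)) (.leaf (nat_lit 0x2098e82907183dae62d49)))))))⟩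
def sxHCertAC0 : LevCert := ⟨sxHCertAL0,
    [(nat_lit 17, nat_lit 0), (nat_lit 16, nat_lit 1), (nat_lit 8, nat_lit 0), (nat_lit 9, nat_lit 1), (nat_lit 7, nat_lit 0), (nat_lit 11, nat_lit 1), (nat_lit 12, nat_lit 0), (nat_lit 5, nat_lit 1), (nat_lit 13, nat_lit 0), (nat_lit 4, nat_lit 1), (nat_lit 2, nat_lit 0), (nat_lit 6, nat_lit 1), (nat_lit 3, nat_lit 0), (nat_lit 1, nat_lit 1), (nat_lit 14, nat_lit 1), (nat_lit 10, nat_lit 0), (nat_lit 15, nat_lit 0)],
    [[nat_lit 2, nat_lit 0, nat_lit 10, nat_lit 2, nat_lit 2, nat_lit 14, nat_lit 14], [nat_lit 2, nat_lit 4, nat_lit 2, nat_lit 8]],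
    [nat_lit 0x1cd6256a8be0428cc740440, nat_lit 0x1cc694838c1eb4a90730820]⟩
def sxHCertAL1 : Lev := ⟨nat_lit 3, nat_lit 0x3fff8, (.node (nat_lit 10) (.node (nat_lit 6) (.node (nat_lit 4) (.leaf (nat_lit 0x2307b9ac5a928398a418820)) (.node (nat_lit 5) (.leaf (nat_lit 0x1ae62d2a83e2641c8328820)) (.leaf (nat_lit 0x12b5422f731a73206520820)))) (.node (nat_lit 8) (.node (nat_lit 7) (.leaf (nat_lit 0x1cd6256a8be0428cc740440)) (.leaf (nat_lit 0x2117b5cc4a9651910638440))) (.node (nat_lit 9) (.leaf (nat_lit 0x1695460f6b1c3214e830440)) (.leaf (nat_lit 0x1f08a92b2906e634e830440))))) (.node (nat_lit 14) (.node (nat_lit 12) (.node (nat_lit 11) (.leaf (nat_lit 0x1f1831cd28c8952cc838820)) (.leaf (nat_lit 0x1495be11190ad6390730820))) (.node (nat_lit 13) (.leaf (nat_lit 0x1cc694838c1eb4a90730820)) (.leaf (nat_lit 0x16a490656b9908bcc838820)))) (.node (nat_lit 16) (.node (nat_lit 15) (.leaf (nat_lit 0x20f88ca44ad4e6b0e640820)) (.leaf (nat_lit 0xa41be30735874194958440)))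 (.node (nat_lit 17) (.leaf (nat_lit 0xa3220e6731b17c16950820)) (.leaf (nat_lit 0x652292b845e63a18d70440))))))⟩
def sxHCertAC1 : LevCert := ⟨sxHCertAL1,
    [(nat_lit 6, nat_lit 0), (nat_lit 12, nat_lit 1), (nat_lit 5, nat_lit 0), (nat_lit 15, nat_lit 0), (nat_lit 16, nat_lit 1), (nat_lit 7, nat_lit 0), (nat_lit 14, nat_lit 1), (nat_lit 10, nat_lit 0), (nat_lit 9, nat_lit 1), (nat_lit 4, nat_lit 0), (nat_lit 17, nat_lit 0), (nat_lit 8, nat_lit 0), (nat_lit 13, nat_lit 1), (nat_lit 11, nat_lit 0)],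
    [[nat_lit 2, nat_lit 0, nat_lit 0, nat_lit 2, nat_lit 2], [nat_lit 2, nat_lit 4]],
    [nat_lit 0xc74254b635cf844a418820, nat_lit 0x12a598e87359183c8518440]⟩
def sxHCertAL2 : Lev := ⟨nat_lit 6, nat_lit 0x2db40, (.node (nat_lit 12) (.node (nat_lit 9) (.node (nat_lit 8) (.leaf (nat_lit 0x2307b9ac5a928398a418820)) (.leaf (nat_lit 0x1cd6460f4a9663a08518440))) (.node (nat_lit 11) (.leaf (nat_lit 0x1f08b1ae41ccb5248518440)) (.leaf (nat_lit 0x18d73e1131d0952ca418820)))) (.node (nat_lit 15) (.node (nat_lit 14) (.leaf (nat_lit 0x16a4a0e68c1ee6b0a418820)) (.leaf (nat_lit 0x12a598e87359183c8518440))) (.node (nat_lit 17) (.leaf (nat_lit 0x10732d497c22c6b88518440)) (.leaf (nat_lit 0xc74254b635cf844a418820)))))⟩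
def sxHCertAC2 : LevCert := ⟨sxHCertAL2,
    [(nat_lit 17, nat_lit 0), (nat_lit 14, nat_lit 1), (nat_lit 8, nat_lit 1), (nat_lit 9, nat_lit 0), (nat_lit 11, nat_lit 1), (nat_lit 15, nat_lit 0), (nat_lit 12, nat_lit 1)],
    [],
    []⟩
def sxHCertA : List LevCert := [sxHCertAC0, sxHCertAC1, sxHCertAC2]
def sxHCertAL : List Lev := [sxHCertAL0, sxHCertAL1, sxHCertAL2]
def sxN : List ℕ := [nat_lit 0x9d80cba630439b452e4f104a419cd5, nat_lit 0xac6ec026d07b9b45aa4831c8518453, nat_lit 0xa92ec024ad40e1452e4f08a36718f3, nat_lit 0x9900cba4a3535d443e4b31e3680455, nat_lit 0xa92f2050a37b5c95a98839a3680833, nat_lit 0x99014bc8ae4406c52d2f39a3668835]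
def sxNCL0 : Lev := ⟨nat_lit 0, nat_lit 0xa80001, (.node (nat_lit 21) (.node (nat_lit 19) (.leaf (nat_lit 0xbdab49ca307b9ac5a928398a418820)) (.leaf (nat_lit 0xac6ec026d07b9b45aa4831c8518453))) (.node (nat_lit 23) (.leaf (nat_lit 0x9d80cba630439b452e4f104a419cd5)) (.leaf (nat_lit 0x4674acad0439ac52d2f08885198f7))))⟩
def sxNCC0 : LevCert := ⟨sxNCL0,
    [(nat_lit 21, nat_lit 0), (nat_lit 19, nat_lit 1), (nat_lit 23, nat_lit 1)],
    [[nat_lit 6, nat_lit 0, nat_lit 8, nat_lit 2, nat_lit 0, nat_lit 2, nat_lit 4, nat_lit 10, nat_lit 6, nat_lit 2, nat_lit 10, nat_lit 10, nat_lit 0, nat_lit 6, nat_lit 4, nat_lit 0], [nat_lit 4, nat_lit 2, nat_lit 12, nat_lit 4], [nat_lit 4, nat_lit 10, nat_lit 8, nat_lit 10, nat_lit 10, nat_lit 4, nat_lit 12, nat_lit 6, nat_lit 4, nat_lit 6, nat_lit 12, nat_lit 8, nat_lit 6, nat_lit 6], [nat_lit 6, nat_lit 8, nat_lit 14, nat_lit 8, nat_lit 6, nat_lit 16, nat_lit 16, nat_lit 12, nat_lit 6, nat_lit 10, nat_lit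 12, nat_lit 14, nat_lit 12, nat_lit 8, nat_lit 16, nat_lit 12, nat_lit 14, nat_lit 14, nat_lit 10, nat_lit 10]],
    [nat_lit 0xb96b29d08e5c0697a18a39ad168820, nat_lit 0xb92ac9a4ae7c0745aa481063669cc0, nat_lit 0xb92b49c8a35b5cc7a12a08a36818e0, nat_lit 0xbc6ac9a6c3435d452e4f3988580820]⟩
def sxNCL1 : Lev := ⟨nat_lit 1, nat_lit 198, (.node (nat_lit 6) (.node (nat_lit 2) (.leaf (nat_lit 0xbdab49ca307b9ac5a928398a418820)) (.leaf (nat_lit 0xbdaac9a62d58e147a24a31ca470440))) (.node (nat_lit 7) (.leaf (nat_lit 0xb92ac9a4ae7c0745aa481063669cc0)) (.leaf (nat_lit 0xb92b49c8a35b5cc7a12a08a36818e0))))⟩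
def sxNCC1 : LevCert := ⟨sxNCL1,
    [(nat_lit 6, nat_lit 1), (nat_lit 7, nat_lit 2), (nat_lit 2, nat_lit 2)],
    [[nat_lit 2, nat_lit 4, nat_lit 6, nat_lit 6, nat_lit 2, nat_lit 4, nat_lit 6], [nat_lit 4, nat_lit 2, nat_lit 8, nat_lit 8, nat_lit 4, nat_lit 4, nat_lit 4]],
    [nat_lit 0xbc6ac9a6c3435d452e4f3988580820, nat_lit 0xb96b29d08e5c0697a18a39ad168820]⟩
def sxNCL2 : Lev := ⟨nat_lit 3, nat_lit 0x16008, (.node (nat_lit 14) (.node (nat_lit 13) (.leaf (nat_lit 0xbdab49ca307b9ac5a928398a418820)) (.leaf (nat_lit 0xb96b29d08e5c0697a18a39ad168820))) (.node (nat_lit 16) (.leaf (nat_lit 0xb92a99b0ad50e1243e8b39a3670820)) (.leaf (nat_lit 0xbc6ac9a6c3435d452e4f3988580820))))⟩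
def sxNCC2 : LevCert := ⟨sxNCL2,
    [(nat_lit 16, nat_lit 0), (nat_lit 13, nat_lit 1), (nat_lit 14, nat_lit 1)],
    [],
    []⟩
def sxNC : List LevCert := [sxNCC0, sxNCC1, sxNCC2]
def sxNCL : List Lev := [sxNCL0, sxNCL1, sxNCL2]

theorem sxH_ss : ssOK 6 64 42 sxHCert sxHS = true := by decide +kernel

theorem sx_normal : ∃ N : Subgroup (stabilizer M24 (fam sx0)), N.Normal ∧ Nat.card N = 64 ∧
    ∀ x ∈ N, x * x = 1 := by
  have hb := exists_pk_of_chkGens cFam sx0_rel (gens := sxHB) (by decide +kernel)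
  have ha : ∀ P ∈ sxHA, ∃ g, (finEnc 18 5 32 rfl (by decide)).pk g = P := fun P hP =>
    Enc.exists_pk_of_valid _ (allL_iff.1 (by decide +kernel) P hP)
  obtain ⟨φ, h1, h2⟩ := exists_hom_of_cert (E := finEnc 18 5 32 rfl (by decide)) (F := GE) (N := 42)
    (k := 6) (M := 64) rfl rfl (by decide) (incl _) (incl_injective _) ha hb (cs := sxHS)
    (by decide +kernel) sxH_ss (by decide +kernel)
    (by rw [card_stab_sextet sx0_mem]; decide +kernel)
  have h3 : 2160 ≤ Nat.card φ.range := by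
    rw [h1]
    exact le_trans (by decide +kernel) (Enc.preChain_of_preOK (cs := sxHCertA)
      (fun P hP => let ⟨g, e⟩ := ha P hP; ⟨g, Subgroup.subset_closure (show _ ∈ sxHA from e ▸ hP), e⟩)
      (by decide +kernel)).le_card
  have h4 := φ.ker.index_mul_card
  rw [Subgroup.index_ker, card_stab_sextet sx0_mem] at h4
  refine ⟨φ.ker, inferInstance, ker_sq φ (by by_contra hc; nlinarith) (gens := sxN) (cert := sxNC)
    (fun P hP => ?_) (by decide +kernel) (by decide +kernel) (by decide +kernel)⟩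
  obtain ⟨i, e1, e2⟩ := (by decide +kernel : ∀ P ∈ sxN, ∃ i < 8, sxHA[i]? = some (idP 5 18) ∧
    sxHB[i]? = some P) P hP |>.imp fun _ h => h.2
  obtain ⟨g, rfl⟩ := hb P (List.mem_of_getElem? e2)
  exact ⟨g, h2 i g 1 (by rw [e1, Enc.pk_one]) e2, rfl⟩

def trHA : List ℕ := [nat_lit 0x9a832674510, nat_lit 0x98a57463120, nat_lit 0xa9876543210, nat_lit 0xa9876543210, nat_lit 0xa9876543210, nat_lit 0xa9876543210, nat_lit 0xa9876543210, nat_lit 0xa9876543210]
def trHB : List ℕ := [nat_lit 0x9c96d7d517896c3a28d0025c4130e1, nat_lit 0x5ccd119c44801960d1b2aa9d779528, nat_lit 0x2a6956c0d242e60712cf146ea09c6c, nat_lit 0x4950f9ca30a39a7586f561ac320142, nat_lit 0xabee5835d3b4644301091ae8c3844a, nat_lit 0x451369ca302b9aa5b2b7099e010ce4, nat_lit 0x4950f8ae6ea40c191ef5536c201183, nat_lit 0xa20b79ca304b9a4581f619aac3844a]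
def trHS : List ℕ := [nat_lit 0x1e75661a81389c42139f5516cb5193cd5d23092880c2187105040, nat_lit 0x1679170e48d3db2d784c7d876055989a4144c920a1471060c1080, nat_lit 0x1051f8186d175359e2d93e168d72254c48e5ca2481c61440c2040, nat_lit 0x1441369e75c6df65849632281746138f2d534a2481c61440c2040, nat_lit 0x206a241b6197a171d3d12d350e59f5d230d54a2481c61440c2040, nat_lit 0x137d485e75c6d06585565e088c45a2cd3923ca2481c61440c2040, nat_lit 0x1441369c59e65f6d131d4a281562134b3d738a2481c61440c2040, nat_lit 0x1f4d089e75c6d46583d62da84e4605d230d54a2481c61440c2040]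
def trHCertL0 : Lev := ⟨nat_lit 11, nat_lit 0x7fffff800, (.node (nat_lit 23) (.node (nat_lit 17) (.node (nat_lit 14) (.node (nat_lit 12) (.leaf (nat_lit 0x228607de75c6da6585d65544d24503ce34c2ca2481c61440c2040)) (.node (nat_lit 13) (.leaf (nat_lit 0x1a81f85c59b79365d35855488c4503d738b48a2481050831c6040)) (.leaf (nat_lit 0x1441369e75c6df65849632281746138f2d534a2481c61440c2040)))) (.node (nat_lit 15) (.leaf (nat_lit 0x1441369c59e65f6d131d4a281562134b3d738a2481c61440c2040)) (.node (nat_lit 16) (.leaf (nat_lit 0x137d485e75c6d06585565e088c45a2cd3923ca2481c61440c2040)) (.leaf (nat_lit 0xe48c5db45d58d65e69c7d53d360b89086050824a0c11c5184080))))) (.node (nat_lit 20) (.node (nat_lit 18) (.leaf (nat_lit 0x116d665238c5de54f68d41d6222dc8217d350920a1471060c1080)) (.node (nat_lit 19) (.leaf (nat_lit 0x1e75661a81389c42139f5516cb5193cd5d23092880c2187105040)) (.leaf (nat_lit 0x123555dc59978f6dd6914ce2d460c7e242180824a1c6083105040)))) (.node (nat_lit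 21) (.leaf (nat_lit 0xe30f4937e241569462144b35c81765d59e6c82891051870c2040)) (.node (nat_lit 22) (.leaf (nat_lit 0x206a241b6197a171d3d12d350e59f5d230d54a2481c61440c2040)) (.leaf (nat_lit 0x1961c4573d549d30e4cb89e6d03567d481a84920a1471060c1080)))))) (.node (nat_lit 29) (.node (nat_lit 26) (.node (nat_lit 24) (.leaf (nat_lit 0x1051f8186d175359e2d93e168d72254c48e5ca2481c61440c2040)) (.node (nat_lit 25) (.leaf (nat_lit 0x1961c44c35255d5cb50e81e6df3d64138a168920a1471060c1080)) (.leaf (nat_lit 0x1679170e48d3db2d784c7d876055989a4144c920a1471060c1080)))) (.node (nat_lit 27) (.leaf (nat_lit 0xf5d549b45d58b65e7dc68c3a060d52141388824a0c11c5184080)) (.node (nat_lit 28) (.leaf (nat_lit 0x1865d6cd30e2dc3d551281645f5de4138a168920a1471060c1080)) (.leaf (nat_lit 0x116d664f5cb39e3528954dd61a31c8605107c920a1471060c1080))))) (.node (nat_lit 32) (.node (nat_lit 30) (.leaf (nat_lit 0x1f6944cd2d73e230e75262181655079c6516ca2091831c2101140)) (.node (nat_lit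 31) (.leaf (nat_lit 0x1d71878b54f35938c41769159349b51f86280920a1471060c1080)) (.leaf (nat_lit 0xc34e2d67996d275189850f5507176938217c824a0c11c5184080)))) (.node (nat_lit 33) (.leaf (nat_lit 0x173cb39b45d59565e89c50d49060c6938217c824a0c11c5184080)) (.node (nat_lit 34) (.leaf (nat_lit 0xd2d23a25207d741a7136153db84c7997564482891010c6087140)) (.leaf (nat_lit 0xb55731e59844f71b51989236174e7e04d068824a0c11c5184080)))))))⟩
def trHCertC0 : LevCert := ⟨trHCertL0,
    [(nat_lit 18, nat_lit 0), (nat_lit 25, nat_lit 1), (nat_lit 23, nat_lit 2), (nat_lit 13, nat_lit 3), (nat_lit 21, nat_lit 4), (nat_lit 15, nat_lit 5), (nat_lit 14, nat_lit 6), (nat_lit 12, nat_lit 0), (nat_lit 29, nat_lit 1), (nat_lit 16, nat_lit 0), (nat_lit 22, nat_lit 2), (nat_lit 28, nat_lit 4), (nat_lit 27, nat_lit 6), (nat_lit 24, nat_lit 1), (nat_lit 17, nat_lit 1), (nat_lit 30, nat_lit 1), (nat_lit 33, nat_lit 0), (nat_lit 19, nat_lit 1), (nat_lit 34, nat_lit 2), (nat_lit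 31, nat_lit 4), (nat_lit 26, nat_lit 5), (nat_lit 32, nat_lit 7), (nat_lit 20, nat_lit 1)],
    [[nat_lit 0, nat_lit 2, nat_lit 14, nat_lit 2, nat_lit 2], [nat_lit 8, nat_lit 2, nat_lit 14, nat_lit 6, nat_lit 12, nat_lit 16, nat_lit 14, nat_lit 6, nat_lit 2]],
    [nat_lit 0x1959b4614144dd6a03625de7157d848f30e2c92880870c6101140, nat_lit 0x1f4da41671876045e5db3a250f66130d5522ca2481050831c6040]⟩
def trHCertL1 : Lev := ⟨nat_lit 12, nat_lit 0xa4f000, (.node (nat_lit 15) (.node (nat_lit 13) (.leaf (nat_lit 0x228607de75c6da6585d65544d24503ce34c2ca2481c61440c2040)) (.node (nat_lit 14) (.leaf (nat_lit 0x1959b4614144dd6a03625de7157d848f30e2c92880870c6101140)) (.leaf (nat_lit 0x1171d62252041b7e13533d979269638c5d52c9288183044087140)))) (.node (nat_lit 21) (.node (nat_lit 18) (.leaf (nat_lit 0x1f4da41671876045e5db3a250f66130d5522ca2481050831c6040)) (.leaf (nat_lit 0x1052085b61e71a6565dd35f88c45349538f2ca2480c2187105040))) (.node (nat_lit 23)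 (.leaf (nat_lit 0x1d65c46282151841339a31678d7db5d53d22c92881411821c3100)) (.leaf (nat_lit 0x1a8937d661e71075b31936151746055238f2ca2480421071850c0)))))⟩
def trHCertC1 : LevCert := ⟨trHCertL1,
    [(nat_lit 13, nat_lit 0), (nat_lit 15, nat_lit 1), (nat_lit 23, nat_lit 0), (nat_lit 14, nat_lit 1), (nat_lit 18, nat_lit 1), (nat_lit 21, nat_lit 0)],
    [[nat_lit 2, nat_lit 2, nat_lit 0, nat_lit 0, nat_lit 0], [nat_lit 4, nat_lit 2, nat_lit 2]],
    [nat_lit 0x1865e4508147d64e255a3dd6ce85c5cd48c2c92881810850c41c0, nat_lit 0x207d441b79662171d49155389765a38f34c2ca2480460c41421c0]⟩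
def trHCertL2 : Lev := ⟨nat_lit 16, nat_lit 0x7ff5b0000, (.node (nat_lit 27) (.node (nat_lit 22) (.node (nat_lit 19) (.node (nat_lit 17) (.leaf (nat_lit 0x228607de75c6da6585d65544d24503ce34c2ca2481c61440c2040)) (.leaf (nat_lit 0x1e5987214e269981455f3db74e4115cd48c2c92881810850c41c0))) (.node (nat_lit 20) (.leaf (nat_lit 0x2089a7d66de66161d39149440d7135573cc2ca2481c1102143180)) (.leaf (nat_lit 0x2051f4d675b72161e3d935089745a39254c2ca2480461030851c0)))) (.node (nat_lit 25) (.node (nat_lit 24) (.leaf (nat_lit 0x1871b45a85f5168933903dd79581935748c2c92881c10c5084180)) (.leaf (nat_lit 0x1d71b5a27e18116905533d878e5195cd48c2c92881810850c41c0))) (.node (nat_lit 26) (.leaf (nat_lit 0x1d6167136947d14204a155b65789e38f34c2c92880460c41421c0)) (.leaf (nat_lit 0x136a285d61979045b49c56051759f38f34c2ca2480460c41421c0))))) (.node (nat_lit 31) (.node (nat_lit 29) (.node (nat_lit 28) (.leaf (nat_lit 0x1d71b65a5134118a056139e60f7d648d5cc2c9288187083144040))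 (.leaf (nat_lit 0x1e61645a7d04d98a036139d71251b3d55cc2c9288187144083040))) (.node (nat_lit 30) (.leaf (nat_lit 0x1e45d71f41a8995203a13db6154d635748c2c92881c10c5084180)) (.leaf (nat_lit 0x1865e4508147d64e255a3dd6ce85c5cd48c2c92881810850c41c0)))) (.node (nat_lit 33) (.node (nat_lit 32) (.leaf (nat_lit 0x207d441b79662171d49155389765a38f34c2ca2480460c41421c0)) (.leaf (nat_lit 0x224d085c79d45a6d83d65e07cd65455238c2ca2480471020c5180))) (.node (nat_lit 34) (.leaf (nat_lit 0x144136986d175f59e5d95628127213ce34c2ca2481c61440c2040)) (.leaf (nat_lit 0x1086051171661375e3595df88f6da49538c2ca2481870c2105040))))))⟩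
def trHCertC2 : LevCert := ⟨trHCertL2,
    [(nat_lit 30, nat_lit 0), (nat_lit 31, nat_lit 1), (nat_lit 32, nat_lit 0), (nat_lit 29, nat_lit 1), (nat_lit 27, nat_lit 0), (nat_lit 33, nat_lit 1), (nat_lit 34, nat_lit 1), (nat_lit 20, nat_lit 0), (nat_lit 24, nat_lit 1), (nat_lit 19, nat_lit 0), (nat_lit 17, nat_lit 0), (nat_lit 26, nat_lit 1), (nat_lit 28, nat_lit 0), (nat_lit 25, nat_lit 0), (nat_lit 22, nat_lit 1)],
    [[nat_lit 2, nat_lit 2, nat_lit 0, nat_lit 2, nat_lit 2, nat_lit 0], [nat_lit 2, nat_lit 4, nat_lit 2, nat_lit 2, nat_lit 2]],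
    [nat_lit 0x217d489675e66061b3dc5da4cd45055238c2ca2480471020c5180, nat_lit 0x2089a51b59d46171e3993df4d561035748c2ca2481c10c5084180]⟩
def trHCertL3 : Lev := ⟨nat_lit 13, nat_lit 0xa4e000, (.node (nat_lit 18) (.node (nat_lit 14) (.leaf (nat_lit 0x228607de75c6da6585d65544d24503ce34c2ca2481c61440c2040)) (.node (nat_lit 15) (.leaf (nat_lit 0x1f89a85c7566146d955e3e04ce4505cd48c2ca2481810850c41c0)) (.leaf (nat_lit 0x2089a51b59d46171e3993df4d561035748c2ca2481c10c5084180)))) (.node (nat_lit 21) (.leaf (nat_lit 0x217d489675e66061b3dc5da4cd45055238c2ca2480471020c5180)) (.node (nat_lit 23) (.leaf (nat_lit 0x1a8217d165662275b5dc3544cf79048e54c2ca2481c6083105040)) (.leaf (nat_lit 0x2251f81959b71a79135d3a14d26103d55cc2ca248187144083040)))))⟩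
def trHCertC3 : LevCert := ⟨trHCertL3,
    [(nat_lit 18, nat_lit 0), (nat_lit 15, nat_lit 1), (nat_lit 14, nat_lit 0), (nat_lit 23, nat_lit 0), (nat_lit 21, nat_lit 1)],
    [[nat_lit 2, nat_lit 2, nat_lit 2, nat_lit 0, nat_lit 0, nat_lit 2, nat_lit 0, nat_lit 2, nat_lit 0], [nat_lit 4, nat_lit 4, nat_lit 2, nat_lit 4, nat_lit 4, nat_lit 4]],
    [nat_lit 0x1486069971d45f7964985624d76d038f34c2ca2480460c41421c0, nat_lit 0x1f86089845b71459e3d955a4ce7505d234c2ca2480461420c41c0]⟩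
def trHCertL4 : Lev := ⟨nat_lit 14, nat_lit 0x84c000, (.node (nat_lit 18) (.node (nat_lit 15) (.leaf (nat_lit 0x228607de75c6da6585d65544d24503ce34c2ca2481c61440c2040)) (.leaf (nat_lit 0x1486069971d45f7964985624d76d038f34c2ca2480460c41421c0))) (.node (nat_lit 23) (.leaf (nat_lit 0x1f86089845b71459e3d955a4ce7505d234c2ca2480461420c41c0)) (.leaf (nat_lit 0x1a8605166d176261939e55f4cf71049734c2ca2481c60c2144040))))⟩
def trHCertC4 : LevCert := ⟨trHCertL4,
    [(nat_lit 15, nat_lit 0), (nat_lit 18, nat_lit 1), (nat_lit 23, nat_lit 1)],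
    [],
    []⟩
def trHCert : List LevCert := [trHCertC0, trHCertC1, trHCertC2, trHCertC3, trHCertC4]
def trHCertL : List Lev := [trHCertL0, trHCertL1, trHCertL2, trHCertL3, trHCertL4]
def trHCertAL0 : Lev := ⟨nat_lit 2, nat_lit 254, (.node (nat_lit 4) (.node (nat_lit 2) (.leaf (nat_lit 0x98a57463120)) (.node (nat_lit 3) (.leaf (nat_lit 0xa9876543210)) (.leaf (nat_lit 0x8a941362750)))) (.node (nat_lit 6) (.node (nat_lit 5) (.leaf (nat_lit 0xa8963724150)) (.leaf (nat_lit 0xa9845237610))) (.node (nat_lit 7) (.leaf (nat_lit 0x9a832674510)) (.leaf (nat_lit 0x98a24357160)))))⟩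
def trHCertAC0 : LevCert := ⟨trHCertAL0,
    [(nat_lit 6, nat_lit 0), (nat_lit 1, nat_lit 1), (nat_lit 5, nat_lit 0), (nat_lit 4, nat_lit 1), (nat_lit 7, nat_lit 1), (nat_lit 3, nat_lit 0)],
    [[nat_lit 2, nat_lit 10, nat_lit 0, nat_lit 2, nat_lit 14], [nat_lit 4, nat_lit 14, nat_lit 4, nat_lit 16, nat_lit 8, nat_lit 8, nat_lit 12, nat_lit 8, nat_lit 14, nat_lit 6], [nat_lit 4, nat_lit 4, nat_lit 12, nat_lit 6, nat_lit 10, nat_lit 4, nat_lit 6, nat_lit 14, nat_lit 4, nat_lit 8, nat_lit 10, nat_lit 12]],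
    [nat_lit 0x9a873516240, nat_lit 0x8a945673210, nat_lit 0xa9856741230]⟩
def trHCertAL1 : Lev := ⟨nat_lit 1, nat_lit 250, (.node (nat_lit 5) (.node (nat_lit 3) (.leaf (nat_lit 0xa9876543210)) (.node (nat_lit 4) (.leaf (nat_lit 0xa9856741230)) (.leaf (nat_lit 0x9a873516240)))) (.node (nat_lit 6) (.leaf (nat_lit 0x89a35174260)) (.node (nat_lit 7) (.leaf (nat_lit 0x9a851736240)) (.leaf (nat_lit 0x89a15376240)))))⟩
def trHCertAC1 : LevCert := ⟨trHCertAL1,
    [(nat_lit 4, nat_lit 0), (nat_lit 3, nat_lit 2), (nat_lit 7, nat_lit 1), (nat_lit 6, nat_lit 0), (nat_lit 5, nat_lit 2)],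
    [[nat_lit 4, nat_lit 0, nat_lit 0, nat_lit 2, nat_lit 4, nat_lit 4, nat_lit 4], [nat_lit 2, nat_lit 2, nat_lit 2, nat_lit 6, nat_lit 2, nat_lit 2, nat_lit 2, nat_lit 4, nat_lit 6, nat_lit 6, nat_lit 4, nat_lit 2, nat_lit 2], [nat_lit 4, nat_lit 8, nat_lit 6, nat_lit 4, nat_lit 6, nat_lit 4]],
    [nat_lit 0x8a967453210, nat_lit 0x98a54763210, nat_lit 0x9a867453210]⟩
def trHCertAL2 : Lev := ⟨nat_lit 4, nat_lit 240, (.node (nat_lit 6) (.node (nat_lit 5) (.leaf (nat_lit 0xa9876543210)) (.leaf (nat_lit 0x8a967453210))) (.node (nat_lit 7) (.leaf (nat_lit 0x98a54763210)) (.leaf (nat_lit 0xa9845673210))))⟩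
def trHCertAC2 : LevCert := ⟨trHCertAL2,
    [(nat_lit 5, nat_lit 0), (nat_lit 6, nat_lit 1), (nat_lit 7, nat_lit 1)],
    [[nat_lit 0, nat_lit 4], [nat_lit 4, nat_lit 6, nat_lit 2, nat_lit 6, nat_lit 4, nat_lit 6]],
    [nat_lit 0xa8976543210, nat_lit 0x9a876543210]⟩
def trHCertAL3 : Lev := ⟨nat_lit 8, nat_lit 0x700, (.node (nat_lit 9) (.leaf (nat_lit 0xa9876543210)) (.node (nat_lit 10) (.leaf (nat_lit 0xa8976543210)) (.leaf (nat_lit 0x8a976543210))))⟩
def trHCertAC3 : LevCert := ⟨trHCertAL3,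
    [(nat_lit 9, nat_lit 0), (nat_lit 10, nat_lit 1)],
    [[nat_lit 0, nat_lit 2, nat_lit 2, nat_lit 0, nat_lit 2, nat_lit 2, nat_lit 2, nat_lit 0, nat_lit 0]],
    [nat_lit 0x9a876543210]⟩
def trHCertAL4 : Lev := ⟨nat_lit 9, nat_lit 0x600, (.node (nat_lit 10) (.leaf (nat_lit 0xa9876543210)) (.leaf (nat_lit 0x9a876543210)))⟩
def trHCertAC4 : LevCert := ⟨trHCertAL4,
    [(nat_lit 10, nat_lit 0)],
    [],
    []⟩
def trHCertA : List LevCert := [trHCertAC0, trHCertAC1, trHCertAC2, trHCertAC3, trHCertAC4]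
def trHCertAL : List Lev := [trHCertAL0, trHCertAL1, trHCertAL2, trHCertAL3, trHCertAL4]
def trN : List ℕ := [nat_lit 0x2a6956c0d242e60712cf146ea09c6c, nat_lit 0x4950f9ca30a39a7586f561ac320142, nat_lit 0xabee5835d3b4644301091ae8c3844a, nat_lit 0x451369ca302b9aa5b2b7099e010ce4, nat_lit 0x4950f8ae6ea40c191ef5536c201183, nat_lit 0xa20b79ca304b9a4581f619aac3844a]
def trNCL0 : Lev := ⟨nat_lit 0, nat_lit 0x149f, (.node (nat_lit 4) (.node (nat_lit 2) (.node (nat_lit 1) (.leaf (nat_lit 0xbdab49ca307b9ac5a928398a418820)) (.leaf (nat_lit 0xb5de8339abaca23808b424d2762801))) (.node (nat_lit 3) (.leaf (nat_lit 0x4950f9ca30a39a7586f561ac320142)) (.leaf (nat_lit 0x4950f8ae6ea40c191ef5536c201183)))) (.node (nat_lit 10) (.node (nat_lit 7) (.leaf (nat_lit 0x451369ca302b9aa5b2b7099e010ce4)) (.leaf (nat_lit 0xb5de86c0d2aae6270cb40452153087))) (.node (nat_lit 12) (.leaf (nat_lit 0xabee5835d3b4644301091ae8c3844a)) (.leaf (nat_lit 0x2a6956c0d242e60712cf146ea09c6c)))))⟩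
def trNCC0 : LevCert := ⟨trNCL0,
    [(nat_lit 12, nat_lit 0), (nat_lit 2, nat_lit 1), (nat_lit 10, nat_lit 2), (nat_lit 4, nat_lit 3), (nat_lit 3, nat_lit 4), (nat_lit 7, nat_lit 1), (nat_lit 1, nat_lit 4)],
    [[nat_lit 0, nat_lit 10, nat_lit 8, nat_lit 6, nat_lit 10, nat_lit 8, nat_lit 0, nat_lit 6, nat_lit 4, nat_lit 8, nat_lit 10, nat_lit 0, nat_lit 2, nat_lit 4], [nat_lit 6, nat_lit 2, nat_lit 4, nat_lit 2, nat_lit 2, nat_lit 8, nat_lit 8, nat_lit 2, nat_lit 2, nat_lit 10], [nat_lit 12, nat_lit 4, nat_lit 4, nat_lit 12, nat_lit 4, nat_lit 10, nat_lit 14, nat_lit 8, nat_lit 6, nat_lit 4, nat_lit 12]],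
    [nat_lit 0xabee5339abb4a2c829093ce8418820, nat_lit 0xa20b75c6464b5cc9a9f63c2a418820, nat_lit 0x7d6c971a11bcd6c6aa853c90418820]⟩
def trNCL1 : Lev := ⟨nat_lit 5, nat_lit 0xf08320, (.node (nat_lit 20) (.node (nat_lit 9) (.node (nat_lit 8) (.leaf (nat_lit 0xbdab49ca307b9ac5a928398a418820)) (.leaf (nat_lit 0x7d6c971a11bcd6c6aa853c90418820))) (.node (nat_lit 15) (.leaf (nat_lit 0xb5de894d6da9a0c8a8b43b92418820)) (.leaf (nat_lit 0x451368ae6e2c0cc92ab73b5e418820)))) (.node (nat_lit 22) (.node (nat_lit 21) (.leaf (nat_lit 0xabee5339abb4a2c829093ce8418820)) (.leaf (nat_lit 0xa20b75c6464b5cc9a9f63c2a418820))) (.node (nat_lit 23) (.leaf (nat_lit 0x4950f6c0d2a2e6c72af53c6c418820)) (.leaf (nat_lit 0x2a695835d34464c32acf3aee418820)))))⟩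
def trNCC1 : LevCert := ⟨trNCL1,
    [(nat_lit 20, nat_lit 0), (nat_lit 21, nat_lit 1), (nat_lit 8, nat_lit 2), (nat_lit 23, nat_lit 1), (nat_lit 9, nat_lit 2), (nat_lit 22, nat_lit 2), (nat_lit 15, nat_lit 2)],
    [],
    []⟩
def trNC : List LevCert := [trNCC0, trNCC1]
def trNCL : List Lev := [trNCL0, trNCL1]

theorem trH_ss : ssOK 6 64 35 trHCert trHS = true := by decide +kernel

/-- the numbering of the vectors of length three over the field with two elements -/
def v3Enc : Enc (Fin 3 → ZMod 2) 8 3 8 where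
  ix v := (v 0).val + 2 * (v 1).val + 4 * (v 2).val
  pt i := ![(i : ZMod 2), ((i / 2 : ℕ) : ZMod 2), ((i / 4 : ℕ) : ZMod 2)]
  M_eq := rfl
  n_le := le_rfl
  ix_lt := by decide
  pt_ix := by decide
  ix_pt := by decide

/-- the action on vectors and points -/
def trTau : GL (Fin 3) (ZMod 2) × Equiv.Perm (Fin 3) →* Equiv.Perm ((Fin 3 → ZMod 2) ⊕ Fin 3) :=
  (Equiv.Perm.sumCongrHom _ _).comp ((toPermHom _ _).prodMap (MonoidHom.id _))

theorem trTau_inj : Function.Injective trTau :=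
  Equiv.Perm.sumCongrHom_injective.comp ((glPerm_injective _ _).prodMap Function.injective_id)

theorem tr_normal : ∃ φ : stabilizer M24 (fam tr0) →* GL (Fin 3) (ZMod 2) × Equiv.Perm (Fin 3),
    Function.Surjective φ ∧ Nat.card φ.ker = 64 ∧ ∀ x ∈ φ.ker, x * x = 1 := by
  have hb := exists_pk_of_chkGens cFam tr0_rel (gens := trHB) (by decide +kernel)
  have hc : Nat.card (GL (Fin 3) (ZMod 2) × Equiv.Perm (Fin 3)) = 1008 := by
    rw [Nat.card_prod, Matrix.card_GL_field, Nat.card_perm]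
    simp [Fin.prod_univ_three, Nat.factorial]
  obtain ⟨φ, h1, h2⟩ := exists_surj_of_cert
    (E := sumEnc v3Enc (finEnc 3 2 4 rfl (by decide)) 11 4 16 rfl rfl (by decide)) (F := GE) (N := 35)
    (k := 6) (M := 64) rfl rfl (by decide) (incl _) (incl_injective _) trTau trTau_inj (as := trHA)
    (fun P hP => by
      simp only [trHA, List.mem_cons, List.not_mem_nil, or_false] at hP
      rcases hP with rfl | rfl | rfl | rfl | rfl | rfl | rfl | rfl
      exacts [⟨(⟨!![1, 1, 1; 0, 0, 1; 0, 1, 1], !![1, 0, 1; 0, 1, 1; 0, 1, 0], by decide, by decide⟩, ⟨![0, 2, 1], ![0, 2, 1], by decide, by decide⟩), by decide +kernel⟩, ⟨(⟨!![0, 1, 0; 1, 0, 1; 0, 0, 1], !![0, 1, 1; 1, 0, 0; 0, 0, 1], by decide, by decide⟩, ⟨![2, 0, 1], ![1, 2, 0], by decide, by decide⟩), by decide +kernel⟩, ⟨1, by decide +kernel⟩, ⟨1, by decide +kernel⟩, ⟨1, by decide +kernel⟩, ⟨1, by decide +kernel⟩, ⟨1, by decide +kernel⟩, ⟨1, by decide +kernel⟩]) hb (cs := trHS)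
    (by decide +kernel) trH_ss (by decide +kernel)
    (by rw [card_stab_trio tr0_mem]; decide +kernel) (certA := trHCertA) (by decide +kernel)
    (by rw [hc]; decide +kernel)
  have h4 := φ.ker.index_mul_card
  rw [Subgroup.index_ker, card_stab_trio tr0_mem, MonoidHom.range_eq_top.2 h1, Subgroup.card_top,
    hc] at h4
  refine ⟨φ, h1, ker_sq φ (by omega) (gens := trN) (cert := trNC)
    (fun P hP => ?_) (by decide +kernel) (by decide +kernel) (by decide +kernel)⟩
  obtain ⟨i, e1, e2⟩ := (by decide +kernel : ∀ P ∈ trN, ∃ i < 8, trHA[i]? = some (idP 4 11) ∧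
    trHB[i]? = some P) P hP |>.imp fun _ h => h.2
  obtain ⟨g, rfl⟩ := hb P (List.mem_of_getElem? e2)
  exact ⟨g, h2 i g 1 (by rw [e1, map_one, Enc.pk_one]) e2, rfl⟩

end Cfsg.Agent.H56
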