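import Cfsg.Agent.H32.Cs1
import Cfsg.Agent.H25.Sect
import Cfsg.Agent.H12.Har0
import Cfsg.Agent.H3.Transfer2
import Cfsg.Agent.H16.Loc
import Cfsg.Agent.H36.Prime
import Cfsg.Agent.H36.Central

/-! Groups with the local data of `PSU(3, q)`, `q = 7, 9`: the Sylow subgroups. -/

set_option autoImplicit false
set_option linter.unusedSectionVars false

namespace Cfsg.Agent.H56.Uq

open Cfsg Subgroup

variable {G : Type*} [Group G] [Finite G]

local notation "C[" x "]" => centralizer ({x} : Set _)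

theorem mem_C {x y : G} : y ∈ C[x] ↔ y * x = x * y := mem_centralizer_singleton_iff

theorem syl_eq {r k m : ℕ} [Fact r.Prime] {K P Q : Subgroup G} (hP : P ≤ K) (hQ : Q ≤ K)
    (h1 : Nat.card P = r ^ k) (h2 : Nat.card Q = r ^ k) (hK : Nat.card K = r ^ k * m)
    (hm : ¬ r ∣ m) (hd : ∀ d, d ∣ m → d % r = 1 → d = 1) : P = Q := by
  have key : ∀ R ≤ K, Nat.card R = r ^ k → (R.subgroupOf K).index = m := fun R hR h => by
    have := (R.subgroupOf K).card_mul_index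
    rw [Nat.card_congr (subgroupOfEquivOfLe hR).toEquiv, h, hK] at this
    exact Nat.eq_of_mul_eq_mul_left (pow_pos (Fact.out : r.Prime).pos _) this
  have k2 : ∀ R ≤ K, Nat.card R = r ^ k → IsPGroup r (R.subgroupOf K) := fun R hR h =>
    IsPGroup.of_card ((Nat.card_congr (subgroupOfEquivOfLe hR).toEquiv).trans h)
  let P' := (k2 P hP h1).toSylow (key P hP h1 ▸ hm)
  let Q' := (k2 Q hQ h2).toSylow (key Q hQ h2 ▸ hm)
  have h3 : Nat.card (Sylow r K) = 1 := hd _ (key P hP h1 ▸ P'.card_dvd_index)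
    (Eq.trans (card_sylow_modEq_one r K) (Nat.mod_eq_of_lt (Fact.out : r.Prime).one_lt))
  have h4 : P.subgroupOf K = Q.subgroupOf K :=
    congrArg Sylow.toSubgroup ((Nat.card_eq_one_iff_unique.1 h3).1.elim P' Q')
  rw [← map_subgroupOf_eq_of_le hP, h4, map_subgroupOf_eq_of_le hQ]

theorem mem_smul {r : ℕ} {P : Sylow r G} {g x : G} : x ∈ g • P ↔ g⁻¹ * x * g ∈ P := by
  change x ∈ ((g • P : Sylow r G) : Subgroup G) ↔ _
  rw [Sylow.coe_subgroup_smul, mem_pointwise_smul_iff_inv_smul_mem]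
  simp; rfl

theorem eq_of_le_norm {r : ℕ} [Fact r.Prime] {P Q : Sylow r G}
    (h : (Q : Subgroup G) ≤ normalizer (P : Set G)) : P = Q := by
  have h1 := Q.isPGroup'.inf_normalizer_sylow P
  rw [inf_eq_left.2 h, eq_comm, inf_eq_left] at h1
  exact Sylow.ext (Q.is_maximal' P.isPGroup' h1)

theorem dvd_of_free (H : Subgroup G) (S : Set G) (hS : ∀ h ∈ H, ∀ x ∈ S, h * x * h⁻¹ ∈ S)
    (hd : ∀ x ∈ S, ∀ h ∈ H, h * x = x * h → h = 1) : Nat.card H ∣ S.ncard :=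
  H32.dvd_ncard_of_conj H S hS fun x hx => by
    have h1 := H25.relIndex_mul_card_inf C[x] H
    rw [show C[x] ⊓ H = ⊥ from eq_bot_iff.2 fun h hh => hd x hx h hh.2 (mem_C.1 hh.1), card_bot,
      mul_one] at h1
    exact h1.symm.dvd

/-- the local data -/
structure UD (G : Type*) [Group G] (q r : ℕ) (z : G) : Prop where
  hq : q = 7 ∧ r = 7 ∨ q = 9 ∧ r = 3
  hG : Nat.card G = q ^ 3 * ((q ^ 2 - 1) * (q ^ 3 + 1))
  ne : z ≠ 1
  cz : Nat.card C[z] = q ^ 3 * (q + 1)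
  nb : ∀ P : Sylow r G, ∀ g ∈ P, g ≠ 1 → ¬ IsConj z g →
    Nat.card C[g] ∣ q ^ 3 ∧ ¬ q ^ 3 ∣ Nat.card C[g]
  cnt : ∀ P : Sylow r G, {a | a ∈ P ∧ IsConj z a}.ncard = q - 1

/-- the centre of a Sylow subgroup -/
def Zc {r : ℕ} (P : Sylow r G) : Subgroup G := P ⊓ centralizer (P : Set G)

theorem exists_Zc {r : ℕ} [Fact r.Prime] (P : Sylow r G) (h : Nat.card P ≠ 1) :
    ∃ a ∈ Zc P, a ≠ 1 := by
  have : Nontrivial P := Finite.one_lt_card_iff_nontrivial.1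
    (lt_of_le_of_ne Nat.card_pos h.symm)
  have := P.isPGroup'.center_nontrivial
  obtain ⟨a, ha⟩ := exists_ne (1 : center P)
  exact ⟨a, ⟨a.1.2, fun g hg => congrArg Subtype.val (mem_center_iff.1 a.2 ⟨g, hg⟩)⟩,
    fun e => ha (Subtype.ext (Subtype.ext e))⟩

namespace UD

variable {q r : ℕ} [hr : Fact r.Prime] {z : G} (h : UD G q r z)
include h

theorem pw : ∃ k, q ^ 3 = r ^ k := by
  rcases h.hq with ⟨rfl, rfl⟩ | ⟨rfl, rfl⟩
  exacts [⟨3, rfl⟩, ⟨6, rfl⟩]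

theorem cP (P : Sylow r G) : Nat.card P = q ^ 3 := by
  rw [P.card_eq_multiplicity, h.hG]
  rcases h.hq with ⟨rfl, rfl⟩ | ⟨rfl, rfl⟩
  · rw [show (7 ^ 3 * ((7 ^ 2 - 1) * (7 ^ 3 + 1)) : ℕ).factorization 7 = 3 by decide +kernel]
  · rw [show (9 ^ 3 * ((9 ^ 2 - 1) * (9 ^ 3 + 1)) : ℕ).factorization 3 = 6 by decide +kernel]
    rfl

theorem czc {a : G} (ha : IsConj z a) : Nat.card C[a] = q ^ 3 * (q + 1) :=
  H16.card_cent_conj ha ▸ h.cz

theorem ne' {a : G} (ha : IsConj z a) : a ≠ 1 := fun e => h.ne (by simpa [e] using ha)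

theorem conj_Zc {P : Sylow r G} {a : G} (ha : a ∈ Zc P) (h1 : a ≠ 1) : IsConj z a := by
  by_contra h2
  exact (h.nb P a ha.1 h1 h2).2 (h.cP P ▸ card_dvd_of_le fun g hg => mem_C.2 (ha.2 g hg))

theorem conj_comm {P : Sylow r G} {a g : G} (ha : a ∈ P) (h1 : a ≠ 1) (hg : g * a = a * g)
    (ho : ¬ orderOf g ∣ q ^ 3) : IsConj z a := by
  by_contra h2
  exact ho ((orderOf_dvd_natCard _ (mem_C.2 hg)).trans (h.nb P a ha h1 h2).1)

theorem exZ (P : Sylow r G) : ∃ a ∈ Zc P, a ≠ 1 := exists_Zc P (by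
  rw [h.cP]; rcases h.hq with ⟨rfl, -⟩ | ⟨rfl, -⟩ <;> norm_num)

theorem uniq {P Q : Sylow r G} {a : G} (ha : IsConj z a) (haP : a ∈ P) (haQ : a ∈ Q)
    (hP : (P : Subgroup G) ≤ C[a]) (hQ : (Q : Subgroup G) ≤ C[a]) : P = Q := by
  have h1 := h.czc ha
  have h2 := h.cP P
  have h3 := h.cP Q
  rcases h.hq with ⟨rfl, rfl⟩ | ⟨rfl, rfl⟩
  · by_contra hne
    have k1 : ∀ R S : Sylow 7 G, R ≠ S → (R : Subgroup G) ≤ C[a] → (S : Subgroup G) ≤ C[a] →
        Nat.card (S ⊓ R : Subgroup G) = 49 ∧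
          (R : Subgroup G) ≤ normalizer ((S ⊓ R : Subgroup G) : Set G) := fun R S hRS hR hS => by
      have e1 := H25.relIndex_mul_card_inf (S : Subgroup G) C[a]
      rw [inf_eq_left.2 hS, h.cP, h1] at e1
      have e2 := relIndex_le_of_le_right (H := S) hR (by omega)
      have e3 := H25.relIndex_mul_card_inf (S : Subgroup G) R
      rw [h.cP] at e3
      have e4 : (S : Subgroup G).relIndex R ≠ 1 := fun e =>
        hRS (Sylow.ext (R.is_maximal' S.isPGroup' (relIndex_eq_one.1 e))).symm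
      have e5 : (S : Subgroup G).relIndex R = 7 := by
        obtain ⟨i, hi, e⟩ := (Nat.dvd_prime_pow hr.out).1 (Dvd.intro _ e3)
        interval_cases i <;> omega
      refine ⟨by rw [e5] at e3; omega, ?_⟩
      have : ((S ⊓ R : Subgroup G).subgroupOf R).Normal := normal_of_index_eq_minFac_card (by
        rw [inf_subgroupOf_right, h.cP]; exact e5.trans (by norm_num))
      exact (normal_subgroupOf_iff_le_normalizer inf_le_right).1 this
    obtain ⟨k2, k3⟩ := k1 P Q hne hP hQ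
    obtain ⟨-, k4⟩ := k1 Q P (Ne.symm hne) hQ hP
    rw [inf_comm] at k4
    set D : Subgroup G := Q ⊓ P
    have k5 := card_dvd_of_le (inf_le_right : normalizer (D : Set G) ⊓ C[a] ≤ _)
    obtain ⟨m, hm⟩ := card_dvd_of_le (le_inf k3 hP)
    rw [h1, hm, h2, Nat.mul_dvd_mul_iff_left (by norm_num)] at k5
    have k6 : m = 8 := by
      by_contra k6
      have := Nat.le_of_dvd (by norm_num) k5
      refine hne (Sylow.ext (syl_eq (le_inf k3 hP) (le_inf k4 hQ) h2 h3 (h2 ▸ hm) ?_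
        fun d hd e => ?_))
      · interval_cases m <;> omega
      · have := Nat.le_of_dvd (Nat.pos_of_dvd_of_pos k5 (by norm_num)) hd
        omega
    obtain ⟨T, hT, k7⟩ := H36.exists_subgroup_le_card (normalizer (D : Set G) ⊓ C[a]) 2 3
      Nat.prime_two (by rw [hm, k6]; exact Dvd.intro_left _ rfl)
    have k8 := dvd_of_free T ((D : Set G) \ insert 1 {x | x ∈ D ∧ IsConj z x})
      (fun t ht x hx => ⟨(mem_normalizer_iff.1 (hT ht).1 x).1 hx.1, fun e => hx.2 (e.imp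
        (fun e => by simpa [mul_inv_eq_iff_eq_mul] using e) fun e =>
          ⟨hx.1, e.2.trans (isConj_iff.2 ⟨t, rfl⟩).symm⟩)⟩) fun x hx t ht e => by
      by_contra t1
      refine hx.2 (Or.inr ⟨hx.1, h.conj_comm hx.1.2 (fun e => hx.2 (Or.inl e)) e fun e' => t1 ?_⟩)
      exact orderOf_eq_one_iff.1 (Nat.eq_one_of_dvd_coprimes (by norm_num : Nat.Coprime 8 343)
        ((orderOf_dvd_natCard T ht).trans k7.dvd) e')
    have k9 : {x | x ∈ D ∧ IsConj z x}.ncard ≤ 6 :=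
      le_of_le_of_eq (Set.ncard_le_ncard fun x hx => by exact ⟨hx.1.2, hx.2⟩) (h.cnt P)
    have k10 : 0 < {x | x ∈ D ∧ IsConj z x}.ncard :=
      (Set.ncard_pos (Set.toFinite _)).2 ⟨a, ⟨haQ, haP⟩, ha⟩
    rw [Set.ncard_sdiff (by rintro x (rfl | hx); exacts [D.one_mem, hx.1]),
      Set.ncard_insert_of_notMem fun e => h.ne' e.2 rfl, ← Nat.card_coe_set_eq, k7] at k8
    change _ ∣ Nat.card D - _ at k8
    omega
  · obtain ⟨u, hu⟩ := exists_prime_orderOf_dvd_card' (G := C[a]) 2 (by rw [h1]; norm_num)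
    obtain ⟨M, -, hM, -⟩ := H12.exists_index_two_of_index (⊥ : Subgroup C[a]) (u := u)
      (by rw [← sq, ← hu, pow_orderOf_eq_one]) (fun g e => by
        rw [mem_bot, mul_inv_eq_one, mul_eq_left] at e
        simp [e] at hu) (by rw [index_bot, h1]; rfl)
    have k1 : ∀ R : Sylow 3 G, (R : Subgroup G) ≤ C[a] →
        (R : Subgroup G) ≤ M.map C[a].subtype := fun R hR x hx => by
      have e : x ^ 729 = 1 := orderOf_dvd_iff_pow_eq_one.1 ((orderOf_dvd_natCard _ hx).trans (h.cP R).dvd)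
      refine ⟨_, pow_mem (sq_mem_of_index_two hM ⟨x, hR hx⟩) 365, ?_⟩
      change (x ^ 2) ^ 365 = x
      rw [← pow_mul, pow_succ, e, one_mul]
    have k2 := M.card_mul_index
    rw [hM, h1] at k2
    refine Sylow.ext (syl_eq (r := 3) (k := 6) (m := 5) (k1 P hP) (k1 Q hQ) h2 h3
      (by rw [card_subtype]; omega) (by norm_num) fun d hd e => ?_)
    rcases (Nat.dvd_prime Nat.prime_five).1 hd with rfl | rfl <;> omega

theorem le_norm {P : Sylow r G} {a : G} (ha : a ∈ Zc P) (h1 : a ≠ 1) :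
    C[a] ≤ normalizer (P : Set G) := fun g hg => by
  have h2 : ∀ x ∈ P, x ∈ C[a] := fun x hx => mem_C.2 (ha.2 x hx)
  have h3 : g⁻¹ * a * g = a := by rw [mul_assoc, ← mem_C.1 hg, inv_mul_cancel_left]
  refine Sylow.smul_eq_iff_mem_normalizer.1 (h.uniq (h.conj_Zc ha h1)
    (mem_smul.2 (h3.symm ▸ ha.1)) ha.1 (fun x hx => ?_) h2)
  simpa [mul_assoc] using mul_mem (mul_mem hg (h2 _ (mem_smul.1 hx))) (inv_mem hg)

theorem eq_of_le {P : Sylow r G} {K : Subgroup G} (hK : K ≤ P)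
    (h1 : ∀ x ∈ K, x ≠ 1 → IsConj z x) : Nat.card K ≤ q ∧
      (q ≤ Nat.card K → ∀ a ∈ P, IsConj z a → a ∈ K) := by
  have h2 : (K : Set G) ⊆ insert 1 {a | a ∈ P ∧ IsConj z a} := fun x hx =>
    (eq_or_ne x 1).imp_right fun e => ⟨hK hx, h1 x hx e⟩
  have h3 : (insert 1 {a | a ∈ P ∧ IsConj z a}).ncard = q := by
    rw [Set.ncard_insert_of_notMem fun e => h.ne' e.2 rfl, h.cnt]
    rcases h.hq with ⟨rfl, -⟩ | ⟨rfl, -⟩ <;> rfl
  exact ⟨h3 ▸ Set.ncard_le_ncard h2, fun e a ha ha' =>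
    (Set.eq_of_subset_of_ncard_le h2 (h3 ▸ e)).ge (Or.inr ⟨ha, ha'⟩)⟩

theorem mem_Zc {P : Sylow r G} {a : G} (ha : a ∈ P) (h1 : IsConj z a) : a ∈ Zc P := by
  obtain ⟨y, hy, y1⟩ := h.exZ P
  have h2 := h.cP P
  rcases h.hq with ⟨rfl, rfl⟩ | ⟨rfl, rfl⟩
  · refine (h.eq_of_le inf_le_left fun x => h.conj_Zc).2 ?_ a ha h1
    obtain ⟨i, -, e⟩ := (Nat.dvd_prime_pow hr.out).1 (h2 ▸ card_dvd_of_le (inf_le_left : Zc P ≤ _))
    refine e ▸ Nat.le_self_pow ?_ 7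
    rintro rfl
    exact y1 (mem_bot.1 (card_eq_one.1 e ▸ hy))
  obtain ⟨f, hf, f5⟩ := H36.exists_orderOf_eq_of_dvd C[y] Nat.prime_five
    (by rw [h.czc (h.conj_Zc hy y1)]; norm_num)
  have := Fact.mk Nat.prime_five
  have h3 : ∀ K : Subgroup G, f ∈ normalizer (K : Set G) →
      Nat.card K ≡ Nat.card (K ⊓ C[f] : Subgroup G) [MOD 5] := fun K hK => by
    have := H3.card_modEq_card_inf_centralizer (q := 5) (S := zpowers f) (Q := K)
      (IsPGroup.of_card (n := 1) (by rw [Nat.card_zpowers, f5]; rfl)) (zpowers_le.2 hK)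
    rwa [zpowers_eq_closure, centralizer_closure] at this
  have fN := h.le_norm hy y1 hf
  have h4 := h3 _ fN
  obtain ⟨h5, h6⟩ := h.eq_of_le (inf_le_left : (P : Subgroup G) ⊓ C[f] ≤ _) fun x hx x1 =>
    h.conj_comm hx.1 x1 (mem_C.1 hx.2).symm (by rw [f5]; norm_num)
  have h7 : Nat.card ((P : Subgroup G) ⊓ C[f] : Subgroup G) = 3 ^ 2 := by
    rw [h2, Nat.ModEq] at h4
    obtain ⟨m, hm⟩ := card_dvd_of_le (inf_le_left : (P : Subgroup G) ⊓ C[f] ≤ _)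
    rw [h2] at hm
    generalize Nat.card ((P : Subgroup G) ⊓ C[f] : Subgroup G) = n at *
    interval_cases n <;> omega
  have h8 := h6 h7.ge a ha h1
  have h9 := IsPGroup.isMulCommutative_of_card_eq_prime_sq h7
  have h10 := h3 (C[a] ⊓ P) (mem_normalizer_iff.2 fun x => and_congr ?_
    (mem_normalizer_iff.1 fN x))
  swap
  · have e := mem_C.2 (mem_C.1 h8.2).symm
    change x ∈ C[a] ↔ _ ∈ C[a]
    rw [mul_mem_cancel_right (inv_mem e), mul_mem_cancel_left e]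
  rw [inf_assoc, (inf_eq_right (a := C[a]) (b := (P : Subgroup G) ⊓ C[f])).2 fun x hx => mem_C.2
    (congrArg Subtype.val (h9.is_comm.comm ⟨x, hx⟩ ⟨a, h8⟩)), h7] at h10
  have h11 := H25.relIndex_mul_card_inf C[a] P
  have h12 : C[a].relIndex P ≤ 8 := by
    rw [← H32.ncard_conj_orbit]
    refine le_of_le_of_eq (Set.ncard_le_ncard ?_) (h.cnt P)
    rintro _ ⟨g, hg, rfl⟩
    exact ⟨mul_mem (mul_mem hg ha) (inv_mem hg), h1.trans (isConj_iff.2 ⟨g, rfl⟩)⟩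
  have h13 : C[a].relIndex P = 1 := by
    rw [h2] at h11
    rw [Nat.ModEq] at h10
    generalize C[a].relIndex P = n at *
    interval_cases n <;> omega
  exact ⟨ha, fun x hx => mem_C.1 (relIndex_eq_one.1 h13 hx)⟩

theorem card_Zc (P : Sylow r G) : Nat.card (Zc P) = q := by
  have h2 : (Zc P : Set G) = insert 1 {a | a ∈ P ∧ IsConj z a} := Set.ext fun x =>
    ⟨fun hx => (eq_or_ne x 1).imp_right fun e => ⟨hx.1, h.conj_Zc hx e⟩, fun hx =>
      hx.elim (fun e => e ▸ one_mem _) fun e => h.mem_Zc e.1 e.2⟩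
  rw [← SetLike.coe_sort_coe, Nat.card_coe_set_eq, h2,
    Set.ncard_insert_of_notMem fun e => h.ne' e.2 rfl, h.cnt]
  rcases h.hq with ⟨rfl, -⟩ | ⟨rfl, -⟩ <;> rfl

theorem uniqA {P Q : Sylow r G} {a : G} (ha : IsConj z a) (haP : a ∈ P) (haQ : a ∈ Q) : P = Q :=
  h.uniq ha haP haQ (fun x hx => mem_C.2 ((h.mem_Zc haP ha).2 x hx))
    fun x hx => mem_C.2 ((h.mem_Zc haQ ha).2 x hx)

theorem ti {P Q : Sylow r G} {g : G} (g1 : g ≠ 1) (hP : g ∈ P) (hQ : g ∈ Q) : P = Q := by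
  by_cases hg : IsConj z g
  · exact h.uniqA hg hP hQ
  obtain ⟨k, hk⟩ := h.pw
  obtain ⟨i, -, e⟩ := (Nat.dvd_prime_pow hr.out).1 (hk ▸ (h.nb P g hP g1 hg).1)
  obtain ⟨R, hR⟩ := (IsPGroup.of_card e).exists_le_sylow
  have : ∀ S : Sylow r G, g ∈ S → S = R := fun S hS =>
    let ⟨a, ha, a1⟩ := h.exZ S
    h.uniqA (h.conj_Zc ha a1) ha.1 (hR (mem_C.2 (ha.2 g hS).symm))
  exact (this P hP).trans (this Q hQ).symm

theorem exists_conj {P : Sylow r G} {a b : G} (ha : a ∈ Zc P) (a1 : a ≠ 1) :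
    (∃ g ∈ normalizer (P : Set G), g * a * g⁻¹ = b) ↔ b ∈ P ∧ IsConj z b := by
  refine ⟨fun ⟨g, hg, e⟩ => e ▸ ⟨(mem_set_normalizer_iff.1 hg a).1 ha.1,
    (h.conj_Zc ha a1).trans (isConj_iff.2 ⟨g, rfl⟩)⟩, fun ⟨h1, h2⟩ => ?_⟩
  obtain ⟨g, rfl⟩ := isConj_iff.1 ((h.conj_Zc ha a1).symm.trans h2)
  exact ⟨g, Sylow.smul_eq_iff_mem_normalizer.1 (h.uniqA h2
    (mem_smul.2 (by simpa [mul_assoc] using ha.1)) h1), rfl⟩

theorem card_norm (P : Sylow r G) :
    Nat.card (normalizer (P : Set G)) = q ^ 3 * (q ^ 2 - 1) := by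
  obtain ⟨a, ha, a1⟩ := h.exZ P
  have h1 := H25.relIndex_mul_card_inf C[a] (normalizer (P : Set G))
  rw [inf_eq_left.2 (h.le_norm ha a1), h.czc (h.conj_Zc ha a1), ← H32.ncard_conj_orbit,
    Set.ext fun b => h.exists_conj ha a1] at h1
  rw [← h1]
  change {b | b ∈ P ∧ IsConj z b}.ncard * _ = _
  rw [h.cnt]
  rcases h.hq with ⟨rfl, -⟩ | ⟨rfl, -⟩ <;> rfl

theorem card_syl : Nat.card (Sylow r G) = q ^ 3 + 1 := by
  obtain ⟨P⟩ : Nonempty (Sylow r G) := inferInstance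
  have h1 := (normalizer (P : Set G)).card_mul_index
  rw [h.card_norm, h.hG, ← P.card_eq_index_normalizer] at h1
  rcases h.hq with ⟨rfl, -⟩ | ⟨rfl, -⟩ <;> omega

end UD

end Cfsg.Agent.H56.Uq
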