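import Cfsg.Agent.H56.UqG
import Cfsg.Agent.H12.OUMain
import Cfsg.Agent.S0016

/-! Groups with the local data of `PSU(3, q)`, `q = 7, 9`: the doubly transitive action. -/

set_option autoImplicit false
set_option linter.unusedSectionVars false

namespace Cfsg.Agent.H56.Uq

open Cfsg Subgroup H12 MulAction

variable {G : Type*} [Group G] [Finite G]

local notation "C[" x "]" => centralizer ({x} : Set _)

theorem ord_dvd (g : G) (S : Set G) (hS : ∀ x ∈ S, g * x * g⁻¹ ∈ S)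
    (hd : ∀ x ∈ S, ∀ k ∈ zpowers g, k * x = x * k → k = 1) : orderOf g ∣ S.ncard := by
  rw [← Nat.card_zpowers]
  refine dvd_of_free _ S (fun k hk => ?_) hd
  obtain ⟨n, rfl⟩ := mem_powers_iff_mem_zpowers.2 hk
  induction n with
  | zero => simp
  | succ n ih =>
    intro x hx
    have := hS _ (ih (pow_mem (mem_zpowers g) n) x hx)
    rwa [show g * (g ^ n * x * (g ^ n)⁻¹) * g⁻¹ = g ^ (n + 1) * x * (g ^ (n + 1))⁻¹ by group] at this

theorem cyc48 (hG : Nat.card G = 48) {K : Subgroup G} (hK : Nat.card K = 8)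
    (h1 : ∀ x y : G, x⁻¹ * y⁻¹ * x * y ∈ K) (h2 : ∀ x : G, orderOf x = 4 → x ∈ K)
    (h3 : ∀ s t : G, orderOf s = 2 → orderOf t = 2 → s = t) : IsCyclic G := by
  have := Fact.mk Nat.prime_two
  have := Fact.mk Nat.prime_three
  obtain ⟨T, hT, hKT⟩ := Sylow.exists_subgroup_card_pow_prime_le 2 (n := 3) (m := 4)
    (by rw [hG]; norm_num) K hK (by norm_num)
  have key : ∀ A : Subgroup T, Nat.card A = 2 → ∃ s : T, orderOf (s : G) = 2 ∧ zpowers s = A :=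
    fun A hA =>
      let ⟨s, hs, e⟩ := H36.exists_orderOf_eq_of_dvd A Nat.prime_two hA.symm.dvd
      ⟨s, (orderOf_coe s).trans e, eq_of_le_of_card_ge (zpowers_le.2 hs)
        (by rw [Nat.card_zpowers, e, hA])⟩
  rcases S0016.result 2 (IsPGroup.of_card hT) (fun A B hA hB => by
    obtain ⟨s, hs, rfl⟩ := key A hA
    obtain ⟨t, ht, rfl⟩ := key B hB
    rw [Subtype.ext (h3 _ _ hs ht)]) with hc | ⟨-, n, ⟨e⟩⟩
  · obtain ⟨g, hg⟩ := isCyclic_iff_exists_orderOf_eq_natCard.1 hc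
    obtain ⟨y, hy⟩ := exists_prime_orderOf_dvd_card' (G := G) 3 (by rw [hG]; norm_num)
    rw [hT, ← orderOf_coe] at hg
    have h4 : zpowers (g : G) = T :=
      eq_of_le_of_card_ge (zpowers_le.2 g.2) (by rw [Nat.card_zpowers, hg, hT])
    have h5 : y * g * y⁻¹ ∈ zpowers (g : G) := by
      have := mul_mem (hKT (h1 y⁻¹ g⁻¹)) g.2
      rw [h4]
      simpa using this
    obtain ⟨m, hm⟩ := mem_powers_iff_mem_zpowers.2 h5
    have h6 : ∀ k : ℕ, y ^ k * g * (y ^ k)⁻¹ = g ^ m ^ k := fun k => by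
      induction k with
      | zero => simp
      | succ k ih =>
        rw [pow_succ' m, pow_mul, show (g : G) ^ m = _ from hm, conj_pow, ← ih]
        group
    have h7 := h6 3
    rw [← hy, pow_orderOf_eq_one, hy, one_mul, inv_one, mul_one, eq_comm, ← pow_one (g : G),
      ← pow_mul, one_mul, pow_eq_pow_iff_modEq, hg, Nat.ModEq, Nat.pow_mod] at h7
    have h8 : (g : G) ^ m = g ^ 1 := pow_eq_pow_iff_modEq.2 (by
      rw [hg]
      exact (by decide : ∀ i < 2 ^ 4, i ^ 3 % 2 ^ 4 = 1 % 2 ^ 4 → i = 1 % 2 ^ 4) _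
        (Nat.mod_lt _ (by norm_num)) h7)
    have h9 : Commute y g := mul_inv_eq_iff_eq_mul.1 (hm.symm.trans (h8.trans (pow_one _)))
    exact isCyclic_of_orderOf_eq_card (y * g) (by
      rw [h9.orderOf_mul_eq_mul_orderOf_of_coprime (by rw [hy, hg]; norm_num), hy, hg, hG]; rfl)
  · have h4 : ∀ i, (e.symm (.xa i) : G) ∈ K := fun i => h2 _ (by
      rw [orderOf_coe, MulEquiv.orderOf_eq, QuaternionGroup.orderOf_xa])
    have h5 : T ≤ K := fun x hx => by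
      obtain ⟨y, hy⟩ := e.symm.surjective ⟨x, hx⟩
      rw [show x = e.symm y from congrArg Subtype.val hy.symm]
      rcases y with i | i
      · have := mul_mem (h4 0) (h4 (i - (2 ^ n : ℕ)))
        rwa [← coe_mul, ← map_mul, QuaternionGroup.xa_mul_xa, add_sub_cancel, sub_zero] at this
      · exact h4 i
    have := card_le_of_le h5
    omega

namespace UD

variable {q r : ℕ} [hr : Fact r.Prime] {z : G} (h : UD G q r z)
include h

theorem comm_Zc {P : Sylow r G} {a g : G} (ha : a ∈ P) (hg : g * a = a * g)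
    (ho : ¬ orderOf g ∣ q ^ 3) : a ∈ Zc P := by
  rcases eq_or_ne a 1 with rfl | h1
  exacts [one_mem _, h.mem_Zc ha (h.conj_comm ha h1 hg ho)]

theorem Zc_conj {P : Sylow r G} {a g : G} (hg : g • P = P) (ha : a ∈ Zc P) :
    g * a * g⁻¹ ∈ Zc P := by
  rcases eq_or_ne a 1 with rfl | h1
  · simp
  · have := (h.exists_conj ha h1).1 ⟨g, Sylow.smul_eq_iff_mem_normalizer.1 hg, rfl⟩
    exact h.mem_Zc this.1 this.2

theorem exB (P : Sylow r G) : ∃ w ∈ P, w ∉ Zc P := by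
  by_contra! h1
  have := card_le_of_le (show (P : Subgroup G) ≤ Zc P from h1)
  rw [h.cP, h.card_Zc] at this
  rcases h.hq with ⟨rfl, -⟩ | ⟨rfl, -⟩ <;> omega

omit h hr in
theorem conj_mem {P : Sylow r G} {a g : G} (hg : g • P = P) (ha : a ∈ P) : g * a * g⁻¹ ∈ P :=
  hg ▸ mem_smul.2 (by simpa [mul_assoc] using ha)

theorem sp [IsSimpleGroup G] {P Q : Sylow r G} (hne : Q ≠ P) : SP G (Sylow r G) P Q P := by
  have h1 : ∀ u ∈ P, u • P = P := fun u hu =>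
    Sylow.smul_eq_iff_mem_normalizer.2 (le_normalizer (H := (P : Subgroup G)) hu :)
  have h2 : ∀ u ∈ P, u • Q = Q → u = 1 := fun u hu e => by
    by_contra u1
    have := P.isPGroup'.inf_normalizer_sylow Q
    exact hne (h.ti u1 (this.le ⟨hu, Sylow.smul_eq_iff_mem_normalizer.1 e⟩).2 hu)
  refine ⟨hne, exists_smul_eq G P, h1, fun g hg u => conj_mem hg, fun c hc => ?_, h2,
    fun g hg => ?_⟩
  · let f : ↥(P : Subgroup G) → {c : Sylow r G // c ≠ P} := fun u => ⟨(u : G) • Q, fun e => hne (by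
      rw [smul_eq_iff_eq_inv_smul] at e
      exact e.trans (h1 _ (inv_mem u.2)))⟩
    have h3 : Function.Injective f := fun u v e => by
      have := h2 _ (mul_mem (inv_mem v.2) u.2) (by
        rw [mul_smul, show (u : G) • Q = (v : G) • Q from congrArg Subtype.val e, inv_smul_smul])
      exact Subtype.ext (inv_mul_eq_one.1 this).symm
    obtain ⟨u, hu⟩ := ((Nat.bijective_iff_injective_and_card f).2 ⟨h3, by
      classical
      have := Fintype.ofFinite (Sylow r G)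
      rw [h.cP, Nat.card_eq_fintype_card, Fintype.card_subtype_compl, Fintype.card_subtype_eq,
        ← Nat.card_eq_fintype_card, h.card_syl]; rfl⟩).2 ⟨c, hc⟩
    exact ⟨u, u.2, congrArg Subtype.val hu⟩
  · rcases (toPermHom G (Sylow r G)).normal_ker.eq_bot_or_eq_top with e | e
    · exact mem_bot.1 (e ▸ Equiv.ext hg)
    · obtain ⟨g, rfl⟩ := exists_smul_eq G P Q
      exact absurd (Equiv.congr_fun (e.ge (mem_top g)) P) hne

theorem card_H [IsSimpleGroup G] {P Q : Sylow r G} (hne : Q ≠ P) :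
    Nat.card (Hs G P Q) = q ^ 2 - 1 := by
  have h1 := h.sp hne
  have h2 := Nat.card_eq_of_bijective (fun x : P × Hs G P Q => (⟨x.1 * x.2,
    mul_mem (h1.fix _ x.1.2) x.2.2.1⟩ : stabilizer G P)) ⟨fun x y e => by
      have e : (x.1 : G) * x.2 = y.1 * y.2 := congrArg Subtype.val e
      have e' := h1.uniq x.1.2 y.1.2 (by
        simpa only [mul_smul, show (x.2 : G) • Q = Q from x.2.2.2,
          show (y.2 : G) • Q = Q from y.2.2.2] using congrArg (· • Q) e)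
      rw [e', mul_right_inj] at e
      exact Prod.ext (Subtype.ext e') (Subtype.ext e), fun g =>
        let ⟨u, hu, k, hk, e⟩ := h1.exists_UH g.2
        ⟨(⟨u, hu⟩, ⟨k, hk⟩), Subtype.ext e.symm⟩⟩
  rw [Nat.card_prod, h.cP, Sylow.stabilizer_eq_normalizer, h.card_norm] at h2
  rcases h.hq with ⟨rfl, -⟩ | ⟨rfl, -⟩ <;> omega

theorem inv {P : Sylow r G} {t w : G} (ht : t • P = P) (h2 : orderOf t = 2) (hw : w ∈ P) :
    t * w * t⁻¹ * w ∈ Zc P := by
  have t2 : t * t = 1 := by rw [← sq, ← h2, pow_orderOf_eq_one]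
  obtain ⟨m, hm, ho⟩ : ∃ m, q ^ 3 + 1 = m * 2 ∧ ¬ 2 ∣ q ^ 3 := by
    rcases h.hq with ⟨rfl, -⟩ | ⟨rfl, -⟩
    exacts [⟨172, by norm_num⟩, ⟨365, by norm_num⟩]
  set y := w * (t * w⁻¹ * t⁻¹) with hy
  have h3 : y ∈ P := mul_mem hw (conj_mem ht (inv_mem hw))
  have h4 : y ^ m * y ^ m = y := by
    rw [← sq, ← pow_mul, ← hm, pow_succ, ← h.cP P, orderOf_dvd_iff_pow_eq_one.1
      (orderOf_dvd_natCard _ h3), one_mul]
  have h5 : t * y ^ m * t⁻¹ = (y ^ m)⁻¹ := by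
    rw [← conj_pow, ← inv_pow, hy]
    simp only [inv_eq_of_mul_eq_one_right t2, mul_inv_rev, inv_inv, mul_assoc, t2, mul_one]
  have h6 := pow_mem h3 m
  generalize y ^ m = x at *
  have h7 : t * w * t⁻¹ = x⁻¹ * x⁻¹ * w := by rw [← mul_inv_rev, h4, hy]; group
  have h8 := h.comm_Zc (g := t) (mul_mem (inv_mem h6) hw) (by
    rw [← mul_inv_eq_iff_eq_mul]
    calc _ = (t * x * t⁻¹)⁻¹ * (t * w * t⁻¹) := by group
      _ = _ := by rw [h5, h7]; group) (h2 ▸ ho)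
  rw [h7, mul_assoc x⁻¹, h8.2 _ (inv_mem h6), mul_assoc]
  exact mul_mem h8 h8

theorem inv_uniq [IsSimpleGroup G] {P Q : Sylow r G} (hne : Q ≠ P) {s t : G} (hs : s ∈ Hs G P Q)
    (ht : t ∈ Hs G P Q) (s2 : orderOf s = 2) (t2 : orderOf t = 2) : s = t := by
  obtain ⟨w, hw, h1⟩ := h.exB P
  have h2 := h.card_H hne ▸ orderOf_dvd_natCard _ (mul_mem hs ht)
  have h3 : (q ^ 2 - 1).Coprime (q ^ 3) := by rcases h.hq with ⟨rfl, -⟩ | ⟨rfl, -⟩ <;> norm_num
  have h4 := ord_dvd (s * t) {x | w⁻¹ * x ∈ Zc P} (fun x hx => by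
    have k1 : x ∈ P := by simpa using mul_mem hw hx.1
    have k2 := h.inv ht.1 t2 k1
    have k3 := h.inv hs.1 s2 (conj_mem ht.1 k1)
    have k4 := mul_mem (mul_mem hx k3) (inv_mem k2)
    rw [mul_assoc w⁻¹, k3.2 x k1] at k4
    change _ ∈ Zc P
    convert k4 using 1
    group) fun x hx k hk e => by
      by_contra k1
      have k2 : x ∈ P := by simpa using mul_mem hw hx.1
      have k3 := h.comm_Zc k2 e fun e' => k1 (orderOf_eq_one_iff.1
        (Nat.eq_one_of_dvd_coprimes h3 ((orderOf_dvd_of_mem_zpowers hk).trans h2) e'))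
      exact h1 (by simpa using mul_mem k3 (inv_mem (show _ ∈ Zc P from hx)))
  rw [show {x | w⁻¹ * x ∈ Zc P} = (w⁻¹ * ·) ⁻¹' Zc P from rfl,
    Set.ncard_preimage_of_injective_subset_range (mul_right_injective _) 
      (fun y _ => ⟨w * y, by simp⟩), ← Nat.card_coe_set_eq, SetLike.coe_sort_coe, h.card_Zc] at h4
  have h5 := orderOf_eq_one_iff.1 (Nat.eq_one_of_dvd_coprimes h3 h2
    (h4.trans (dvd_pow_self q (by norm_num))))
  rw [eq_inv_of_mul_eq_one_left h5, inv_eq_iff_mul_eq_one, ← sq, ← t2, pow_orderOf_eq_one]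

theorem comm {P : Sylow r G} {t u v : G} (ht : t • P = P) (h2 : orderOf t = 2) (hu : u ∈ P)
    (hv : v ∈ P) : u⁻¹ * v⁻¹ * u * v ∈ Zc P := by
  have h3 := h.inv ht h2 hu
  have h4 := h.inv ht h2 hv
  have h5 := mul_mem (inv_mem (mul_mem h3 h4)) (h.inv ht h2 (mul_mem hu hv))
  convert h5 using 1
  rw [eq_inv_mul_iff_mul_eq, mul_assoc _ (t * v * t⁻¹ * v), mul_assoc _ u v, mul_assoc u⁻¹,
    ← mul_assoc (t * v * t⁻¹ * v), ← h4.2 _ (inv_mem hu)]
  group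

end UD

theorem four [Fact (Nat.Prime 7)] [IsSimpleGroup G] {z : G} (h : UD G 7 7 z) {P : Sylow 7 G}
    {j : G} (hj : j • P = P) (j4 : orderOf j = 4) {a : G} (ha : a ∈ Zc P) : j * a = a * j := by
  have ht : (j ^ 2) • P = P := by rw [sq, mul_smul, hj, hj]
  have t2 : orderOf (j ^ 2) = 2 := by rw [orderOf_pow' _ two_ne_zero, j4]; rfl
  have hZ : ∀ y, j * y * j⁻¹ ∈ Zc P → y ∈ Zc P := fun y hy => by
    simpa [mul_assoc] using h.Zc_conj (inv_smul_eq_iff.2 hj.symm) hy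
  obtain ⟨x, hx, h1⟩ := h.exB P
  have hx' := UD.conj_mem hj hx
  have h2 := h.comm ht t2 hx hx'
  have h3 := h.inv ht t2 hx
  by_cases h4 : x⁻¹ * (j * x * j⁻¹)⁻¹ * x * (j * x * j⁻¹) = 1
  · exfalso
    have k1 : ∀ y ∈ P, y ∉ Zc P → Zc P ≤ C[y] ⊓ P ∧ Nat.card (C[y] ⊓ P : Subgroup G) = 7 ^ 2 :=
      fun y hy y1 => by
        have e1 : Zc P ≤ C[y] ⊓ P := fun c hc => ⟨mem_C.2 (hc.2 y hy).symm, hc.1⟩
        obtain ⟨i, hi, e⟩ := (Nat.dvd_prime_pow Fact.out).1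
          (h.cP P ▸ card_dvd_of_le (inf_le_right : C[y] ⊓ P ≤ P))
        have e2 : ¬ 7 ^ i ≤ 7 := fun e2 => y1
          ((eq_of_le_of_card_ge e1 (by rwa [e, h.card_Zc])).ge ⟨mem_C.2 rfl, hy⟩)
        have e3 : i ≠ 3 := fun e3 => y1 ⟨hy, fun c hc => mem_C.1 ((eq_of_le_of_card_ge
          (inf_le_right : C[y] ⊓ P ≤ P) (by rw [e, h.cP, e3])).ge hc).1⟩
        refine ⟨e1, e.trans ?_⟩
        interval_cases i <;> simp_all
    obtain ⟨k2, k3⟩ := k1 x hx h1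
    have k4 : j * x * j⁻¹ ∈ C[x] ⊓ (P : Subgroup G) := ⟨mem_C.2 (by
      rw [mul_assoc, ← mul_inv_rev, inv_mul_eq_one] at h4; exact h4), hx'⟩
    have k5 : C[x] ⊓ (P : Subgroup G) = C[j * x * j⁻¹] ⊓ P := eq_of_le_of_card_ge (fun c hc =>
      ⟨mem_C.2 (congrArg Subtype.val ((IsPGroup.isMulCommutative_of_card_eq_prime_sq
        k3).is_comm.comm ⟨c, hc⟩ ⟨_, k4⟩)), hc.2⟩) (by rw [k3, (k1 _ hx' fun e => h1 (hZ _ e)).2])
    have k6 := ord_dvd j ((C[x] ⊓ P : Subgroup G) \ Zc P) (fun y hy => ⟨k5.ge ⟨mem_C.2 (by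
      rw [conj_mul, mem_C.1 hy.1.1, conj_mul]), UD.conj_mem hj hy.1.2⟩, fun e => hy.2 (hZ _ e)⟩)
      fun y hy k hk e => by
        by_contra e1
        exact hy.2 (h.comm_Zc hy.1.2 e fun e' => e1 (orderOf_eq_one_iff.1
          (Nat.eq_one_of_dvd_coprimes (by norm_num : Nat.Coprime 4 (7 ^ 3))
            (j4 ▸ orderOf_dvd_of_mem_zpowers hk) e')))
    rw [Set.ncard_sdiff k2, ← Nat.card_coe_set_eq, ← Nat.card_coe_set_eq, SetLike.coe_sort_coe,
      SetLike.coe_sort_coe, k3, h.card_Zc, j4] at k6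
    omega
  · have k1 : x⁻¹ * (j * x * j⁻¹)⁻¹ * x * (j * x * j⁻¹) ∈ C[j] := by
      rw [mem_C, eq_comm, ← mul_inv_eq_iff_eq_mul]
      have e1 := h2.2 x hx
      have e2 := h3.2 _ (mul_mem hx' (inv_mem hx))
      have e3 := h3.2 _ hx
      generalize hc : j ^ 2 * x * (j ^ 2)⁻¹ * x = c at *
      have e4 : j * (j * x * j⁻¹) * j⁻¹ = c * x⁻¹ := by rw [← hc, sq]; group
      calc _ = (j * x * j⁻¹)⁻¹ * (j * (j * x * j⁻¹) * j⁻¹)⁻¹ * (j * x * j⁻¹) *
            (j * (j * x * j⁻¹) * j⁻¹) := by group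
        _ = (j * x * j⁻¹)⁻¹ * x * c⁻¹ * (j * x * j⁻¹ * x⁻¹ * (x * c)) * x⁻¹ := by rw [e4]; group
        _ = x * (x⁻¹ * (j * x * j⁻¹)⁻¹ * x * (j * x * j⁻¹)) * x⁻¹ := by
          rw [e3, ← mul_assoc _ c x, e2]; group
        _ = _ := by rw [e1]; group
    have k2 := card_dvd_of_le (inf_le_right : C[j] ⊓ Zc P ≤ _)
    rw [h.card_Zc, Nat.dvd_prime Fact.out] at k2
    rcases k2 with e | e
    · exact absurd (mem_bot.1 (card_eq_one.1 e ▸ (⟨k1, h2⟩ : _ ∈ C[j] ⊓ Zc P))) h4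
    · exact (mem_C.1 ((eq_of_le_of_card_ge (inf_le_right : C[j] ⊓ Zc P ≤ _)
        (by rw [e, h.card_Zc])).ge ha).1).symm

theorem cyclic7 [Fact (Nat.Prime 7)] [IsSimpleGroup G] {z : G} (h : UD G 7 7 z) {P Q : Sylow 7 G}
    (hne : Q ≠ P) : IsCyclic (Hs G P Q) := by
  obtain ⟨a, ha, a1⟩ := h.exZ P
  have h1 := h.card_H hne
  have h2 := H25.relIndex_mul_card_inf C[a] (Hs G P Q)
  rw [← H32.ncard_conj_orbit, h1, show {y | ∃ k ∈ Hs G P Q, k * a * k⁻¹ = y} =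
    {y | y ∈ P ∧ IsConj z y} from Set.ext fun y => (Iff.trans ⟨fun ⟨k, hk, e⟩ =>
      ⟨k, Sylow.smul_eq_iff_mem_normalizer.1 hk.1, e⟩, fun ⟨g, hg, e⟩ => by
        obtain ⟨u, hu, k, hk, rfl⟩ := (h.sp hne).exists_UH (Sylow.smul_eq_iff_mem_normalizer.2 hg)
        refine ⟨k, hk, Eq.trans ?_ e⟩
        rw [← mul_inv_cancel_right (k * a * k⁻¹) u, ← (h.Zc_conj hk.1 ha).2 u hu]
        group⟩ (h.exists_conj ha a1)), h.cnt] at h2
  have h3 : zpowers a = Zc P := eq_of_le_of_card_ge (zpowers_le.2 ha) (by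
    have := orderOf_dvd_natCard _ ha
    rw [h.card_Zc, Nat.dvd_prime Fact.out, orderOf_eq_one_iff] at this
    rw [h.card_Zc, Nat.card_zpowers, this.resolve_left a1])
  refine cyc48 h1 (K := C[a].subgroupOf _) (by
    rw [← inf_subgroupOf_right, Nat.card_congr (subgroupOfEquivOfLe inf_le_right).toEquiv]
    omega) (fun x y => ?_) (fun x hx => mem_C.2 (four h x.2.1 ((orderOf_coe x).trans hx) ha))
    fun s t hs ht => Subtype.ext
      (h.inv_uniq hne s.2 t.2 ((orderOf_coe s).trans hs) ((orderOf_coe t).trans ht))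
  obtain ⟨i, hi⟩ := mem_zpowers_iff.1 (h3.ge (h.Zc_conj x.2.1 ha))
  obtain ⟨k, hk⟩ := mem_zpowers_iff.1 (h3.ge (h.Zc_conj y.2.1 ha))
  have h4 : (x : G) * (y * a * (y : G)⁻¹) * (x : G)⁻¹ = y * (x * a * (x : G)⁻¹) * (y : G)⁻¹ := by
    rw [← hk, ← conj_zpow, ← hi, ← conj_zpow, ← hk, ← zpow_mul, ← zpow_mul, mul_comm]
  refine mem_C.2 ?_
  change (x : G)⁻¹ * (y : G)⁻¹ * x * y * a = a * ((x : G)⁻¹ * (y : G)⁻¹ * x * y)
  calc _ = (x : G)⁻¹ * (y : G)⁻¹ * (x * (y * a * (y : G)⁻¹) * (x : G)⁻¹) * x * y := by group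
    _ = _ := by rw [h4]; group

end Cfsg.Agent.H56.Uq
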