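import Cfsg.Agent.H56.Sieve3
import Cfsg.Agent.H56.DegRed

/-! Simple groups of orders dividing nine given numbers: the certificates. -/

set_option autoImplicit false

namespace Cfsg.Agent.H56.Uq

open Cfsg Subgroup H35 H14 H16 Sv

/-- the data of a certificate -/
structure Dat where
  /-- the order -/
  n : ℕ
  /-- the prime -/
  p : ℕ
  /-- the inertial index -/
  e : ℕ
  /-- the degrees -/
  l : List ℕ
  /-- the factorisation -/
  ps : List (ℕ × ℕ)
  /-- the prime powers -/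
  PP : List ℕ
  /-- the divisors -/
  DV : List ℕ
  /-- the plans -/
  L : List (ℕ × Pl)

/-- the certificate -/
noncomputable def Dat.cert (d : Dat) : Bool :=
  decide ((∀ x ∈ d.ps, x.1.Prime) ∧ (d.ps.map fun x => x.1 ^ x.2).prod = d.n ∧ d.p.Prime ∧
    ¬ d.p ^ 2 ∣ d.n ∧ d.p ∣ d.n ∧ d.p ≠ d.n) &&
  (dvOK d.ps d.DV && (ppOK d.ps d.PP d.DV && (allL d.DV (fun a => decide (a = 1 ∨
    (a - 1) % d.p ≠ 0 ∨ ∃ x ∈ d.ps, ∃ y ∈ d.ps, x.1 ≠ y.1 ∧ a % x.1 = 0 ∧ a % y.1 = 0)) &&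
  (sieve d.ps d.PP d.DV (fun _ _ => false) (fun _ _ => false) d.p
    (d.DV.filter fun a => decide (a % d.p = 0 ∧ a ≠ d.n)) d.L &&
  (sieve d.ps d.PP d.DV (fun q v => decide (q = d.p ∧ v = 1)) (fun _ _ => false) d.p [d.n] d.L &&
  locs d.DV d.p d.n fun v e => bimp (Nat.beq v 1) (Nat.beq e d.e && (d.l.isEmpty ||
    degK (d.ps.map Prod.fst) d.DV d.p d.n 1 e (fun _ => true) [] fun l => decide (l = d.l))))))))

variable {G : Type*} [Group G] [Finite G] {d : Dat} (h : d.cert = true)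
include h

theorem Dat.base : d.p.Prime ∧ ¬ d.p ^ 2 ∣ d.n ∧ ¬ d.n.Prime ∧ BigP d.n d.p ∧ d.p ∣ d.n := by
  simp only [Dat.cert, Bool.and_eq_true, decide_eq_true_eq] at h
  obtain ⟨⟨h1, h2, h3, h4, h5⟩, h6, -, h7, -⟩ := h
  exact ⟨h3, h4, fun e => h5.2 ((Nat.prime_dvd_prime_iff_eq h3 e).1 h5.1), h2 ▸ bigP_of h1 h6 h7,
    h5.1⟩

variable [IsSimpleGroup G]

theorem Dat.card (h0 : ¬ (Nat.card G).Prime) (hn : Nat.card G ∣ d.n) (hp : d.p ∣ Nat.card G) :
    Nat.card G = d.n := by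
  simp only [Dat.cert, Bool.and_eq_true, decide_eq_true_eq] at h
  obtain ⟨⟨h1, h2, -⟩, h6, h7, -, h8, -⟩ := h
  by_contra h9
  exact sieve_sound h1 h6 h7 h0 (h2 ▸ hn) (fun _ _ _ => rfl) (by simp) h8 (List.mem_filter.2
    ⟨mem_DV h1 h6 (h2 ▸ hn), decide_eq_true ⟨Nat.mod_eq_zero_of_dvd hp, h9⟩⟩)

theorem Dat.loc (hn : Nat.card G = d.n) [Fact d.p.Prime] (S : Setup G d.p) :
    Nat.card S.V = 1 ∧ S.V.index = d.e ∧ (d.l ≠ [] → ∀ P : PB S,
      ∃ L : List (IrrCharacter G), P.Z.val = L ∧ L.map dg = d.l) := by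
  have h5 := (Dat.base h).2.2.1
  simp only [Dat.cert, Bool.and_eq_true, decide_eq_true_eq] at h
  obtain ⟨⟨h1, h2, -⟩, h6, h7, -, -, h8, h9⟩ := h
  have hV : Nat.card S.V = 1 := by
    by_contra hV
    refine sieve_sound (G := G) h1 h6 h7 (hn ▸ h5) (by rw [h2, hn])
      (fun q _ T => decide_eq_false ?_) (by simp) h8 (by simp [hn])
    rintro ⟨rfl, h3⟩
    have := (card_cent_eq T S.hx).symm.trans S.card_centralizer
    rw [h3] at this
    exact hV (Nat.eq_of_mul_eq_mul_left (Fact.out : d.p.Prime).pos this).symm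
  have C : Ctx G (d.ps.map Prod.fst) d.DV d.n := ⟨H36.commutator_eq_top_of_simple (hn ▸ h5), hn,
    by simpa using fun a b h => h1 (a, b) h, fun a ha => mem_DV h1 h6 (h2 ▸ ha)⟩
  have h10 := bimp_iff.1 (locs_sound C S h9) (beq_iff.2 hV)
  simp only [Bool.and_eq_true, Bool.or_eq_true, beq_iff, List.isEmpty_iff] at h10
  exact ⟨hV, h10.1, fun hl P => (degK_sound C P hV rfl (h10.2.resolve_left hl) (fun _ _ => rfl)
    (by simp)).imp fun L hL => ⟨hL.1, of_decide_eq_true hL.2⟩⟩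

omit h

/-- the data for the order 6072 -/
def d0 : Dat := ⟨6072, 23, 11, [], [(2, 3), (3, 1), (11, 1), (23, 1)], [2, 4, 8, 3, 11, 23],
  [6072, 3036, 2024, 1518, 1012, 759, 552, 506, 276, 264, 253, 184, 138, 132, 92, 88, 69, 66, 46,
  44, 33, 24, 23, 22, 12, 11, 8, 6, 4, 3, 2, 1], [(6072, lc 23 [(1, .asm)])]⟩

theorem c0 : d0.cert = true := by decide +kernel

/-- the data for the order 7800 -/
def d1 : Dat := ⟨7800, 13, 2, [], [(2, 3), (3, 1), (5, 2), (13, 1)], [2, 4, 8, 3, 5, 25, 13],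
  [7800, 3900, 2600, 1950, 1560, 1300, 975, 780, 650, 600, 520, 390, 325, 312, 300, 260, 200, 195,
  156, 150, 130, 120, 104, 100, 78, 75, 65, 60, 52, 50, 40, 39, 30, 26, 25, 24, 20, 15, 13, 12,
  10, 8, 6, 5, 4, 3, 2, 1], [(7800, lc 13 [(1, .asm)])]⟩

theorem c1 : d1.cert = true := by decide +kernel

/-- the data for the order 51888 -/
def d2 : Dat := ⟨51888, 47, 23, [], [(2, 4), (3, 1), (23, 1), (47, 1)], [2, 4, 8, 16, 3, 23, 47],
  [51888, 25944, 17296, 12972, 8648, 6486, 4324, 3243, 2256, 2162, 1128, 1104, 1081, 752, 564,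
  552, 376, 368, 282, 276, 188, 184, 141, 138, 94, 92, 69, 48, 47, 46, 24, 23, 16, 12, 8, 6, 4, 3,
  2, 1], [(51888, lc 47 [(1, .asm)])]⟩

theorem c2 : d2.cert = true := by decide +kernel

/-- the data for the order 265680 -/
def d3 : Dat := ⟨265680, 41, 2, [], [(2, 4), (3, 4), (5, 1), (41, 1)], [2, 4, 8, 16, 3, 9, 27, 81,
  5, 41], [265680, 132840, 88560, 66420, 53136, 44280, 33210, 29520, 26568, 22140, 17712, 16605,
  14760, 13284, 11070, 9840, 8856, 7380, 6642, 6480, 5904, 5535, 4920, 4428, 3690, 3321, 3280,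
  3240, 2952, 2460, 2214, 2160, 1968, 1845, 1640, 1620, 1476, 1296, 1230, 1107, 1080, 984, 820,
  810, 738, 720, 656, 648, 615, 540, 492, 432, 410, 405, 369, 360, 328, 324, 270, 246, 240, 216,
  205, 180, 164, 162, 144, 135, 123, 120, 108, 90, 82, 81, 80, 72, 60, 54, 48, 45, 41, 40, 36, 30,
  27, 24, 20, 18, 16, 15, 12, 10, 9, 8, 6, 5, 4, 3, 2, 1], [(265680, lc 41 [(1, .asm)])]⟩

theorem c3 : d3.cert = true := by decide +kernel

/-- the data for the order 29120 -/
def d4 : Dat := ⟨29120, 13, 4, [], [(2, 6), (5, 1), (7, 1), (13, 1)], [2, 4, 8, 16, 32, 64, 5, 7,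
  13], [29120, 14560, 7280, 5824, 4160, 3640, 2912, 2240, 2080, 1820, 1456, 1120, 1040, 910, 832,
  728, 560, 520, 455, 448, 416, 364, 320, 280, 260, 224, 208, 182, 160, 140, 130, 112, 104, 91,
  80, 70, 65, 64, 56, 52, 40, 35, 32, 28, 26, 20, 16, 14, 13, 10, 8, 7, 5, 4, 2, 1], [(29120, lc
  13 [(1, .asm)])]⟩

theorem c4 : d4.cert = true := by decide +kernel

/-- the data for the order 32537600 -/
def d5 : Dat := ⟨32537600, 41, 4, [], [(2, 10), (5, 2), (31, 1), (41, 1)], [2, 4, 8, 16, 32, 64,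
  128, 256, 512, 1024, 5, 25, 31, 41], [32537600, 16268800, 8134400, 6507520, 4067200, 3253760,
  2033600, 1626880, 1301504, 1049600, 1016800, 813440, 793600, 650752, 524800, 508400, 406720,
  396800, 325376, 262400, 254200, 209920, 203360, 198400, 162688, 158720, 131200, 127100, 104960,
  101680, 99200, 81344, 79360, 65600, 63550, 52480, 50840, 49600, 41984, 40672, 39680, 32800,
  31775, 31744, 26240, 25600, 25420, 24800, 20992, 20336, 19840, 16400, 15872, 13120, 12800,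
  12710, 12400, 10496, 10168, 9920, 8200, 7936, 6560, 6400, 6355, 6200, 5248, 5120, 5084, 4960,
  4100, 3968, 3280, 3200, 3100, 2624, 2560, 2542, 2480, 2050, 1984, 1640, 1600, 1550, 1312, 1280,
  1271, 1240, 1025, 1024, 992, 820, 800, 775, 656, 640, 620, 512, 496, 410, 400, 328, 320, 310,
  256, 248, 205, 200, 164, 160, 155, 128, 124, 100, 82, 80, 64, 62, 50, 41, 40, 32, 31, 25, 20,
  16, 10, 8, 5, 4, 2, 1], [(50840, (lc 41 [(1, (.deg 41 [] (lc 31 [])))])), (32537600, lc 41 [(1,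
  .asm)])]⟩

theorem c5 : d5.cert = true := by decide +kernel

/-- the data for the order 5663616 -/
def d6 : Dat := ⟨5663616, 43, 3, [42, 343, 384], [(2, 7), (3, 1), (7, 3), (43, 1)], [2, 4, 8, 16,
  32, 64, 128, 3, 7, 49, 343, 43], [5663616, 2831808, 1887872, 1415904, 943936, 809088, 707952,
  471968, 404544, 353976, 269696, 235984, 202272, 176988, 134848, 131712, 117992, 115584, 101136,
  88494, 67424, 65856, 58996, 57792, 50568, 44247, 43904, 38528, 33712, 32928, 29498, 28896,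
  25284, 21952, 19264, 18816, 16856, 16512, 16464, 14749, 14448, 12642, 10976, 9632, 9408, 8428,
  8256, 8232, 7224, 6321, 6272, 5504, 5488, 4816, 4704, 4214, 4128, 4116, 3612, 3136, 2752, 2744,
  2688, 2408, 2352, 2107, 2064, 2058, 1806, 1568, 1376, 1372, 1344, 1204, 1176, 1032, 1029, 903,
  896, 784, 688, 686, 672, 602, 588, 516, 448, 392, 384, 344, 343, 336, 301, 294, 258, 224, 196,
  192, 172, 168, 147, 129, 128, 112, 98, 96, 86, 84, 64, 56, 49, 48, 43, 42, 32, 28, 24, 21, 16,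
  14, 12, 8, 7, 6, 4, 3, 2, 1], [(5663616, lc 43 [(1, .asm)])]⟩

theorem c6 : d6.cert = true := by decide +kernel

/-- the data for the order 5515776 -/
def d7 : Dat := ⟨5515776, 19, 3, [56, 512, 567], [(2, 9), (3, 4), (7, 1), (19, 1)], [2, 4, 8, 16,
  32, 64, 128, 256, 512, 3, 9, 27, 81, 7, 19], [5515776, 2757888, 1838592, 1378944, 919296,
  787968, 689472, 612864, 459648, 393984, 344736, 306432, 290304, 262656, 229824, 204288, 196992,
  172368, 153216, 145152, 131328, 114912, 102144, 98496, 96768, 87552, 86184, 76608, 72576, 68096,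
  65664, 57456, 51072, 49248, 48384, 43776, 43092, 41472, 38304, 36288, 34048, 32832, 32256,
  29184, 28728, 25536, 24624, 24192, 21888, 21546, 20736, 19152, 18144, 17024, 16416, 16128,
  14592, 14364, 13824, 12768, 12312, 12096, 10944, 10773, 10752, 10368, 9728, 9576, 9072, 8512,
  8208, 8064, 7296, 7182, 6912, 6384, 6156, 6048, 5472, 5376, 5184, 4864, 4788, 4608, 4536, 4256,
  4104, 4032, 3648, 3591, 3584, 3456, 3192, 3078, 3024, 2736, 2688, 2592, 2432, 2394, 2304, 2268,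
  2128, 2052, 2016, 1824, 1792, 1728, 1596, 1539, 1536, 1512, 1368, 1344, 1296, 1216, 1197, 1152,
  1134, 1064, 1026, 1008, 912, 896, 864, 798, 768, 756, 684, 672, 648, 608, 576, 567, 532, 513,
  512, 504, 456, 448, 432, 399, 384, 378, 342, 336, 324, 304, 288, 266, 256, 252, 228, 224, 216,
  192, 189, 171, 168, 162, 152, 144, 133, 128, 126, 114, 112, 108, 96, 84, 81, 76, 72, 64, 63, 57,
  56, 54, 48, 42, 38, 36, 32, 28, 27, 24, 21, 19, 18, 16, 14, 12, 9, 8, 7, 6, 4, 3, 2, 1],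
  [(114912, (lc 19 [(1, (.deg 19 [(2, 0)] .no))])), (229824, (lc 19 [(2, (.cmb 19 2 19))])),
  (344736, (lc 19 [(1, (lc 7 [(1, (.deg 19 [] .no)), (8, (.deg 7 [(2, 7)] .no)), (36, (.deg 7 [(2,
  7)] .no))])), (3, (.deg 19 [(3, 19)] .no))])), (459648, (lc 19 [(4, (.deg 19 [(2, 19)] .no))])),
  (689472, (lc 19 [(6, (.deg 19 [(2, 19)] .no))])), (919296, (lc 19 [(8, (.deg 19 [(2, 19)]
  .no))])), (1378944, (lc 19 [(4, (.cmb 19 2 19)), (12, (.deg 19 [(2, 19)] .no))])), (1838592, (lc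
  19 [(16, (.deg 19 [(2, 19)] .no))])), (2757888, (lc 19 [(8, (.cmb 19 2 19)), (24, (.deg 19 [(2,
  19)] .no))])), (5515776, lc 19 [(1, .asm), (16, (.cmb 19 2 19)), (48, (.deg 19 [(2, 19)]
  .no))])]⟩

theorem c7 : d7.cert = true := by decide +kernel

/-- the data for the order 42573600 -/
def d8 : Dat := ⟨42573600, 73, 3, [72, 729, 800], [(2, 5), (3, 6), (5, 2), (73, 1)], [2, 4, 8, 16,
  32, 3, 9, 27, 81, 243, 729, 5, 25, 73], [42573600, 21286800, 14191200, 10643400, 8514720,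
  7095600, 5321700, 4730400, 4257360, 3547800, 2838240, 2660850, 2365200, 2128680, 1773900,
  1702944, 1576800, 1419120, 1330425, 1182600, 1064340, 946080, 886950, 851472, 788400, 709560,
  591300, 583200, 567648, 532170, 525600, 473040, 443475, 425736, 394200, 354780, 315360, 295650,
  291600, 283824, 266085, 262800, 236520, 212868, 197100, 194400, 189216, 177390, 175200, 157680,
  147825, 145800, 141912, 131400, 118260, 116640, 106434, 105120, 98550, 97200, 94608, 88695,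
  87600, 78840, 72900, 70956, 65700, 64800, 63072, 59130, 58400, 58320, 53217, 52560, 49275,
  48600, 47304, 43800, 39420, 38880, 36450, 35478, 35040, 32850, 32400, 31536, 29565, 29200,
  29160, 26280, 24300, 23652, 23328, 21900, 21600, 21024, 19710, 19440, 18225, 17739, 17520,
  16425, 16200, 15768, 14600, 14580, 13140, 12960, 12150, 11826, 11680, 11664, 10950, 10800,
  10512, 9855, 9720, 8760, 8100, 7884, 7776, 7300, 7290, 7200, 7008, 6570, 6480, 6075, 5913, 5840,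
  5832, 5475, 5400, 5256, 4860, 4380, 4320, 4050, 3942, 3888, 3650, 3645, 3600, 3504, 3285, 3240,
  2920, 2916, 2700, 2628, 2592, 2430, 2400, 2336, 2190, 2160, 2025, 1971, 1944, 1825, 1800, 1752,
  1620, 1460, 1458, 1440, 1350, 1314, 1296, 1215, 1200, 1168, 1095, 1080, 972, 900, 876, 864, 810,
  800, 730, 729, 720, 675, 657, 648, 600, 584, 540, 486, 480, 450, 438, 432, 405, 400, 365, 360,
  324, 300, 292, 288, 270, 243, 240, 225, 219, 216, 200, 180, 162, 160, 150, 146, 144, 135, 120,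
  108, 100, 96, 90, 81, 80, 75, 73, 72, 60, 54, 50, 48, 45, 40, 36, 32, 30, 27, 25, 24, 20, 18,
  16, 15, 12, 10, 9, 8, 6, 5, 4, 3, 2, 1], [(42573600, lc 73 [(1, .asm)])]⟩

theorem c8 : d8.cert = true := by decide +kernel

end Cfsg.Agent.H56.Uq
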